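import Mathlib
import Cfsg.Agent.Lib.Involutions.Counting
import Cfsg.Agent.Lib.Involutions.OrderFormula

/-!
# The Brauer–Suzuki–Wall situation: local facts

`C(t) = K⟨s⟩` with `K` abelian, `s` inverting `K`, `C_K(s) = ⟨t⟩`, `K` a TI subgroup off `C(t)`,
and one class of involutions.
-/

set_option autoImplicit false
set_option linter.unusedSectionVars false
set_option linter.style.haveILetI false
set_option linter.unusedVariables false

namespace Cfsg.Agent.BSWAbstract

universe u

variable {G : Type u} [Group G]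

/-- The hypotheses of the abstract Brauer–Suzuki–Wall theorem. -/
structure Setup (t s : G) (K : Subgroup G) : Prop where
  ht : orderOf t = 2
  hs : orderOf s = 2
  comm : IsMulCommutative K
  htK : t ∈ K
  hsK : s ∉ K
  hsH : s ∈ Subgroup.centralizer ({t} : Set G)
  gen : K ⊔ Subgroup.zpowers s = Subgroup.centralizer ({t} : Set G)
  cK : K ⊓ Subgroup.centralizer ({s} : Set G) = Subgroup.zpowers t
  inv : ∀ x ∈ K, s * x * s⁻¹ = x⁻¹
  ti : ∀ g : G, g ∉ Subgroup.centralizer ({t} : Set G) →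
    K ⊓ K.map (MulAut.conj g).toMonoidHom = ⊥
  conj : ∀ x y : G, orderOf x = 2 → orderOf y = 2 → IsConj x y

theorem mem_cent {x g : G} : g ∈ Subgroup.centralizer ({x} : Set G) ↔ g * x = x * g :=
  Subgroup.mem_centralizer_singleton_iff

variable {t s : G} {K : Subgroup G} (h : Setup t s K)
include h

theorem Setup.t_ne : t ≠ 1 := by
  intro e; have := h.ht; rw [e, orderOf_one] at this; omega

theorem Setup.s_ne : s ≠ 1 := fun e => h.hsK (e ▸ K.one_mem)

theorem Setup.t_mul : t * t = 1 := by rw [← sq, ← h.ht, pow_orderOf_eq_one]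

theorem Setup.s_mul : s * s = 1 := by rw [← sq, ← h.hs, pow_orderOf_eq_one]

theorem Setup.s_inv : s⁻¹ = s := inv_eq_of_mul_eq_one_right h.s_mul

theorem Setup.t_inv : t⁻¹ = t := inv_eq_of_mul_eq_one_right h.t_mul

theorem Setup.comm' {a b : G} (ha : a ∈ K) (hb : b ∈ K) : a * b = b * a :=
  congrArg Subtype.val (h.comm.is_comm.comm (⟨a, ha⟩ : K) ⟨b, hb⟩)

theorem Setup.K_le : K ≤ Subgroup.centralizer ({t} : Set G) := fun x hx =>
  mem_cent.2 (h.comm' hx h.htK)

theorem Setup.s_smul {a : G} (ha : a ∈ K) : s * a = a⁻¹ * s := by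
  rw [← h.inv a ha, inv_mul_cancel_right]

theorem Setup.mem_H {g : G} (hg : g ∈ Subgroup.centralizer ({t} : Set G)) :
    g ∈ K ∨ s * g ∈ K := by
  let M : Subgroup G :=
    { carrier := {x | x ∈ K ∨ s * x ∈ K}
      one_mem' := Or.inl K.one_mem
      mul_mem' := by
        rintro a b (ha | ha) (hb | hb)
        · exact Or.inl (K.mul_mem ha hb)
        · refine Or.inr ?_
          rw [← mul_assoc, h.s_smul ha, mul_assoc]
          exact K.mul_mem (K.inv_mem ha) hb
        · refine Or.inr ?_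
          rw [← mul_assoc]
          exact K.mul_mem ha hb
        · refine Or.inl ?_
          have e : a * b = (s * a)⁻¹ * (s * b) := by
            have : a * b = (s * (s * a)) * (s * (s * b)) * 1 := by
              rw [← mul_assoc s s, h.s_mul, one_mul, ← mul_assoc s s, h.s_mul, one_mul, mul_one]
            rw [this, mul_one, h.s_smul ha, mul_assoc, ← mul_assoc s s, h.s_mul, one_mul]
          rw [e]
          exact K.mul_mem (K.inv_mem ha) hb
      inv_mem' := by
        rintro a (ha | ha)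
        · exact Or.inl (K.inv_mem ha)
        · refine Or.inr ?_
          have e : s * a⁻¹ = s * (s * a)⁻¹ * s := by group
          have e' := h.inv _ (K.inv_mem ha)
          rw [h.s_inv] at e'
          rw [e, e', inv_inv]
          exact ha }
  have hle : Subgroup.centralizer ({t} : Set G) ≤ M := by
    rw [← h.gen, sup_le_iff, Subgroup.zpowers_le]
    exact ⟨fun x hx => Or.inl hx, Or.inr (show s * s ∈ K by rw [h.s_mul]; exact K.one_mem)⟩
  exact hle hg

theorem Setup.coset_invol {a : G} (ha : s * a ∈ K) : orderOf a = 2 := by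
  have e : a = s * (s * a) := by rw [← mul_assoc, h.s_mul, one_mul]
  refine orderOf_eq_prime ?_ ?_
  · rw [sq]
    have e' := h.inv _ ha
    rw [h.s_inv] at e'
    calc a * a = s * (s * a) * (s * (s * a)) := by rw [← e]
      _ = s * (s * a) * s * (s * a) := by group
      _ = 1 := by rw [e', inv_mul_cancel]
  · intro e1
    rw [e1, mul_one] at ha
    exact h.hsK ha

theorem Setup.sq_one {x : G} (hx : x ∈ K) (h2 : x * x = 1) : x = 1 ∨ x = t := by
  have hm : x ∈ K ⊓ Subgroup.centralizer ({s} : Set G) := by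
    refine ⟨hx, mem_cent.2 ?_⟩
    rw [h.s_smul hx, inv_eq_of_mul_eq_one_right h2]
  rw [h.cK, Subgroup.mem_zpowers_iff] at hm
  obtain ⟨i, rfl⟩ := hm
  rcases Int.even_or_odd i with ⟨j, rfl⟩ | ⟨j, rfl⟩
  · left; rw [← two_mul, zpow_mul, zpow_ofNat, sq, h.t_mul, one_zpow]
  · right
    rw [zpow_add, zpow_one, zpow_mul, zpow_ofNat, sq, h.t_mul, one_zpow, one_mul]

theorem Setup.H_normalizes {g x : G} (hg : g ∈ Subgroup.centralizer ({t} : Set G)) (hx : x ∈ K) :
    g * x * g⁻¹ = x ∧ g ∈ K ∨ g * x * g⁻¹ = x⁻¹ ∧ s * g ∈ K := by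
  rcases h.mem_H hg with hk | hk
  · exact Or.inl ⟨by rw [h.comm' hk hx, mul_inv_cancel_right], hk⟩
  · refine Or.inr ⟨?_, hk⟩
    have e : g = s * (s * g) := by rw [← mul_assoc, h.s_mul, one_mul]
    conv_lhs => rw [e]
    rw [mul_inv_rev, ← mul_assoc, mul_assoc s (s * g) x, h.comm' hk hx, ← mul_assoc,
      mul_inv_cancel_right, h.inv x hx]

theorem Setup.conj_mem_K {g x : G} (hg : g ∈ Subgroup.centralizer ({t} : Set G)) (hx : x ∈ K) :
    g * x * g⁻¹ ∈ K := by
  rcases h.H_normalizes hg hx with ⟨e, -⟩ | ⟨e, -⟩ <;> rw [e]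
  exacts [hx, K.inv_mem hx]

theorem Setup.of_conj_mem {g x : G} (hx : x ∈ K) (hx1 : x ≠ 1) (hgx : g * x * g⁻¹ ∈ K) :
    g ∈ Subgroup.centralizer ({t} : Set G) := by
  by_contra hg
  have hm : g * x * g⁻¹ ∈ K ⊓ K.map (MulAut.conj g).toMonoidHom := ⟨hgx, x, hx, rfl⟩
  rw [h.ti g hg, Subgroup.mem_bot] at hm
  exact hx1 (conj_eq_one_iff.1 hm)

theorem Setup.cent_eq {x : G} (hx : x ∈ K) (hx2 : x * x ≠ 1) :
    Subgroup.centralizer ({x} : Set G) = K := by
  have hx1 : x ≠ 1 := fun e => hx2 (by rw [e, one_mul])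
  refine le_antisymm (fun g hg => ?_) (fun g hg => mem_cent.2 (h.comm' hg hx))
  have e : g * x * g⁻¹ = x := by rw [mem_cent.1 hg, mul_inv_cancel_right]
  rcases h.H_normalizes (h.of_conj_mem hx hx1 (by rw [e]; exact hx)) hx with ⟨-, hk⟩ | ⟨e', -⟩
  · exact hk
  · exact (hx2 (mul_eq_one_iff_eq_inv.2 (e.symm.trans e'))).elim

theorem Setup.invert_mem {g x : G} (hx : x ∈ K) (hx1 : x ≠ 1) (hg : g * x * g⁻¹ = x⁻¹) :
    g ∈ Subgroup.centralizer ({t} : Set G) :=
  h.of_conj_mem hx hx1 (by rw [hg]; exact K.inv_mem hx)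

theorem Setup.card_H [Finite G] :
    Nat.card (Subgroup.centralizer ({t} : Set G)) = 2 * Nat.card K := by
  classical
  let f : K × Bool → Subgroup.centralizer ({t} : Set G) := fun p =>
    bif p.2 then ⟨s * p.1, Subgroup.mul_mem _ h.hsH (h.K_le p.1.2)⟩ else ⟨p.1, h.K_le p.1.2⟩
  have hf : Function.Bijective f := by
    refine ⟨?_, fun g => ?_⟩
    · rintro ⟨a, _ | _⟩ ⟨b, _ | _⟩ e <;> have e' := congrArg Subtype.val e
      · exact Prod.ext (Subtype.ext e') rfl
      · simp only [f, cond_true, cond_false] at e'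
        exact (h.hsK (by
          have : s = (a : G) * (b : G)⁻¹ := by rw [e', mul_inv_cancel_right]
          rw [this]; exact K.mul_mem a.2 (K.inv_mem b.2))).elim
      · simp only [f, cond_true, cond_false] at e'
        exact (h.hsK (by
          have : s = (b : G) * (a : G)⁻¹ := by rw [← e', mul_inv_cancel_right]
          rw [this]; exact K.mul_mem b.2 (K.inv_mem a.2))).elim
      · exact Prod.ext (Subtype.ext (mul_left_cancel e')) rfl
    · rcases h.mem_H g.2 with hg | hg
      · exact ⟨(⟨g, hg⟩, false), rfl⟩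
      · exact ⟨(⟨s * g, hg⟩, true), Subtype.ext (by
          simp only [f, cond_true]; rw [← mul_assoc, h.s_mul, one_mul])⟩
  rw [← Nat.card_eq_of_bijective f hf, Nat.card_prod, Nat.card_eq_fintype_card (α := Bool),
    Fintype.card_bool, mul_comm]

theorem Setup.k_even [Finite G] : Even (Nat.card K) := by
  rw [even_iff_two_dvd, ← h.ht]
  exact Subgroup.orderOf_dvd_natCard _ h.htK

theorem Setup.card_invol [Finite G] :
    Nat.card {u : G // orderOf u = 2} * (2 * Nat.card K) = Nat.card G := by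
  rw [← h.card_H, ← Involutions.OrderFormula.class_card_mul t]
  congr 1
  exact Nat.card_congr (Equiv.subtypeEquivRight fun u =>
    ⟨fun hu => h.conj t u h.ht hu, fun hu => by
      obtain ⟨c, hc⟩ := isConj_iff.1 hu
      rw [← hc, ← MulAut.conj_apply, MulEquiv.orderOf_eq, h.ht]⟩)

theorem Setup.index_odd [Finite G] :
    Odd (Subgroup.centralizer ({t} : Set G)).index := by
  haveI := Fact.mk Nat.prime_two
  have P : Sylow 2 G := Classical.arbitrary _
  have hP2 : 2 ∣ Nat.card G := by rw [← h.ht]; exact orderOf_dvd_natCard t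
  haveI : Nontrivial (P : Subgroup G) := by
    have := P.dvd_card_of_dvd_card hP2
    exact Finite.one_lt_card_iff_nontrivial.1 (by
      have := Nat.le_of_dvd Nat.card_pos this; omega)
  haveI := P.isPGroup'.center_nontrivial
  obtain ⟨z, hz⟩ := exists_prime_orderOf_dvd_card' 2 (G := Subgroup.center (P : Subgroup G)) (by
    obtain ⟨n, hn⟩ := (P.isPGroup'.to_subgroup (Subgroup.center _)).exists_card_eq
    have h1 := Finite.one_lt_card (α := Subgroup.center (P : Subgroup G))
    rw [hn] at h1 ⊢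
    exact dvd_pow_self 2 (fun e => by simp [e] at h1))
  have hzo : orderOf ((z : (P : Subgroup G)) : G) = 2 := by
    rw [Subgroup.orderOf_coe, Subgroup.orderOf_coe, hz]
  obtain ⟨c, hc⟩ := isConj_iff.1 (h.conj t _ h.ht hzo)
  have hle : (P : Subgroup G) ≤
      Subgroup.centralizer ({((z : (P : Subgroup G)) : G)} : Set G) := fun y hy =>
    mem_cent.2 (congrArg Subtype.val (Subgroup.mem_center_iff.1 z.2 ⟨y, hy⟩))
  have h2 : ¬ 2 ∣ (P : Subgroup G).index := P.not_dvd_index
  have hmap : (Subgroup.centralizer ({t} : Set G)).map ((MulAut.conj c : G ≃* G) : G →* G) =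
      Subgroup.centralizer ({((z : (P : Subgroup G)) : G)} : Set G) := by
    ext y
    rw [mem_cent, ← hc]
    constructor
    · rintro ⟨w, hw, rfl⟩
      have hw' := mem_cent.1 hw
      simp only [MonoidHom.coe_coe, MulAut.conj_apply]
      rw [show c * w * c⁻¹ * (c * t * c⁻¹) = c * (w * t) * c⁻¹ by group, hw']
      group
    · intro hy
      refine ⟨c⁻¹ * y * c, mem_cent.2 ?_, by simp [mul_assoc]⟩
      rw [show c⁻¹ * y * c * t = c⁻¹ * (y * (c * t * c⁻¹)) * c by group, hy]
      group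
  rw [← Nat.not_even_iff_odd, even_iff_two_dvd,
    ← Subgroup.index_map_equiv _ (MulAut.conj c),]
  rw [hmap]
  intro hd
  exact h2 (hd.trans (Subgroup.index_dvd_of_le hle))

/-- Involution pairs with product in `K`. -/
theorem Setup.card_pairs_K [Finite G] {x : G} (hx : x ∈ K) (hx1 : x ≠ 1) :
    Nat.card {u : G // orderOf u = 2 ∧ orderOf (u * x) = 2} = Nat.card K := by
  refine (Nat.card_eq_of_bijective (fun a : K => (⟨s * a, ?_, ?_⟩ :
    {u : G // orderOf u = 2 ∧ orderOf (u * x) = 2})) ⟨?_, ?_⟩).symm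
  · exact h.coset_invol (by rw [← mul_assoc, h.s_mul, one_mul]; exact a.2)
  · refine h.coset_invol ?_
    rw [← mul_assoc, ← mul_assoc, h.s_mul, one_mul]
    exact K.mul_mem a.2 hx
  · intro a b e
    exact Subtype.ext (mul_left_cancel (congrArg Subtype.val e))
  · rintro ⟨u, hu, hux⟩
    obtain ⟨hi, hne⟩ := (Involutions.Counting.mul_involution_iff hu).1 hux
    rcases h.mem_H (h.invert_mem hx hx1 hi) with hk | hk
    · rw [h.comm' hk hx, mul_inv_cancel_right] at hi
      rcases h.sq_one hx (mul_eq_one_iff_eq_inv.2 hi) with e | e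
      · exact (hx1 e).elim
      rcases h.sq_one hk (by rw [← sq, ← hu, pow_orderOf_eq_one]) with e' | e'
      · rw [e', orderOf_one] at hu; omega
      · exact (hne (e'.trans e.symm)).elim
    · exact ⟨⟨s * u, hk⟩, Subtype.ext (by
        show s * (s * u) = u
        rw [← mul_assoc, h.s_mul, one_mul])⟩

omit h in
/-- The non-identity elements conjugate into `K`. -/
def khat (K : Subgroup G) : Set G := {g | g ≠ 1 ∧ ∃ c : G, c⁻¹ * g * c ∈ K}

theorem Setup.mem_khat_of_invol {u : G} (hu : orderOf u = 2) : u ∈ khat K := by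
  refine ⟨fun e => by rw [e, orderOf_one] at hu; omega, ?_⟩
  obtain ⟨c, hc⟩ := isConj_iff.1 (h.conj t u h.ht hu)
  exact ⟨c, by rw [← hc]; simpa [mul_assoc] using h.htK⟩

theorem Setup.odd_cent [Finite G] {g : G} (hg1 : g ≠ 1) (hg : g ∉ khat K) :
    Odd (Nat.card (Subgroup.centralizer ({g} : Set G))) := by
  rw [← Nat.not_even_iff_odd, even_iff_two_dvd]
  intro hd
  obtain ⟨u, hu⟩ := exists_prime_orderOf_dvd_card' 2 hd
  have huo : orderOf (u : G) = 2 := by rw [Subgroup.orderOf_coe, hu]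
  obtain ⟨c, hc⟩ := isConj_iff.1 (h.conj t u h.ht huo)
  have hm : c⁻¹ * g * c ∈ Subgroup.centralizer ({t} : Set G) := by
    rw [mem_cent]
    have hug := mem_cent.1 u.2
    rw [← hc] at hug
    calc c⁻¹ * g * c * t = c⁻¹ * (g * (c * t * c⁻¹)) * c := by group
      _ = c⁻¹ * (c * t * c⁻¹ * g) * c := by rw [hug]
      _ = t * (c⁻¹ * g * c) := by group
  rcases h.mem_H hm with hk | hk
  · exact hg ⟨hg1, c, hk⟩
  · have := h.coset_invol hk
    rw [← MulAut.conj_inv_apply, MulEquiv.orderOf_eq] at this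
    exact hg (h.mem_khat_of_invol this)

open Classical in
/-- Summing a class function over the elements conjugate into `K`. -/
theorem Setup.sum_khat [Fintype G] {M : Type*} [AddCommMonoid M] (f : G → M)
    (hf : ∀ g c : G, f (c * g * c⁻¹) = f g) :
    (2 * Nat.card K) • ∑ y ∈ Finset.univ.filter (fun y => y ∈ khat K), f y =
      Nat.card G • ∑ x ∈ Finset.univ.filter (fun x => x ∈ K ∧ x ≠ 1), f x := by
  set S := Finset.univ.filter (fun x : G => x ∈ K ∧ x ≠ 1) with hS
  set T := Finset.univ.filter (fun y : G => y ∈ khat K) with hT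
  have h1 : ∑ p ∈ (Finset.univ : Finset G) ×ˢ S, f (p.1 * p.2 * p.1⁻¹) = Nat.card G • ∑ x ∈ S, f x := by
    rw [Finset.sum_product, Nat.card_eq_fintype_card, ← Finset.card_univ, ← Finset.sum_const]
    exact Finset.sum_congr rfl fun g _ => Finset.sum_congr rfl fun x _ => hf x g
  rw [← h1, ← Finset.sum_fiberwise_of_maps_to (g := fun p : G × G => p.1 * p.2 * p.1⁻¹) (t := T) (by
    rintro ⟨g, x⟩ hp
    simp only [Finset.mem_product, hS, Finset.mem_filter] at hp
    simp only [hT, Finset.mem_filter, Finset.mem_univ, true_and]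
    refine ⟨fun e => hp.2.2.2 ?_, g, ?_⟩
    · exact conj_eq_one_iff.1 e
    · simpa [mul_assoc] using hp.2.2.1), Finset.smul_sum]
  refine Finset.sum_congr rfl fun y hy => ?_
  simp only [hT, Finset.mem_filter, Finset.mem_univ, true_and] at hy
  obtain ⟨hy1, c, hc⟩ := hy
  rw [Finset.sum_congr rfl (g := fun _ => f y) (fun p hp => by rw [(Finset.mem_filter.1 hp).2]),
    Finset.sum_const, ← h.card_H, Nat.card_eq_fintype_card, ← Fintype.card_coe]
  congr 1
  refine Fintype.card_congr (Equiv.ofBijective (fun a : Subgroup.centralizer ({t} : Set G) =>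
    ⟨(c * a, (a : G)⁻¹ * (c⁻¹ * y * c) * a), ?_⟩) ⟨?_, ?_⟩)
  · simp only [Finset.mem_filter, Finset.mem_product, hS, Finset.mem_univ, true_and]
    refine ⟨⟨?_, fun e => hy1 ?_⟩, by group⟩
    · have := h.conj_mem_K (Subgroup.inv_mem _ a.2) hc
      rwa [inv_inv] at this
    · calc y = c * (a : G) * ((a : G)⁻¹ * (c⁻¹ * y * c) * a) * (c * (a : G))⁻¹ := by group
        _ = 1 := by rw [e]; group
  · intro a b e
    exact Subtype.ext (mul_left_cancel (congrArg (fun p => p.1.1) e))
  · rintro ⟨⟨g, x⟩, hp⟩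
    simp only [Finset.mem_filter, Finset.mem_product, hS, Finset.mem_univ, true_and] at hp
    obtain ⟨⟨hxK, hx1⟩, e⟩ := hp
    refine ⟨⟨c⁻¹ * g, h.of_conj_mem hxK hx1 ?_⟩, ?_⟩
    · rw [show c⁻¹ * g * x * (c⁻¹ * g)⁻¹ = c⁻¹ * (g * x * g⁻¹) * c by group, e]; exact hc
    · refine Subtype.ext (Prod.ext (by simp) ?_)
      show (c⁻¹ * g)⁻¹ * (c⁻¹ * y * c) * (c⁻¹ * g) = x
      rw [← e]; group

end Cfsg.Agent.BSWAbstract
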