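import Mathlib
import Cfsg.Prelude.Def_CaseTheorems
import Cfsg.Agent.Lib.Involutions.DihedralSylow
import Cfsg.Agent.Lib.Cores.Basic
import Cfsg.Agent.Lib.Involutions.BSW.Setup

/-!
# The Brauer–Suzuki–Wall situation from a dihedral Sylow 2-subgroup
-/

set_option autoImplicit false
set_option linter.unusedSectionVars false
set_option linter.unusedVariables false
set_option linter.style.haveILetI false

namespace Cfsg.Agent.BSWAbstract

open DihedralGroup

/-- A cyclic subgroup of index two of a dihedral group: the rest are involutions inverting it. -/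
theorem dihedral_outside {n : ℕ} (hn : 2 ≤ n) {C : Subgroup (DihedralGroup n)} (hC : IsCyclic C)
    (hidx : C.index = 2) {x : DihedralGroup n} (hx : x ∉ C) :
    x * x = 1 ∧ ∀ c ∈ C, x * c * x⁻¹ = c⁻¹ := by
  haveI : NeZero n := ⟨by omega⟩
  obtain ⟨⟨c, hc⟩, hgen⟩ := IsCyclic.exists_generator (α := C)
  have hcC : ∀ y ∈ C, y ∈ Subgroup.zpowers c := fun y hy => by
    obtain ⟨i, hi⟩ := Subgroup.mem_zpowers_iff.1 (hgen ⟨y, hy⟩)
    exact Subgroup.mem_zpowers_iff.2 ⟨i, congrArg Subtype.val hi⟩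
  have hcard : Nat.card C = n := by
    have h := C.card_mul_index
    rw [hidx, DihedralGroup.nat_card] at h
    omega
  have hord : orderOf c = n := by
    have hCz : C = Subgroup.zpowers c := le_antisymm hcC (Subgroup.zpowers_le.2 hc)
    rw [← Nat.card_zpowers, ← hCz, hcard]
  rcases eq_or_ne n 2 with rfl | hn2
  · -- everything has exponent two
    have h2 : ∀ z : DihedralGroup 2, z * z = 1 := by decide
    refine ⟨h2 x, fun y hy => ?_⟩
    have hinv : ∀ z : DihedralGroup 2, z⁻¹ = z := fun z => inv_eq_of_mul_eq_one_right (h2 z)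
    have hcomm : ∀ a b : DihedralGroup 2, a * b = b * a := fun a b => by
      calc a * b = (a * b)⁻¹ := (hinv _).symm
        _ = b * a := by rw [mul_inv_rev, hinv, hinv]
    rw [hcomm x y, mul_inv_cancel_right, hinv]
  rcases c with i | i
  swap
  · rw [orderOf_sr] at hord; omega
  have hle : C ≤ Subgroup.zpowers (r 1 : DihedralGroup n) := fun y hy => by
    obtain ⟨k, rfl⟩ := Subgroup.mem_zpowers_iff.1 (hcC y hy)
    refine Subgroup.zpow_mem _ ?_ k
    exact Subgroup.mem_zpowers_iff.2 ⟨(i.val : ℤ), by rw [zpow_natCast, r_one_pow, ZMod.natCast_zmod_val]⟩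
  have heq : C = Subgroup.zpowers (r 1 : DihedralGroup n) :=
    Subgroup.eq_of_le_of_card_ge hle (by rw [hcard, Nat.card_zpowers, orderOf_r_one])
  subst heq
  rcases x with j | j
  · exact absurd (Subgroup.mem_zpowers_iff.2 ⟨(j.val : ℤ), by
      rw [zpow_natCast, r_one_pow, ZMod.natCast_zmod_val]⟩) hx
  refine ⟨sr_mul_self j, fun y hy => ?_⟩
  obtain ⟨k, rfl⟩ := Subgroup.mem_zpowers_iff.1 hy
  simp [r_one_zpow]

/-- A cyclic subgroup of index two through a given central involution. -/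
theorem dihedral_cyclic_through {n : ℕ} (hn : 2 ≤ n) {z : DihedralGroup n} (hz : orderOf z = 2)
    (hcen : ∀ x, x * z = z * x) :
    ∃ C : Subgroup (DihedralGroup n), IsCyclic C ∧ C.index = 2 ∧ z ∈ C := by
  haveI : NeZero n := ⟨by omega⟩
  refine Classical.by_contradiction fun hno => ?_
  rcases eq_or_ne n 2 with rfl | hn2
  · refine hno ⟨Subgroup.zpowers z, inferInstance, ?_, Subgroup.mem_zpowers z⟩
    have h := (Subgroup.zpowers z).card_mul_index
    rw [Nat.card_zpowers, hz, DihedralGroup.nat_card] at h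
    omega
  refine hno ⟨Subgroup.zpowers (r 1), inferInstance, ?_, ?_⟩
  · have h := (Subgroup.zpowers (r 1 : DihedralGroup n)).card_mul_index
    rw [Nat.card_zpowers, orderOf_r_one, DihedralGroup.nat_card] at h
    exact Nat.eq_of_mul_eq_mul_left (by omega : 0 < n) (h.trans (mul_comm 2 n))
  · rcases z with i | i
    · exact Subgroup.mem_zpowers_iff.2 ⟨(i.val : ℤ), by rw [zpow_natCast, r_one_pow, ZMod.natCast_zmod_val]⟩
    · exfalso
      have h := hcen (r 1)
      rw [r_mul_sr, sr_mul_r] at h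
      have h2 : i - 1 = i + 1 := sr.inj h
      have h3 : ((2 : ℕ) : ZMod n) = 0 := by linear_combination -h2
      rw [ZMod.natCast_eq_zero_iff] at h3
      have := Nat.le_of_dvd (by omega) h3
      omega

universe u

variable {G : Type u} [Group G] [Finite G]

/-- The hypotheses of the dihedral form of the theorem give a `Setup`. -/
theorem setup_of_dihedral [IsSimpleGroup G] (S : Sylow 2 G) (n : ℕ)
    (hn : 2 ≤ n) (e : (S : Subgroup G) ≃* DihedralGroup n) (t : G) (ht : orderOf t = 2)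
    (htS : t ∈ (S : Subgroup G))
    (htZ : ∀ s ∈ (S : Subgroup G), s * t = t * s) (O : Subgroup G)
    (hO : O = (Cfsg.oddCore (Subgroup.centralizer ({t} : Set G))).map (Subgroup.centralizer ({t} : Set G)).subtype)
    (ha : O ≠ ⊥ → IsCyclic ((S : Subgroup G) ⊓ Subgroup.centralizer (O : Set G) : Subgroup G) ∧
      ((S : Subgroup G) ⊓ Subgroup.centralizer (O : Set G)).relIndex (S : Subgroup G) = 2)
    (hb : ∀ s ∈ (S : Subgroup G), s ∉ Subgroup.centralizer (O : Set G) → ∀ y ∈ O, s * y * s⁻¹ = y⁻¹)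
    (hc : ∀ Y : Subgroup G, Y ≤ O → Y ≠ ⊥ → Subgroup.normalizer (Y : Set G) ≤ Subgroup.centralizer ({t} : Set G)) :
    ∃ (s : G) (K : Subgroup G), Setup t s K := by
  classical
  set C := Subgroup.centralizer ({t} : Set G) with hCdef
  have htC : ∀ x ∈ C, x * t = t * x := fun x hx => Subgroup.mem_centralizer_singleton_iff.1 hx
  have hSC : (S : Subgroup G) ≤ C := fun x hx => Subgroup.mem_centralizer_singleton_iff.2 (htZ x hx)
  have hOC : O ≤ C := hO ▸ Subgroup.map_subtype_le _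
  have hOodd : Odd (Nat.card O) := by
    rw [hO, Subgroup.card_map_of_injective C.subtype_injective]
    exact Cores.oddCore_odd
  have hOn : ∀ g ∈ C, ∀ x ∈ O, g * x * g⁻¹ ∈ O := by
    intro g hg x hx
    rw [hO] at hx ⊢
    obtain ⟨y, hy, rfl⟩ := hx
    haveI : (Cfsg.oddCore C).Normal := Cores.pPrimeCore_normal 2
    exact ⟨⟨g, hg⟩ * y * ⟨g, hg⟩⁻¹, Subgroup.Normal.conj_mem ‹_› y hy _, rfl⟩
  -- `C = O S`
  have hdec : ∀ g ∈ C, ∃ o ∈ O, ∃ σ ∈ (S : Subgroup G), g = o * σ := by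
    obtain ⟨P, N, hN, hNP⟩ := Involutions.DihedralSylow.centralizer_complement S e hn ht
    set S' := (S : Subgroup G).subgroupOf C with hS'
    have hS'c : Nat.card S' = Nat.card (S : Subgroup G) :=
      Nat.card_congr (Subgroup.subgroupOfEquivOfLe hSC).toEquiv
    have hS'p : Nat.card S' = Nat.card (P : Subgroup C) := by
      rw [hS'c, S.card_eq_multiplicity, P.card_eq_multiplicity]
      have h1 : 2 ^ (Nat.card G).factorization 2 ∣ Nat.card C := by
        rw [← S.card_eq_multiplicity]; exact Subgroup.card_dvd_of_le hSC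
      congr 1
      exact le_antisymm ((Nat.Prime.pow_dvd_iff_le_factorization Nat.prime_two Nat.card_pos.ne').1 h1)
        ((Nat.factorization_le_iff_dvd Nat.card_pos.ne' Nat.card_pos.ne').2
          C.card_subgroup_dvd_card 2)
    have hcop : Nat.Coprime (Nat.card N) (Nat.card S') := by
      rw [hS'p, P.card_eq_multiplicity]
      refine Nat.Coprime.pow_right _ (Nat.coprime_two_right.2 ?_)
      rw [← Nat.not_even_iff_odd, even_iff_two_dvd, ← hNP.index_eq_card]
      exact P.not_dvd_index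
    have hcomp : N.IsComplement' S' :=
      Subgroup.isComplement'_of_coprime (by rw [hS'p]; exact hNP.card_mul_card) hcop
    intro g hg
    obtain ⟨⟨⟨o, ho⟩, σ, hσ⟩, hgo⟩ := hcomp.2 ⟨g, hg⟩
    haveI := hN
    have hNodd : Odd (Nat.card N) := by
      rw [← Nat.not_even_iff_odd, even_iff_two_dvd, ← hNP.index_eq_card]
      exact P.not_dvd_index
    refine ⟨o, hO ▸ ⟨o, Cores.le_oddCore hNodd ho, rfl⟩, σ, hσ, ?_⟩
    exact (congrArg Subtype.val hgo).symm
  -- the cyclic subgroup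
  obtain ⟨S₁, hS₁S, hS₁c, hS₁i, htS₁, hS₁O, hS₁out⟩ : ∃ S₁ : Subgroup G, S₁ ≤ S ∧ IsCyclic S₁ ∧
      (S₁.subgroupOf S).index = 2 ∧ t ∈ S₁ ∧ (∀ x ∈ S₁, ∀ y ∈ O, x * y = y * x) ∧
      (∀ s ∈ (S : Subgroup G), s ∉ S₁ → ∀ y ∈ O, s * y * s⁻¹ = y⁻¹) := by
    by_cases hO1 : O = ⊥
    · obtain ⟨C₀, hC₀, hi, hz⟩ := dihedral_cyclic_through hn (z := e ⟨t, htS⟩)
        (by rw [MulEquiv.orderOf_eq, Subgroup.orderOf_mk, ht]) (fun x => by
          rw [← e.apply_symm_apply x, ← map_mul, ← map_mul]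
          exact congrArg e (Subtype.ext (htZ _ (e.symm x).2)))
      refine ⟨(C₀.comap e.toMonoidHom).map (S : Subgroup G).subtype, Subgroup.map_subtype_le _, ?_,
        ?_, ⟨⟨t, htS⟩, hz, rfl⟩, ?_, ?_⟩
      · haveI := hC₀
        haveI : IsCyclic (C₀.comap e.toMonoidHom) :=
          isCyclic_of_injective (e.toMonoidHom.subgroupComap C₀)
            (fun x y h => Subtype.ext (e.injective (congrArg Subtype.val h)))
        exact isCyclic_of_surjective _
          ((Subgroup.equivMapOfInjective _ _ (S : Subgroup G).subtype_injective).surjective)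
      · unfold Subgroup.subgroupOf
        rw [Subgroup.comap_map_eq_self_of_injective (Subgroup.subtype_injective _)]
        exact (Subgroup.index_comap_of_surjective C₀ (f := e.toMonoidHom) e.surjective).trans hi
      · intro x _ y hy
        rw [hO1, Subgroup.mem_bot] at hy
        simp [hy]
      · intro x _ _ y hy
        rw [hO1, Subgroup.mem_bot] at hy
        simp [hy]
    · obtain ⟨hcyc, hrel⟩ := ha hO1
      refine ⟨_, inf_le_left, hcyc, hrel, ⟨htS, Subgroup.mem_centralizer_iff.2 fun y hy => htC y (hOC hy)⟩,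
        fun x hx y hy => ((Subgroup.mem_centralizer_iff.1 hx.2) y hy).symm,
        fun x hx hx1 => hb x hx fun h => hx1 ⟨hx, h⟩⟩
  obtain ⟨s, hsS, hsS₁⟩ : ∃ s ∈ (S : Subgroup G), s ∉ S₁ := by
    by_contra hcon
    push Not at hcon
    rw [show S₁.subgroupOf (S : Subgroup G) = ⊤ from Subgroup.subgroupOf_eq_top.2 hcon,
      Subgroup.index_top] at hS₁i
    omega
  have hout : ∀ x ∈ (S : Subgroup G), x ∉ S₁ → x * x = 1 ∧ ∀ c ∈ S₁, x * c * x⁻¹ = c⁻¹ := by
    intro x hx hx1
    haveI := hS₁c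
    haveI : IsCyclic ((S₁.subgroupOf (S : Subgroup G)).map e.toMonoidHom) := by
      haveI : IsCyclic (S₁.subgroupOf (S : Subgroup G)) :=
        isCyclic_of_surjective _ (Subgroup.subgroupOfEquivOfLe hS₁S).symm.surjective
      exact isCyclic_of_surjective _
        ((Subgroup.equivMapOfInjective _ _ e.injective).surjective)
    obtain ⟨h1, h2⟩ := dihedral_outside hn (C := (S₁.subgroupOf (S : Subgroup G)).map e.toMonoidHom)
      inferInstance (by rw [Subgroup.index_map_of_bijective e.bijective, hS₁i])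
      (x := e ⟨x, hx⟩) (fun ⟨y, hy, hye⟩ => hx1 (by
        rw [show y = (⟨x, hx⟩ : (S : Subgroup G)) from e.injective hye] at hy
        exact hy))
    refine ⟨congrArg Subtype.val (e.injective (show e (⟨x, hx⟩ * ⟨x, hx⟩) = e 1 by rw [map_mul, h1, map_one])),
      fun c hc => ?_⟩
    have h3 := h2 (e ⟨c, hS₁S hc⟩) ⟨⟨c, hS₁S hc⟩, hc, rfl⟩
    rw [← map_inv, ← map_inv, ← map_mul, ← map_mul] at h3
    exact congrArg Subtype.val (e.injective h3)
  obtain ⟨hs2, hsinv⟩ := hout s hsS hsS₁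
  have hsO : ∀ y ∈ O, s * y * s⁻¹ = y⁻¹ := hS₁out s hsS hsS₁
  have hOab : ∀ a ∈ O, ∀ b ∈ O, a * b = b * a := by
    intro a ha' b hb'
    have h1 := hsO _ (O.mul_mem (O.inv_mem ha') (O.inv_mem hb'))
    rw [show s * (a⁻¹ * b⁻¹) * s⁻¹ = s * a⁻¹ * s⁻¹ * (s * b⁻¹ * s⁻¹) by group,
      hsO _ (O.inv_mem ha'), hsO _ (O.inv_mem hb')] at h1
    simpa using h1
  have hS₁ab : ∀ a ∈ S₁, ∀ b ∈ S₁, a * b = b * a := by
    intro a ha' b hb'
    haveI := hS₁c
    letI := IsCyclic.commGroup (α := S₁)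
    exact congrArg Subtype.val (mul_comm (⟨a, ha'⟩ : S₁) ⟨b, hb'⟩)
  let K : Subgroup G :=
    { carrier := {x | ∃ o ∈ O, ∃ σ ∈ S₁, x = o * σ}
      one_mem' := ⟨1, O.one_mem, 1, S₁.one_mem, by rw [mul_one]⟩
      mul_mem' := by
        rintro _ _ ⟨o, ho, σ, hσ, rfl⟩ ⟨o', ho', σ', hσ', rfl⟩
        refine ⟨o * o', O.mul_mem ho ho', σ * σ', S₁.mul_mem hσ hσ', ?_⟩
        calc o * σ * (o' * σ') = o * (σ * o') * σ' := by group
          _ = o * o' * (σ * σ') := by rw [hS₁O σ hσ o' ho']; group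
      inv_mem' := by
        rintro _ ⟨o, ho, σ, hσ, rfl⟩
        refine ⟨o⁻¹, O.inv_mem ho, σ⁻¹, S₁.inv_mem hσ, ?_⟩
        rw [mul_inv_rev, hS₁O _ (S₁.inv_mem hσ) _ (O.inv_mem ho)] }
  have hOK : O ≤ K := fun o ho => ⟨o, ho, 1, S₁.one_mem, (mul_one o).symm⟩
  have hSK : S₁ ≤ K := fun σ hσ => ⟨1, O.one_mem, σ, hσ, (one_mul σ).symm⟩
  have hKC : K ≤ C := by
    rintro _ ⟨o, ho, σ, hσ, rfl⟩
    exact C.mul_mem (hOC ho) (hSC (hS₁S hσ))
  have hOS : ∀ x ∈ O, x ∈ (S : Subgroup G) → x = 1 := by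
    intro x hx hx'
    obtain ⟨k, hk⟩ := S.isPGroup'.exists_card_eq
    have hcop : Nat.Coprime (Nat.card O) (Nat.card (S : Subgroup G)) := by
      rw [hk]; exact Nat.Coprime.pow_right _ (Nat.coprime_two_right.2 hOodd)
    exact orderOf_eq_one_iff.1 (Nat.eq_one_of_dvd_coprimes hcop
      (Subgroup.orderOf_dvd_natCard _ hx) (Subgroup.orderOf_dvd_natCard _ hx'))
  have hsK : s ∉ K := by
    rintro ⟨o, ho, σ, hσ, hso⟩
    have : o = s * σ⁻¹ := by rw [hso, mul_inv_cancel_right]
    have := hOS o ho (this ▸ mul_mem hsS ((S : Subgroup G).inv_mem (hS₁S hσ)))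
    rw [this, one_mul] at hso
    exact hsS₁ (hso ▸ hσ)
  have hinvK : ∀ x ∈ K, s * x * s⁻¹ = x⁻¹ := by
    rintro _ ⟨o, ho, σ, hσ, rfl⟩
    rw [show s * (o * σ) * s⁻¹ = s * o * s⁻¹ * (s * σ * s⁻¹) by group, hsO o ho, hsinv σ hσ,
      mul_inv_rev, hS₁O _ (S₁.inv_mem hσ) _ (O.inv_mem ho)]
  have hKab : ∀ a ∈ K, ∀ b ∈ K, a * b = b * a := by
    intro a ha' b hb'
    have h1 := hinvK _ (K.mul_mem (K.inv_mem ha') (K.inv_mem hb'))
    rw [show s * (a⁻¹ * b⁻¹) * s⁻¹ = s * a⁻¹ * s⁻¹ * (s * b⁻¹ * s⁻¹) by group,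
      hinvK _ (K.inv_mem ha'), hinvK _ (K.inv_mem hb')] at h1
    simpa using h1
  -- involutions of `K`
  have ht2 : t * t = 1 := by rw [← sq, ← ht, pow_orderOf_eq_one]
  have hsq : ∀ x ∈ K, x * x = 1 → x = 1 ∨ x = t := by
    rintro _ ⟨o, ho, σ, hσ, rfl⟩ hx2
    have h1 : o * o * (σ * σ) = 1 := by
      rw [← hx2]
      calc o * o * (σ * σ) = o * (o * σ) * σ := by group
        _ = o * (σ * o) * σ := by rw [hS₁O σ hσ o ho]
        _ = o * σ * (o * σ) := by group
    have h2 : o * o = 1 := hOS _ (O.mul_mem ho ho) (by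
      rw [mul_eq_one_iff_eq_inv.1 h1]
      exact (S : Subgroup G).inv_mem (mul_mem (hS₁S hσ) (hS₁S hσ)))
    have h3 : o = 1 := by
      obtain ⟨j, hj⟩ := hOodd
      have h4 : o ^ Nat.card O = 1 := congrArg Subtype.val (pow_card_eq_one' (x := (⟨o, ho⟩ : O)))
      rwa [hj, pow_succ, pow_mul, sq, h2, one_pow, one_mul] at h4
    rw [h2, one_mul] at h1
    rw [h3, one_mul]
    by_contra hne
    push Not at hne
    haveI := hS₁c
    letI := Fintype.ofFinite S₁
    have hcnt : Finset.card (Finset.univ.filter fun a : S₁ => a ^ 2 = 1) ≤ 2 :=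
      IsCyclic.card_pow_eq_one_le (by norm_num)
    have h5 : ({1, ⟨t, htS₁⟩, ⟨σ, hσ⟩} : Finset S₁) ⊆ Finset.univ.filter fun a => a ^ 2 = 1 := by
      intro a ha'
      simp only [Finset.mem_insert, Finset.mem_singleton] at ha'
      rcases ha' with rfl | rfl | rfl <;>
        simp [sq, Subtype.ext_iff, ht2, h1]
    have h6 : ({1, ⟨t, htS₁⟩, ⟨σ, hσ⟩} : Finset S₁).card = 3 := by
      have a1 : (1 : S₁) ≠ ⟨t, htS₁⟩ := fun h => by
        have := congrArg Subtype.val h
        simp only [OneMemClass.coe_one] at this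
        rw [← this, orderOf_one] at ht; omega
      have a2 : (1 : S₁) ≠ ⟨σ, hσ⟩ := fun h => hne.1 (congrArg Subtype.val h).symm
      have a3 : (⟨t, htS₁⟩ : S₁) ≠ ⟨σ, hσ⟩ := fun h => hne.2 (congrArg Subtype.val h).symm
      simp [a1, a2, a3]
    have := Finset.card_le_card h5
    omega
  have hinvol : ∀ x ∈ K, x ∉ O → ∃ j : ℕ, x ^ j = t := by
    rintro x ⟨o, ho, σ, hσ, rfl⟩ hx
    have heven : 2 ∣ orderOf (o * σ) := by
      by_contra hcon
      refine hx ?_
      have hcomm : Commute o σ := (hS₁O σ hσ o ho).symm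
      obtain ⟨k, hk⟩ := IsPGroup.iff_orderOf.1 S.isPGroup' ⟨σ, hS₁S hσ⟩
      rw [Subgroup.orderOf_mk] at hk
      have h1 : σ ^ (orderOf (o * σ) * Nat.card O) = 1 := by
        have e1 : (o * σ) ^ (orderOf (o * σ) * Nat.card O) = 1 := by
          rw [pow_mul, pow_orderOf_eq_one, one_pow]
        have e2 : o ^ (orderOf (o * σ) * Nat.card O) = 1 := by
          rw [mul_comm (orderOf (o * σ)), pow_mul,
            show o ^ Nat.card O = 1 from congrArg Subtype.val (pow_card_eq_one' (x := (⟨o, ho⟩ : O))),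
            one_pow]
        rw [hcomm.mul_pow, e2, one_mul] at e1
        exact e1
      have h2 : Nat.Coprime (orderOf σ) (orderOf (o * σ) * Nat.card O) := by
        rw [hk]
        exact Nat.Coprime.pow_left _ (Nat.Coprime.mul_right
          ((Nat.prime_two.coprime_iff_not_dvd).2 hcon) (Nat.coprime_two_left.2 hOodd))
      have : σ = 1 := orderOf_eq_one_iff.1 (Nat.eq_one_of_dvd_coprimes h2 dvd_rfl
        (orderOf_dvd_of_pow_eq_one h1))
      rwa [this, mul_one]
    obtain ⟨j, hj⟩ := heven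
    have hpos := orderOf_pos (o * σ)
    refine ⟨j, ((hsq _ (K.pow_mem ⟨o, ho, σ, hσ, rfl⟩ j)
      (by rw [← pow_add, show j + j = orderOf (o * σ) by omega, pow_orderOf_eq_one])).resolve_left
        fun h => ?_)⟩
    have := Nat.le_of_dvd (by omega) (orderOf_dvd_of_pow_eq_one h)
    omega
  have hmemH : ∀ g ∈ C, g ∈ K ∨ s * g ∈ K := by
    intro g hg
    obtain ⟨o, ho, σ, hσ, rfl⟩ := hdec g hg
    by_cases hσ1 : σ ∈ S₁
    · exact Or.inl ⟨o, ho, σ, hσ1, rfl⟩
    · refine Or.inr ⟨s * o * s⁻¹, hOn s (hSC hsS) o ho, s * σ, ?_, by group⟩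
      have := (Subgroup.mul_mem_iff_of_index_two hS₁i (a := (⟨s, hsS⟩ : (S : Subgroup G)))
        (b := ⟨σ, hσ⟩)).2
      simp only [Subgroup.mem_subgroupOf] at this
      exact this (iff_of_false hsS₁ hσ1)
  have hgen : K ⊔ Subgroup.zpowers s = C := by
    refine le_antisymm (sup_le hKC (Subgroup.zpowers_le.2 (hSC hsS))) fun g hg => ?_
    rcases hmemH g hg with h | h
    · exact Subgroup.mem_sup_left h
    · rw [← inv_mul_cancel_left s g]
      exact mul_mem (Subgroup.mem_sup_right (inv_mem (Subgroup.mem_zpowers s))) (Subgroup.mem_sup_left h)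
  have hone : ∀ x y : G, orderOf x = 2 → orderOf y = 2 → IsConj x y := by
    have hm : 2 ∣ n := Involutions.DihedralSylow.two_dvd S e hn
    have hno : ∀ H : Subgroup G, H.index ≠ 2 := by
      intro H hH
      haveI := Subgroup.normal_of_index_eq_two hH
      rcases Subgroup.Normal.eq_bot_or_eq_top (H := H) inferInstance with h | h
      · rw [h, Subgroup.index_bot] at hH
        have := Subgroup.card_subgroup_dvd_card (S : Subgroup G)
        rw [hH, Nat.card_congr e.toEquiv, DihedralGroup.nat_card] at this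
        have := Nat.le_of_dvd (by omega) this
        omega
      · rw [h, Subgroup.index_top] at hH; omega
    intro x y hx hy
    exact (Involutions.DihedralSylow.isConj_z_of_no_index_two S e hm (by omega) hno hx).trans
      (Involutions.DihedralSylow.isConj_z_of_no_index_two S e hm (by omega) hno hy).symm
  refine ⟨s, K, ht, ?_, ⟨⟨fun a b => Subtype.ext (hKab a a.2 b b.2)⟩⟩, hSK htS₁, hsK, hSC hsS, hgen,
    ?_, hinvK, ?_, hone⟩
  · exact orderOf_eq_prime (by rw [sq, hs2]) fun e' => hsK (e' ▸ K.one_mem)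
  · refine le_antisymm (fun x hx => ?_) (Subgroup.zpowers_le.2 ⟨hSK htS₁,
      Subgroup.mem_centralizer_singleton_iff.2 (htC s (hSC hsS)).symm⟩)
    obtain ⟨hxK, hxs⟩ := hx
    have h1 := hinvK x hxK
    rw [← Subgroup.mem_centralizer_singleton_iff.1 hxs, mul_inv_cancel_right] at h1
    rcases hsq x hxK (mul_eq_one_iff_eq_inv.2 h1) with rfl | rfl
    exacts [one_mem _, Subgroup.mem_zpowers _]
  · intro g hg
    rw [eq_bot_iff]
    rintro x ⟨hxK, y, hy, rfl⟩
    simp only [MulEquiv.coe_toMonoidHom, MulAut.conj_apply] at hxK ⊢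
    refine Subgroup.mem_bot.2 (Classical.by_contradiction fun hx1 => hg ?_)
    have hgC : g * t * g⁻¹ = t → g ∈ C := fun h =>
      Subgroup.mem_centralizer_singleton_iff.2 (mul_inv_eq_iff_eq_mul.1 h)
    have htinv : ∀ w ∈ K, orderOf w = 2 → w = t := fun w hw hw2 =>
      (hsq w hw (by rw [← sq, ← hw2, pow_orderOf_eq_one])).resolve_left
        fun e' => by rw [e', orderOf_one] at hw2; omega
    by_cases hyO : y ∈ O
    · by_cases hxO : g * y * g⁻¹ ∈ O
      · have hwx : g * t * g⁻¹ * (g * y * g⁻¹) = g * y * g⁻¹ * (g * t * g⁻¹) := by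
          calc g * t * g⁻¹ * (g * y * g⁻¹) = g * (t * y) * g⁻¹ := by group
            _ = g * y * g⁻¹ * (g * t * g⁻¹) := by rw [← htC y (hOC hyO)]; group
        have hwC : g * t * g⁻¹ ∈ C := by
          refine hc _ (Subgroup.zpowers_le.2 hxO) (fun h => hx1 (Subgroup.zpowers_eq_bot.1 h)) ?_
          refine Subgroup.centralizer_le_normalizer _ (Subgroup.mem_centralizer_iff.2 ?_)
          rintro _ ⟨i, rfl⟩
          exact ((Commute.zpow_right (show Commute (g * t * g⁻¹) (g * y * g⁻¹) from hwx) i).eq).symm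
        refine hgC (htinv _ ?_ (by rw [← MulAut.conj_apply, MulEquiv.orderOf_eq, ht]))
        refine (hmemH _ hwC).resolve_right fun hk => ?_
        -- elements outside `K` invert `x`
        have h1 := hKab _ hk _ hxK
        have h2 := hinvK _ hxK
        have h3 : g * y * g⁻¹ * (g * y * g⁻¹) = 1 := by
          have h4 : g * t * g⁻¹ * (g * y * g⁻¹) * (g * t * g⁻¹)⁻¹ = g * y * g⁻¹ := by
            rw [hwx, mul_inv_cancel_right]
          have h5 : s * (g * t * g⁻¹) * (g * y * g⁻¹) * (s * (g * t * g⁻¹))⁻¹ = g * y * g⁻¹ := by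
            rw [h1, mul_inv_cancel_right]
          rw [show s * (g * t * g⁻¹) * (g * y * g⁻¹) * (s * (g * t * g⁻¹))⁻¹ =
            s * (g * t * g⁻¹ * (g * y * g⁻¹) * (g * t * g⁻¹)⁻¹) * s⁻¹ by group, h4, h2] at h5
          exact inv_eq_iff_mul_eq_one.1 h5
        obtain ⟨j, hj⟩ := hOodd
        have h6 : (g * y * g⁻¹) ^ Nat.card O = 1 :=
          congrArg Subtype.val (pow_card_eq_one' (x := (⟨_, hxO⟩ : O)))
        rw [hj, pow_succ, pow_mul, sq, h3, one_pow, one_mul] at h6
        exact hx1 h6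
      · obtain ⟨j, hj⟩ := hinvol _ hxK hxO
        rw [conj_pow] at hj
        refine hgC ?_
        have : y ^ j = t := htinv _ (K.pow_mem hy j) (by
          rw [← ht, ← hj, ← MulAut.conj_apply, MulEquiv.orderOf_eq])
        rwa [this] at hj
    · obtain ⟨j, hj⟩ := hinvol y hy hyO
      refine hgC (htinv _ ?_ (by rw [← MulAut.conj_apply, MulEquiv.orderOf_eq, ht]))
      rw [← hj, ← conj_pow]
      exact K.pow_mem hxK j

end Cfsg.Agent.BSWAbstract
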