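import Mathlib
import Cfsg.Agent.Lib.Cores.Basic

/-!
# Group-theoretic helpers for the Brauer–Suzuki–Wall situation
-/

set_option autoImplicit false
set_option linter.unusedSectionVars false
set_option linter.style.haveILetI false

namespace Cfsg.Agent.BSWAbstract

open scoped Pointwise

universe u

variable {G : Type u} [Group G]

/-- A non-trivial solvable group has a non-trivial normal abelian subgroup. -/
theorem exists_normal_comm [Nontrivial G] (hs : Group.IsSolvable G) :
    ∃ B : Subgroup G, B.Normal ∧ B ≠ ⊥ ∧ ∀ a ∈ B, ∀ b ∈ B, a * b = b * a := by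
  classical
  have hex : ∃ n, derivedSeries G n = ⊥ := hs.solvable
  obtain ⟨m, hm⟩ : ∃ m, Nat.find hex = m + 1 := by
    rcases Nat.eq_zero_or_pos (Nat.find hex) with e | e
    · exfalso
      have := Nat.find_spec hex
      rw [e, derivedSeries_zero] at this
      exact top_ne_bot this
    · exact ⟨Nat.find hex - 1, by omega⟩
  refine ⟨derivedSeries G m, derivedSeries_normal G m, Nat.find_min hex (by omega), fun a ha b hb => ?_⟩
  have h0 := Nat.find_spec hex
  rw [hm, derivedSeries_succ] at h0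
  have hc := Subgroup.commutator_mem_commutator ha hb
  rw [h0, Subgroup.mem_bot] at hc
  exact commutatorElement_eq_one_iff_mul_comm.1 hc

variable [Finite G]

/-- An element of prime-power order is conjugate into a subgroup of index prime to that prime. -/
theorem conj_mem_of_index {H : Subgroup G} {r : ℕ} [Fact r.Prime] (hidx : ¬ r ∣ H.index) {y : G}
    (hy : ∃ n, orderOf y = r ^ n) : ∃ g : G, g⁻¹ * y * g ∈ H := by
  obtain ⟨n, hn⟩ := hy
  obtain ⟨P⟩ : Nonempty (Sylow r H) := inferInstance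
  obtain ⟨R, hR⟩ := (P.isPGroup'.map H.subtype).exists_le_sylow
  have hcard : Nat.card ((P : Subgroup H).map H.subtype) = Nat.card (R : Subgroup G) := by
    rw [Subgroup.card_map_of_injective H.subtype_injective, P.card_eq_multiplicity,
      R.card_eq_multiplicity, ← H.card_mul_index, Nat.factorization_mul Nat.card_pos.ne'
      Subgroup.index_ne_zero_of_finite, Finsupp.add_apply, Nat.factorization_eq_zero_of_not_dvd hidx,
      add_zero]
  have hRH : (R : Subgroup G) ≤ H :=
    (Subgroup.eq_of_le_of_card_ge hR hcard.ge) ▸ Subgroup.map_subtype_le _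
  obtain ⟨Q, hQ⟩ := (IsPGroup.of_card (p := r) (n := n)
    (by rw [Nat.card_zpowers, hn]) : IsPGroup r (Subgroup.zpowers y)).exists_le_sylow
  obtain ⟨g, hg⟩ := MulAction.exists_smul_eq G R Q
  refine ⟨g, hRH ?_⟩
  have hyQ : y ∈ ((g • R : Sylow r G) : Subgroup G) := by
    rw [hg]; exact hQ (Subgroup.mem_zpowers y)
  rw [Sylow.coe_subgroup_smul, Subgroup.mem_pointwise_smul_iff_inv_smul_mem] at hyQ
  simpa [MulAut.smul_def, MulAut.inv_apply] using hyQ

/-- Abbreviation: every non-identity element of `Q` has centraliser exactly `Q`. -/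
def SelfCent (Q : Subgroup G) : Prop :=
  ∀ x ∈ Q, x ≠ 1 → Subgroup.centralizer ({x} : Set G) = Q

theorem selfCent_comm {Q : Subgroup G} (hQ : SelfCent Q) {a b : G} (ha : a ∈ Q) (hb : b ∈ Q) :
    a * b = b * a := by
  by_cases h : b = 1
  · subst h; simp
  · rw [← hQ b hb h] at ha
    exact Subgroup.mem_centralizer_singleton_iff.1 ha

omit [Finite G] in
theorem cent_conj (x g : G) (y : G) :
    y ∈ Subgroup.centralizer ({g * x * g⁻¹} : Set G) ↔
      g⁻¹ * y * g ∈ Subgroup.centralizer ({x} : Set G) := by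
  rw [Subgroup.mem_centralizer_singleton_iff, Subgroup.mem_centralizer_singleton_iff]
  constructor <;> intro h
  · calc g⁻¹ * y * g * x = g⁻¹ * (y * (g * x * g⁻¹)) * g := by group
      _ = g⁻¹ * (g * x * g⁻¹ * y) * g := by rw [h]
      _ = x * (g⁻¹ * y * g) := by group
  · calc y * (g * x * g⁻¹) = g * (g⁻¹ * y * g * x) * g⁻¹ := by group
      _ = g * (x * (g⁻¹ * y * g)) * g⁻¹ := by rw [h]
      _ = g * x * g⁻¹ * y := by group

theorem mem_normalizer_of_conj {Q : Subgroup G} (hQ : SelfCent Q) {x g : G} (hx : x ∈ Q)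
    (hx1 : x ≠ 1) (hgx : g * x * g⁻¹ ∈ Q) : g ∈ Subgroup.normalizer (Q : Set G) := by
  rw [Subgroup.mem_normalizer_iff]
  intro y
  have h1 : g * x * g⁻¹ ≠ 1 := fun e => hx1 (conj_eq_one_iff.1 e)
  conv_rhs => rw [← hQ _ hgx h1, cent_conj, hQ x hx hx1]
  simp [mul_assoc]

theorem normalizer_conj_mem {Q : Subgroup G} {g y : G} (hg : g ∈ Subgroup.normalizer (Q : Set G))
    (hy : y ∈ Q) : g * y * g⁻¹ ∈ Q :=
  (Subgroup.mem_normalizer_iff.1 hg y).1 hy

theorem selfCent_map {Q : Subgroup G} (hQ : SelfCent Q) (g : G) :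
    SelfCent (Q.map ((MulAut.conj g : G ≃* G) : G →* G)) := by
  rintro _ ⟨x, hx, rfl⟩ hne
  simp only [MonoidHom.coe_coe, MulAut.conj_apply] at hne ⊢
  have hx1 : x ≠ 1 := fun e => hne (by rw [e]; group)
  ext y
  rw [cent_conj, hQ x hx hx1]
  constructor
  · intro h; exact ⟨_, h, by simp [mul_assoc]⟩
  · rintro ⟨z, hz, rfl⟩
    simpa [mul_assoc] using hz

/-- Two self-centralizing subgroups of the same order, meeting the same prime fully, are conjugate. -/
theorem selfCent_conj {Q Q' : Subgroup G} (hQ : SelfCent Q) (hQ' : SelfCent Q') {r : ℕ} [Fact r.Prime] (hr : r ∣ Nat.card Q')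
    (hidx : ¬ r ∣ Q.index) : ∃ g : G, Q' = Q.map ((MulAut.conj g : G ≃* G) : G →* G) := by
  obtain ⟨y, hy⟩ := exists_prime_orderOf_dvd_card' r hr
  have hyo : orderOf (y : G) = r := by rw [Subgroup.orderOf_coe, hy]
  obtain ⟨g, hg⟩ := conj_mem_of_index hidx (y := (y : G)) ⟨1, by rw [pow_one, hyo]⟩
  have hy1 : (y : G) ≠ 1 := fun e => by
    rw [e, orderOf_one] at hyo; exact (Fact.out : r.Prime).ne_one hyo.symm
  have hg1 : g⁻¹ * (y : G) * g ≠ 1 := fun e => hy1 (by
    calc (y : G) = g * (g⁻¹ * (y : G) * g) * g⁻¹ := by group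
      _ = 1 := by rw [e]; group)
  refine ⟨g, ?_⟩
  have hm : (y : G) ∈ Q.map ((MulAut.conj g : G ≃* G) : G →* G) :=
    ⟨_, hg, by simp [mul_assoc]⟩
  rw [← hQ' _ y.2 hy1, selfCent_map hQ g _ hm hy1]

/-- The non-identity elements conjugate into `Q`. -/
def hatSet (Q : Subgroup G) : Set G := {y | y ≠ 1 ∧ ∃ g : G, g⁻¹ * y * g ∈ Q}

theorem selfCent_count {Q : Subgroup G} (hQ : SelfCent Q) :
    Nat.card (hatSet Q) * Nat.card (Subgroup.normalizer (Q : Set G)) =
      (Nat.card Q - 1) * Nat.card G := by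
  classical
  haveI := Fintype.ofFinite G
  have hS : Nat.card Q - 1 = Nat.card {x : G // x ∈ Q ∧ x ≠ 1} := by
    have h1 : Fintype.card {x : G // x ∈ Q ∧ x ≠ 1} + 1 = Fintype.card Q := by
      rw [Fintype.card_subtype, Fintype.card_subtype,
        show Finset.univ.filter (fun x : G => x ∈ Q ∧ x ≠ 1) =
          (Finset.univ.filter fun x : G => x ∈ Q).erase 1 by ext; simp [and_comm],
        Finset.card_erase_add_one (Finset.mem_filter.2 ⟨Finset.mem_univ _, Q.one_mem⟩)]
    rw [Nat.card_eq_fintype_card, Nat.card_eq_fintype_card]; omega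
  rw [hS, mul_comm (Nat.card {x : G // x ∈ Q ∧ x ≠ 1}), ← Nat.card_prod, ← Nat.card_prod]
  choose c hc using fun y : hatSet Q => y.2.2
  symm
  refine (Nat.card_eq_of_bijective (fun p : hatSet Q × Subgroup.normalizer (Q : Set G) =>
    ((c p.1 * (p.2 : G), ⟨(p.2 : G)⁻¹ * ((c p.1)⁻¹ * (p.1 : G) * c p.1) * p.2, ?_, ?_⟩) :
      G × {x : G // x ∈ Q ∧ x ≠ 1})) ⟨?_, ?_⟩).symm
  · simpa using normalizer_conj_mem (Subgroup.inv_mem _ p.2.2) (hc p.1)
  · intro e
    apply p.1.2.1
    calc (p.1 : G) = c p.1 * p.2 * ((p.2 : G)⁻¹ * ((c p.1)⁻¹ * (p.1 : G) * c p.1) * p.2) *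
          (c p.1 * p.2)⁻¹ := by group
      _ = 1 := by rw [e]; group
  · rintro ⟨y, n⟩ ⟨y', n'⟩ e
    simp only [Prod.mk.injEq, Subtype.mk.injEq] at e
    obtain ⟨e1, e2⟩ := e
    have hy : y = y' := Subtype.ext (by
      calc (y : G) = c y * n * ((n : G)⁻¹ * ((c y)⁻¹ * (y : G) * c y) * n) * (c y * n)⁻¹ := by group
        _ = c y' * n' * ((n' : G)⁻¹ * ((c y')⁻¹ * (y' : G) * c y') * n') * (c y' * n')⁻¹ := by
          rw [e1, e2]
        _ = y' := by group)
    subst hy
    exact Prod.ext rfl (Subtype.ext (mul_left_cancel e1))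
  · rintro ⟨g, x, hxQ, hx1⟩
    let y : hatSet Q := ⟨g * x * g⁻¹, fun e => hx1 (conj_eq_one_iff.1 e), g, by
      simpa [mul_assoc] using hxQ⟩
    refine ⟨(y, ⟨(c y)⁻¹ * g, mem_normalizer_of_conj hQ hxQ hx1 ?_⟩), ?_⟩
    · have := hc y
      simpa [y, mul_assoc] using this
    · refine Prod.ext (by simp) (Subtype.ext ?_)
      simp [y, mul_assoc]

/-- In a solvable group whose Sylow `r`-subgroups are not normal, some element of order `r`
normalizes a non-trivial subgroup of prime power order for another prime. -/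
theorem exists_r_normalizing (hs : Group.IsSolvable G) {r : ℕ} [hr : Fact r.Prime]
    (hnn : ∀ P : Sylow r G, ¬ (P : Subgroup G).Normal) :
    ∃ (p : ℕ) (E : Subgroup G) (g : G), p.Prime ∧ p ≠ r ∧ IsPGroup p E ∧ E ≠ ⊥ ∧ orderOf g = r ∧
      g ∈ Subgroup.normalizer (E : Set G) := by
  classical
  set F := Cfsg.pCore r G with hF
  haveI hFn : F.Normal := Cores.pCore_normal r
  have hFr : IsPGroup r F := Cores.pCore_isPGroup r
  have hrM : r ∣ F.index := by
    by_contra hc
    obtain ⟨n, hn⟩ := hFr.exists_card_eq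
    obtain ⟨P⟩ : Nonempty (Sylow r G) := inferInstance
    have hFP : F ≤ P := Cores.pCore_le_sylow P
    have : (P : Subgroup G) = F := by
      refine (Subgroup.eq_of_le_of_card_ge hFP (le_of_eq ?_)).symm
      rw [P.card_eq_multiplicity, ← F.card_mul_index, Nat.factorization_mul Nat.card_pos.ne'
        Subgroup.index_ne_zero_of_finite, Finsupp.add_apply,
        Nat.factorization_eq_zero_of_not_dvd hc, add_zero, hn,
        Nat.Prime.factorization_pow hr.out, Finsupp.single_eq_same]
    exact hnn P (this ▸ hFn)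
  haveI : Nontrivial (G ⧸ F) := by
    rw [← Finite.one_lt_card_iff_nontrivial]
    exact lt_of_lt_of_le hr.out.one_lt (Nat.le_of_dvd Nat.card_pos hrM)
  haveI := hs
  obtain ⟨B, hBn, hBne, hBc⟩ := exists_normal_comm (G := G ⧸ F) inferInstance
  obtain ⟨p, hp, hpd⟩ := Nat.exists_prime_and_dvd (n := Nat.card B)
    (fun e => hBne (Subgroup.eq_bot_of_card_eq B e))
  haveI := Fact.mk hp
  obtain ⟨S⟩ : Nonempty (Sylow p B) := inferInstance
  haveI : IsMulCommutative B := ⟨⟨fun a b => Subtype.ext (hBc a a.2 b b.2)⟩⟩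
  haveI hSn : (S : Subgroup B).Normal := ⟨fun n hn g => by
    rwa [show g * n * g⁻¹ = n by
      rw [show g * n = n * g from Subtype.ext (hBc g g.2 n n.2), mul_inv_cancel_right]]⟩
  haveI hSc : (S : Subgroup B).Characteristic := S.characteristic_of_normal hSn
  have hSne : (S : Subgroup B) ≠ ⊥ := fun e => by
    have := S.dvd_card_of_dvd_card hpd
    rw [e, Subgroup.card_bot] at this
    exact hp.ne_one (Nat.dvd_one.1 this)
  set S' := (S : Subgroup B).map B.subtype with hS'
  haveI hS'n : S'.Normal := Cores.normal_map_subtype B S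
  set L := S'.comap (QuotientGroup.mk' F) with hL
  haveI : L.Normal := hS'n.comap _
  have hS'p : IsPGroup p S' := S.isPGroup'.map _
  have hpr : p ≠ r := by
    rintro rfl
    have hLr : IsPGroup p L := hS'p.comap_of_ker_isPGroup _ (by rwa [QuotientGroup.ker_mk'])
    have hLF : L ≤ F := Cores.le_pCore hLr
    refine hSne ((Subgroup.map_eq_bot_iff_of_injective _ B.subtype_injective).1 ?_)
    rw [← hS', eq_bot_iff]
    intro z hz
    obtain ⟨w, rfl⟩ := QuotientGroup.mk'_surjective F z
    exact Subgroup.mem_bot.2 ((QuotientGroup.eq_one_iff w).2 (hLF hz))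
  obtain ⟨E⟩ : Nonempty (Sylow p L) := inferInstance
  set E' := (E : Subgroup L).map L.subtype with hE'
  have hfr : Subgroup.normalizer (E' : Set G) ⊔ L = ⊤ := Sylow.normalizer_sup_eq_top E
  have hker : F ≤ L := fun z hz => by
    show (QuotientGroup.mk' F) z ∈ S'
    rw [QuotientGroup.mk'_apply, (QuotientGroup.eq_one_iff z).2 hz]; exact S'.one_mem
  have hpL : p ∣ Nat.card L := by
    have h1 : L.map (QuotientGroup.mk' F) = S' :=
      Subgroup.map_comap_eq_self_of_surjective (QuotientGroup.mk'_surjective F) S'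
    have h2 : p ∣ Nat.card S' := by
      rw [hS', Subgroup.card_map_of_injective B.subtype_injective]
      exact S.dvd_card_of_dvd_card hpd
    rw [← h1] at h2
    exact h2.trans (L.card_map_dvd _)
  have hEne : E' ≠ ⊥ := fun e => by
    have := E.dvd_card_of_dvd_card hpL
    rw [(Subgroup.map_eq_bot_iff_of_injective _ L.subtype_injective).1 e, Subgroup.card_bot] at this
    exact hp.ne_one (Nat.dvd_one.1 this)
  -- `L = E' F`, so the normalizer of `E'` covers the quotient
  have hLEF : L ≤ E' ⊔ F := by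
    have hle : E' ⊔ F ≤ L := sup_le (Subgroup.map_subtype_le _) hker
    refine le_of_eq (Subgroup.eq_of_le_of_card_ge hle ?_).symm
    refine Nat.le_of_dvd Nat.card_pos ?_
    have hLcard : Nat.card L ∣ Nat.card S' * Nat.card F := by
      have h1 : L.index = S'.index :=
        Subgroup.index_comap_of_surjective S' (QuotientGroup.mk'_surjective F)
      refine dvd_of_eq (Nat.eq_of_mul_eq_mul_right
        (Nat.pos_of_ne_zero (Subgroup.index_ne_zero_of_finite (H := S'))) ?_)
      calc Nat.card L * S'.index = Nat.card G := by rw [← h1, L.card_mul_index]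
        _ = Nat.card F * F.index := F.card_mul_index.symm
        _ = Nat.card F * (Nat.card S' * S'.index) := by rw [S'.card_mul_index]; rfl
        _ = Nat.card S' * Nat.card F * S'.index := by ring
    obtain ⟨i, hi⟩ := hS'p.exists_card_eq
    obtain ⟨j, hj⟩ := hFr.exists_card_eq
    rw [hi, hj] at hLcard
    obtain ⟨d₁, d₂, h₁, h₂, hd⟩ := Nat.dvd_mul.1 hLcard
    rw [← hd]
    refine Nat.Coprime.mul_dvd_of_dvd_of_dvd ?_ ?_ ?_
    · exact Nat.Coprime.coprime_dvd_left h₁ (Nat.Coprime.coprime_dvd_right h₂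
        (Nat.Coprime.pow _ _ ((Nat.coprime_primes hp hr.out).2 hpr)))
    · have hE'card : Nat.card E' ∣ Nat.card ↥(E' ⊔ F) := Subgroup.card_dvd_of_le le_sup_left
      refine Nat.dvd_trans ?_ hE'card
      rw [hE', Subgroup.card_map_of_injective L.subtype_injective]
      obtain ⟨i', -, rfl⟩ := (Nat.dvd_prime_pow hp).1 h₁
      exact Sylow.pow_dvd_card_of_pow_dvd_card E (hd ▸ dvd_mul_right _ _)
    · exact (h₂.trans (hj ▸ dvd_refl _)).trans (Subgroup.card_dvd_of_le le_sup_right)
  have hsurj : (Subgroup.normalizer (E' : Set G)).map (QuotientGroup.mk' F) = ⊤ := by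
    have h1 := congrArg (Subgroup.map (QuotientGroup.mk' F)) hfr
    rw [Subgroup.map_sup, Subgroup.map_top_of_surjective _ (QuotientGroup.mk'_surjective F)] at h1
    refine top_le_iff.1 (h1 ▸ sup_le le_rfl ?_)
    refine (Subgroup.map_mono hLEF).trans ?_
    rw [Subgroup.map_sup, QuotientGroup.map_mk'_self, sup_bot_eq]
    exact Subgroup.map_mono Subgroup.le_normalizer
  have hrN : r ∣ Nat.card (Subgroup.normalizer (E' : Set G)) := by
    have h1 := (Subgroup.normalizer (E' : Set G)).card_map_dvd (QuotientGroup.mk' F)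
    rw [hsurj, Subgroup.card_top] at h1
    exact hrM.trans h1
  obtain ⟨g, hg⟩ := exists_prime_orderOf_dvd_card' r hrN
  exact ⟨p, E', g, hp, hpr, E.isPGroup'.map _, hEne, by rw [Subgroup.orderOf_coe, hg], g.2⟩

end Cfsg.Agent.BSWAbstract
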