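import Mathlib
import Cfsg.Agent.Lib.Involutions.BSW.Setup
import Cfsg.Agent.Lib.Characters.Inner
import Cfsg.Agent.Lib.Characters.Induction
import Cfsg.Agent.Lib.Characters.Integrality
import Cfsg.Agent.Lib.Characters.Kernel
import Cfsg.Agent.Lib.CharTheory.Basics
import Cfsg.Agent.Lib.CharTheory.IndBasic
import Cfsg.Agent.S0840

/-!
# The Brauer–Suzuki–Wall situation: the virtual characters `Ind_K^G (1 - λ)`
-/

set_option autoImplicit false
set_option linter.unusedSectionVars false
set_option linter.unusedVariables false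
set_option linter.style.haveILetI false

open scoped ComplexConjugate

namespace Cfsg.Agent.BSWAbstract

open Cfsg.Agent.Characters

universe u

variable {G : Type u} [Group G] [Fintype G]

/-- Plus or minus an irreducible character. -/
def Signed (f : G → ℂ) : Prop := Cfsg.IsIrrCharacter G f ∨ Cfsg.IsIrrCharacter G (-f)

theorem Signed.exists_irr {f : G → ℂ} (hf : Signed f) :
    ∃ (χ : Cfsg.IrrCharacter G) (ε : ℂ), (ε = 1 ∨ ε = -1) ∧ f = ε • (χ : G → ℂ) := by
  rcases hf with hf | hf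
  · exact ⟨⟨f, hf⟩, 1, Or.inl rfl, (one_smul ℂ f).symm⟩
  · exact ⟨⟨-f, hf⟩, -1, Or.inr rfl, by simp⟩

theorem Signed.isGen {f : G → ℂ} (hf : Signed f) : Cfsg.IsGeneralizedCharacter G f := by
  rcases hf with hf | hf
  · exact isGen_of_isCharacter (isCharacter_of_isIrr hf)
  · simpa using isGen_neg (isGen_of_isCharacter (isCharacter_of_isIrr hf))

theorem Signed.self {f : G → ℂ} (hf : Signed f) : Cfsg.classInner f f = 1 := by
  obtain ⟨χ, ε, hε, rfl⟩ := hf.exists_irr
  rw [classInner_smul_left, classInner_smul_right, classInner_isIrr_self χ.2]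
  rcases hε with rfl | rfl <;> simp

theorem Signed.pair {f f' : G → ℂ} (hf : Signed f) (hf' : Signed f') :
    Cfsg.classInner f f' = 0 ∨ f' = f ∨ f' = -f := by
  obtain ⟨χ, ε, hε, rfl⟩ := hf.exists_irr
  obtain ⟨χ', ε', hε', rfl⟩ := hf'.exists_irr
  by_cases he : χ = χ'
  · subst he
    rcases hε with rfl | rfl <;> rcases hε' with rfl | rfl <;> simp
  · left
    rw [classInner_smul_left, classInner_smul_right, classInner_irr, if_neg he]
    simp

theorem Signed.degree {f : G → ℂ} (hf : Signed f) :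
    ∃ z : ℤ, f 1 = (z : ℂ) ∧ z ≠ 0 ∧ z ∣ (Nat.card G : ℤ) := by
  rcases hf with hf | hf
  · obtain ⟨n, hn, hpos, hdvd⟩ := irr_degree_dvd_card hf
    exact ⟨n, by simpa using hn, by omega, Int.natCast_dvd_natCast.2 hdvd⟩
  · obtain ⟨n, hn, hpos, hdvd⟩ := irr_degree_dvd_card hf
    refine ⟨-n, ?_, by omega, Int.neg_dvd.2 (Int.natCast_dvd_natCast.2 hdvd)⟩
    rw [Pi.neg_apply, neg_eq_iff_eq_neg] at hn
    simpa using hn

theorem gen_symm {θ θ' : G → ℂ} (h : Cfsg.IsGeneralizedCharacter G θ)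
    (h' : Cfsg.IsGeneralizedCharacter G θ') :
    Cfsg.classInner θ' θ = Cfsg.classInner θ θ' := by
  obtain ⟨z, hz⟩ := classInner_gen_int h h'
  rw [classInner_conj_symm, hz, map_intCast]

/-- The coefficient of a signed irreducible in a generalized character of small norm. -/
theorem coeff_bound {θ f : G → ℂ} (h : Cfsg.IsGeneralizedCharacter G θ) (hf : Signed f) {n : ℤ}
    (hn : Cfsg.classInner θ θ = (n : ℂ)) :
    ∃ z : ℤ, Cfsg.classInner θ f = (z : ℂ) ∧ z * z ≤ n := by
  obtain ⟨z, hz⟩ := classInner_gen_int h hf.isGen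
  refine ⟨z, hz, ?_⟩
  obtain ⟨w, hw⟩ := classInner_gen_int
    (isGen_sub h (isGen_intSmul hf.isGen z)) (isGen_sub h (isGen_intSmul hf.isGen z))
  have hr : ∀ φ : G → ℂ, 0 ≤ (Cfsg.classInner φ φ).re := fun φ => by
    have e : Cfsg.classInner φ φ =
        (((Nat.card G : ℝ)⁻¹ * ∑ g : G, Complex.normSq (φ g) : ℝ) : ℂ) := by
      rw [classInner_def]; push_cast
      simp [Complex.mul_conj]
    rw [e, Complex.ofReal_re]
    exact mul_nonneg (inv_nonneg.2 (Nat.cast_nonneg _))
      (Finset.sum_nonneg fun g _ => Complex.normSq_nonneg _)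
  have hpos := hr (θ - (z : ℂ) • f)
  rw [hw] at hpos
  rw [classInner_sub_left, classInner_sub_right, classInner_sub_right, classInner_smul_left,
    classInner_smul_left, classInner_smul_right, classInner_smul_right, hn, hz,
    gen_symm h hf.isGen, hz, hf.self, map_intCast] at hw
  have hw' : n - z * z = w := by
    have hw2 : ((n - z * z : ℤ) : ℂ) = (w : ℂ) := by push_cast; linear_combination hw
    exact_mod_cast hw2
  have : (0 : ℤ) ≤ w := by
    simp at hpos
    exact_mod_cast hpos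
  omega

/-- A signed constituent can be split off a generalized character of norm at most three. -/
theorem peel {θ : G → ℂ} (h : Cfsg.IsGeneralizedCharacter G θ) {n : ℕ} (hn : n ≤ 2)
    (hθ : Cfsg.classInner θ θ = ((n + 1 : ℕ) : ℂ)) :
    ∃ X : G → ℂ, Signed X ∧ Cfsg.classInner θ X = 1 ∧
      Cfsg.classInner (θ - X) X = 0 ∧ Cfsg.IsGeneralizedCharacter G (θ - X) ∧
      Cfsg.classInner (θ - X) (θ - X) = (n : ℂ) := by
  classical
  haveI := Fintype.ofFinite (Cfsg.IrrCharacter G)
  obtain ⟨χ, hχ⟩ : ∃ χ : Cfsg.IrrCharacter G, Cfsg.classInner θ (χ : G → ℂ) ≠ 0 := by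
    by_contra hcon
    push Not at hcon
    rw [classInner_eq_sum θ (isGen_isClassFunction h),
      Finset.sum_eq_zero (fun χ _ => by rw [hcon χ, zero_mul])] at hθ
    exact Nat.cast_ne_zero.2 (Nat.succ_ne_zero n) hθ.symm
  obtain ⟨z, hz, hle⟩ := coeff_bound (n := (n : ℤ) + 1) h (Or.inl χ.2) (by rw [hθ]; push_cast; ring)
  have hz0 : z ≠ 0 := fun e => hχ (by rw [hz, e]; simp)
  have hz1 : z = 1 ∨ z = -1 := by
    have h1 : -1 ≤ z := by nlinarith
    have h2 : z ≤ 1 := by nlinarith
    omega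
  have hX : Signed ((z : ℂ) • (χ : G → ℂ)) := by
    rcases hz1 with rfl | rfl
    · left; simpa using χ.2
    · right; simpa using χ.2
  have h1 : Cfsg.classInner θ ((z : ℂ) • (χ : G → ℂ)) = 1 := by
    rw [classInner_smul_right, hz, map_intCast]
    rcases hz1 with rfl | rfl <;> simp
  refine ⟨_, hX, h1, ?_, isGen_sub h hX.isGen, ?_⟩
  · rw [classInner_sub_left, h1, hX.self, sub_self]
  · rw [classInner_sub_left, classInner_sub_right, classInner_sub_right, hX.self, hθ, h1,
      gen_symm h hX.isGen, h1]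
    push_cast; ring

theorem signed_of_norm_one {θ : G → ℂ} (h : Cfsg.IsGeneralizedCharacter G θ)
    (h1 : Cfsg.classInner θ θ = 1) : Signed θ :=
  isGen_norm_one h h1

theorem norm_two {θ : G → ℂ} (h : Cfsg.IsGeneralizedCharacter G θ)
    (h2 : Cfsg.classInner θ θ = 2) :
    ∃ X Y : G → ℂ, Signed X ∧ Signed Y ∧ Cfsg.classInner X Y = 0 ∧ θ = X + Y := by
  obtain ⟨X, hX, -, ho, hg, hn⟩ := peel h (n := 1) (by omega) (by rw [h2]; norm_num)
  have hY := signed_of_norm_one hg (by simpa using hn)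
  exact ⟨X, θ - X, hX, hY, by rw [gen_symm hY.isGen hX.isGen, ho], by abel⟩

theorem norm_three {θ : G → ℂ} (h : Cfsg.IsGeneralizedCharacter G θ)
    (h3 : Cfsg.classInner θ θ = 3) :
    ∃ X Y Z : G → ℂ, Signed X ∧ Signed Y ∧ Signed Z ∧ Cfsg.classInner X Y = 0 ∧
      Cfsg.classInner X Z = 0 ∧ Cfsg.classInner Y Z = 0 ∧ θ = X + Y + Z := by
  obtain ⟨X, hX, -, ho, hg, hn⟩ := peel h (n := 2) (by omega) (by rw [h3]; norm_num)
  obtain ⟨Y, Z, hY, hZ, hYZ, e⟩ := norm_two hg (by simpa using hn)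
  rw [e, classInner_add_left] at ho
  have hYX : Cfsg.classInner Y X = 0 := by
    rcases hY.pair hX with hh | hh | hh
    · exact hh
    · exfalso; subst hh
      rw [hY.self, gen_symm hY.isGen hZ.isGen, hYZ] at ho; simp at ho
    · exfalso; subst hh
      rw [← neg_one_smul ℂ Y, classInner_smul_right, classInner_smul_right, hY.self,
        gen_symm hY.isGen hZ.isGen, hYZ] at ho
      simp at ho
  rw [hYX, zero_add] at ho
  exact ⟨X, Y, Z, hX, hY, hZ, by rw [gen_symm hY.isGen hX.isGen, hYX],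
    by rw [gen_symm hZ.isGen hX.isGen, ho], hYZ, by rw [add_assoc, ← e]; abel⟩

/-- A generalized character of norm zero vanishes. -/
theorem eq_of_norm_sub {θ θ' : G → ℂ}
    (h : Cfsg.classInner (θ - θ') (θ - θ') = 0) : θ = θ' :=
  sub_eq_zero.1 (classInner_self_eq_zero.1 h)

variable {t s : G} {K : Subgroup G}

/-- `Ind_K^G (1 - λ)`. -/
noncomputable def psi (K : Subgroup G) (l : Cfsg.IrrCharacter K) : G → ℂ :=
  Cfsg.indFun K ((fun _ => (1 : ℂ)) - (l : K → ℂ))

/-- The set of elements neither trivial nor conjugate into `K`. -/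
def outside (K : Subgroup G) : Set G := {g | g ≠ 1 ∧ g ∉ khat K}

variable (h : Setup t s K)
include h

theorem Setup.lin (l : Cfsg.IrrCharacter K) : (l : K → ℂ) 1 = 1 :=
  irr_degree_one_of_comm (fun a b => Subtype.ext (h.comm' a.2 b.2)) l.2

theorem Setup.lin_inv (l : Cfsg.IrrCharacter K) (x : K) :
    (l : K → ℂ) x⁻¹ = conj ((l : K → ℂ) x) :=
  char_inv (irr_isCharacter l) x

theorem Setup.lin_norm (l : Cfsg.IrrCharacter K) (x : K) :
    (l : K → ℂ) x * conj ((l : K → ℂ) x) = 1 :=
  CharTheory.Basics.char_norm_eq_one (irr_isCharacter l) (h.lin l) x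

/-- The conjugate of a character of `K`. -/
noncomputable def Setup.bar (l : Cfsg.IrrCharacter K) : Cfsg.IrrCharacter K :=
  ⟨fun x => conj ((l : K → ℂ) x), by
    haveI := Fintype.ofFinite K
    exact CharTheory.Basics.isIrr_of_degree_one
      (CharTheory.Basics.isCharacter_conj (irr_isCharacter l)) (by simp [h.lin l])⟩

theorem Setup.bar_bar (l : Cfsg.IrrCharacter K) : h.bar (h.bar l) = l :=
  Subtype.ext (funext fun x => Complex.conj_conj _)

theorem Setup.bar_triv : h.bar (trivIrr K) = trivIrr K :=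
  Subtype.ext (funext fun x => map_one (starRingEnd ℂ))

theorem Setup.sum_lin [Fintype (Cfsg.IrrCharacter K)] {x : K} (hx : x ≠ 1) :
    ∑ l : Cfsg.IrrCharacter K, (l : K → ℂ) x = 0 := by
  classical
  have h2 := second_orthogonality (G := K) x 1
  rw [if_neg (fun hc => hx (by
    obtain ⟨c, hc⟩ := isConj_iff.1 hc
    exact conj_eq_one_iff.1 hc))] at h2
  simpa [h.lin] using h2

/-- Splitting a sum over `G` of `θ (g⁻¹ x g)`. -/
theorem Setup.psi_on_K (l : Cfsg.IrrCharacter K) {x : K} (hx : x ≠ 1) :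
    psi K l x = 2 - (l : K → ℂ) x - conj ((l : K → ℂ) x) := by
  classical
  set θ : K → ℂ := (fun _ => (1 : ℂ)) - (l : K → ℂ) with hθ
  have hk : (Nat.card K : ℂ) ≠ 0 := Nat.cast_ne_zero.2 Nat.card_pos.ne'
  refine mul_left_cancel₀ hk ?_
  rw [psi, CharTheory.IndBasic.card_mul_indFun, ← hθ]
  have hpt : ∀ g : G, Cfsg.extendByZero K θ (g⁻¹ * (x : G) * g) =
      (if g ∈ K then θ x else 0) + (if s * g ∈ K then θ x⁻¹ else 0) := by
    intro g
    by_cases hm : g⁻¹ * (x : G) * g ∈ K
    · rw [CharTheory.IndBasic.extendByZero_of_mem K θ hm]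
      have hg : g⁻¹ ∈ Subgroup.centralizer ({t} : Set G) :=
        h.of_conj_mem x.2 (fun e => hx (Subtype.ext e)) (by rwa [inv_inv])
      rcases h.H_normalizes hg x.2 with ⟨e, hk'⟩ | ⟨e, hk'⟩ <;> rw [inv_inv] at e
      · have hgK : g ∈ K := inv_mem_iff.1 hk'
        have hsg : s * g ∉ K := fun hh => h.hsK ((K.mul_mem_cancel_right hgK).1 hh)
        rw [if_pos hgK, if_neg hsg, add_zero]
        congr 1; exact Subtype.ext e
      · have hsg : s * g ∈ K := by
          rcases h.mem_H (inv_mem_iff.1 hg) with hh | hh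
          · exfalso; exact h.hsK ((K.mul_mem_cancel_right (K.inv_mem hh)).1 hk')
          · exact hh
        have hgK : g ∉ K := fun hh => h.hsK ((K.mul_mem_cancel_right hh).1 hsg)
        rw [if_pos hsg, if_neg hgK, zero_add]
        congr 1; exact Subtype.ext e
    · rw [CharTheory.IndBasic.extendByZero_of_notMem K θ hm, if_neg, if_neg, add_zero]
      · intro hsg
        apply hm
        have := h.conj_mem_K (g := g⁻¹) (Subgroup.inv_mem _ (by
          have e : g = s * (s * g) := by rw [← mul_assoc, h.s_mul, one_mul]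
          rw [e]; exact Subgroup.mul_mem _ h.hsH (h.K_le hsg))) x.2
        rwa [inv_inv] at this
      · intro hgK
        exact hm (K.mul_mem (K.mul_mem (K.inv_mem hgK) x.2) hgK)
  rw [Finset.sum_congr rfl (fun g _ => hpt g), Finset.sum_add_distrib,
    ← Finset.sum_filter, ← Finset.sum_filter, Finset.sum_const, Finset.sum_const]
  have hc1 : (Finset.univ.filter (fun g : G => g ∈ K)).card = Nat.card K := by
    rw [Nat.card_eq_fintype_card, ← Fintype.card_subtype]
  have hc2 : (Finset.univ.filter (fun g : G => s * g ∈ K)).card = Nat.card K := by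
    rw [← hc1]
    exact Finset.card_equiv (Equiv.mulLeft s) (fun g => by simp)
  rw [hc1, hc2, hθ, Pi.sub_apply, Pi.sub_apply, h.lin_inv, nsmul_eq_mul, nsmul_eq_mul]
  ring

omit h in
theorem psi_off (l : Cfsg.IrrCharacter K) {g : G} (hg : g ∈ outside K) : psi K l g = 0 := by
  classical
  show (Nat.card K : ℂ)⁻¹ * _ = 0
  rw [Finset.sum_eq_zero fun c _ => ?_, mul_zero]
  refine CharTheory.IndBasic.extendByZero_of_notMem K _ fun hm => hg.2 ⟨hg.1, c, hm⟩

theorem Setup.psi_one (l : Cfsg.IrrCharacter K) : psi K l 1 = 0 := by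
  rw [psi, indFun_one, Pi.sub_apply, h.lin l, sub_self, mul_zero]

omit h in
theorem psi_isGen (l : Cfsg.IrrCharacter K) : Cfsg.IsGeneralizedCharacter G (psi K l) := by
  haveI := Fintype.ofFinite K
  exact isGen_indFun K (isGen_sub (isGen_of_isCharacter isCharacter_one)
    (isGen_of_isCharacter (irr_isCharacter l)))

omit h in
theorem one_isGen : Cfsg.IsGeneralizedCharacter G (fun _ : G => (1 : ℂ)) :=
  isGen_of_isCharacter isCharacter_one

omit h in
theorem psi_inner [Fintype K] (l : Cfsg.IrrCharacter K) {φ : G → ℂ}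
    (hφ : Cfsg.IsClassFunction G φ) :
    Cfsg.classInner (psi K l) φ =
      Cfsg.classInner (fun _ : K => (1 : ℂ)) (fun x : K => φ x) -
        Cfsg.classInner (l : K → ℂ) (fun x : K => φ x) := by
  rw [psi, frobenius_reciprocity K _ hφ, classInner_sub_left]

theorem Setup.psi_psi (l m : Cfsg.IrrCharacter K) (hl : l ≠ trivIrr K) (hm : m ≠ trivIrr K)
    [DecidableEq (Cfsg.IrrCharacter K)] :
    Cfsg.classInner (psi K l) (psi K m) =
      2 + (if l = m then 1 else 0) + (if l = h.bar m then 1 else 0) := by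
  classical
  haveI := Fintype.ofFinite K
  rw [show Cfsg.classInner (psi K l) (psi K m) = Cfsg.classInner
      ((fun _ : K => (1 : ℂ)) - (l : K → ℂ)) (fun x : K => psi K m x) from
    frobenius_reciprocity K _ (indFun_isClassFunction K _)]
  have hmb : h.bar m ≠ trivIrr K := fun e => hm (by rw [← h.bar_bar m, e, h.bar_triv])
  have e : (fun x : K => psi K m x) = (fun x : K => if x = 1 then (0 : ℂ) else
      2 - (m : K → ℂ) x - conj ((m : K → ℂ) x)) := funext fun x => by
    split_ifs with hx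
    · subst hx; exact h.psi_one m
    · exact h.psi_on_K m hx
  have e' : Cfsg.classInner ((fun _ : K => (1 : ℂ)) - (l : K → ℂ)) (fun x : K => psi K m x) =
      Cfsg.classInner ((fun _ : K => (1 : ℂ)) - (l : K → ℂ))
        ((2 : ℂ) • (trivIrr K : K → ℂ) - (m : K → ℂ) - (h.bar m : K → ℂ)) := by
    rw [e, classInner_def, classInner_def]
    congr 1
    refine Finset.sum_congr rfl fun x _ => ?_
    by_cases hx : x = 1
    · subst hx; simp [h.lin l]
    · rw [if_neg hx]; simp [trivIrr, Setup.bar]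
  rw [e',
    show (fun _ : K => (1 : ℂ)) = (trivIrr K : K → ℂ) from rfl,
    classInner_sub_left, classInner_sub_right, classInner_sub_right, classInner_sub_right,
    classInner_sub_right, classInner_smul_right, classInner_smul_right,
    classInner_irr, classInner_irr, classInner_irr, classInner_irr, classInner_irr, classInner_irr,
    if_neg hl, if_neg hm.symm, if_neg hmb.symm, if_pos rfl]
  simp [map_ofNat]
  ring_nf

theorem Setup.psi_triv_inner (l : Cfsg.IrrCharacter K) (hl : l ≠ trivIrr K) :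
    Cfsg.classInner (psi K l) (fun _ : G => (1 : ℂ)) = 1 := by
  classical
  haveI := Fintype.ofFinite K
  rw [psi_inner l (char_isClassFunction isCharacter_one),
    show (fun _ : K => (1 : ℂ)) = (trivIrr K : K → ℂ) from rfl, classInner_irr, classInner_irr,
    if_pos rfl, if_neg hl, sub_zero]

theorem Setup.psi_real_inner (l : Cfsg.IrrCharacter K) {χ : G → ℂ}
    (hχ : Cfsg.IsGeneralizedCharacter G χ) :
    Cfsg.classInner χ (psi K l) = Cfsg.classInner (psi K l) χ :=
  gen_symm (psi_isGen l) hχ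

/-- The value on `K \ {1}` of a class function is determined by its products with the `psi`. -/
theorem Setup.value_on_K [Fintype (Cfsg.IrrCharacter K)] [DecidableEq (Cfsg.IrrCharacter K)]
    {φ : G → ℂ} (hφ : Cfsg.IsClassFunction G φ) {x : K} (hx : x ≠ 1) :
    φ x = -∑ l ∈ Finset.univ.erase (trivIrr K),
      Cfsg.classInner φ (psi K l) * (l : K → ℂ) x := by
  haveI := Fintype.ofFinite K
  set c : Cfsg.IrrCharacter K → ℂ := fun l => Cfsg.classInner (fun y : K => φ y) (l : K → ℂ)
  have hd : ∀ l : Cfsg.IrrCharacter K,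
      Cfsg.classInner φ (psi K l) = c (trivIrr K) - c l := fun l => by
    rw [psi, frobenius_reciprocity' K _ hφ, classInner_sub_right]
    rfl
  have hsum := congrFun (classFun_eq_sum (classFun_restrict K hφ)) x
  rw [Finset.sum_apply] at hsum
  simp only [Pi.smul_apply, smul_eq_mul] at hsum
  rw [hsum, Finset.sum_erase _ (by rw [hd, sub_self, zero_mul])]
  simp only [hd, sub_mul, Finset.sum_sub_distrib, ← Finset.mul_sum, h.sum_lin hx]
  simp [c]

omit h in
/-- The linear functional `f ↦ ∑ χ ⟨f, χ⟩ χ t χ x / χ 1`. -/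
noncomputable def Lfun (t x : G) (f : G → ℂ) : ℂ :=
  ∑ᶠ χ : Cfsg.IrrCharacter G,
    Cfsg.classInner f (χ : G → ℂ) * ((χ : G → ℂ) t * (χ : G → ℂ) x / (χ : G → ℂ) 1)

omit h in
theorem Lfun_eq [Fintype (Cfsg.IrrCharacter G)] (t x : G) (f : G → ℂ) :
    Lfun t x f = ∑ χ : Cfsg.IrrCharacter G,
      Cfsg.classInner f (χ : G → ℂ) * ((χ : G → ℂ) t * (χ : G → ℂ) x / (χ : G → ℂ) 1) := by
  rw [Lfun, finsum_eq_sum_of_fintype]

omit h in
theorem Lfun_add (t x : G) (f f' : G → ℂ) : Lfun t x (f + f') = Lfun t x f + Lfun t x f' := by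
  classical
  haveI := Fintype.ofFinite (Cfsg.IrrCharacter G)
  simp only [Lfun_eq, ← Finset.sum_add_distrib, classInner_add_left, add_mul]

omit h in
theorem Lfun_signed (t x : G) {f : G → ℂ} (hf : Signed f) :
    Lfun t x f = f t * f x / f 1 := by
  classical
  haveI := Fintype.ofFinite (Cfsg.IrrCharacter G)
  obtain ⟨χ, ε, hε, rfl⟩ := hf.exists_irr
  rw [Lfun_eq, Finset.sum_eq_single χ (fun b _ hb => by
    rw [classInner_smul_left, classInner_irr, if_neg hb.symm]; simp)
    (fun hh => (hh (Finset.mem_univ _)).elim), classInner_smul_left, classInner_irr, if_pos rfl]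
  simp only [Pi.smul_apply, smul_eq_mul]
  rcases hε with rfl | rfl <;> simp [div_neg]

omit h in
theorem Lfun_one (t x : G) : Lfun t x (fun _ : G => (1 : ℂ)) = 1 := by
  rw [Lfun_signed t x (Or.inl isIrrCharacter_one)]; simp

theorem Setup.pairs_formula [Fintype (Cfsg.IrrCharacter G)] (x : G) :
    (Nat.card {u : G // orderOf u = 2 ∧ orderOf (u * x) = 2} : ℂ) * (4 * (Nat.card K : ℂ) ^ 2) =
      (Nat.card G : ℂ) * ∑ χ : Cfsg.IrrCharacter G,
        (χ : G → ℂ) t * (χ : G → ℂ) t * (χ : G → ℂ) x⁻¹ / (χ : G → ℂ) 1 := by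
  have hS := S0840.result t t x
  rw [finsum_eq_sum_of_fintype] at hS
  have hI : ∀ u : G, orderOf u = 2 ↔ IsConj t u := fun u =>
    ⟨fun hu => h.conj t u h.ht hu, fun hu => by
      obtain ⟨c, hc⟩ := isConj_iff.1 hu
      rw [← hc, ← MulAut.conj_apply, MulEquiv.orderOf_eq, h.ht]⟩
  have hN : Nat.card {p : G × G // IsConj t p.1 ∧ IsConj t p.2 ∧ p.1 * p.2 = x} =
      Nat.card {u : G // orderOf u = 2 ∧ orderOf (u * x) = 2} := by
    rw [← Involutions.Counting.card_pairs]
    exact Nat.card_congr (Equiv.subtypeEquivRight fun p => by rw [hI, hI])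
  have hC : (Nat.card {u : G // IsConj t u} : ℂ) * (2 * (Nat.card K : ℂ)) = Nat.card G := by
    have := h.card_invol
    rw [Nat.card_congr (Equiv.subtypeEquivRight hI)] at this
    exact_mod_cast this
  rw [hN] at hS
  rw [hS]
  simp only [char_inv (irr_isCharacter _)]
  have hG : (Nat.card G : ℂ) ≠ 0 := natCard_ne_zero
  field_simp
  linear_combination ((Nat.card {u : G // IsConj t u} : ℂ) * (2 * (Nat.card K : ℂ)) +
    (Nat.card G : ℂ)) * (∑ χ : Cfsg.IrrCharacter G, (χ : G → ℂ) t ^ 2 *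
      conj ((χ : G → ℂ) x) / (χ : G → ℂ) 1) * hC

/-- The key equation. -/
theorem Setup.key (l : Cfsg.IrrCharacter K) (hl : l ≠ trivIrr K) :
    Lfun t t (psi K l) * (Nat.card G : ℂ) = 4 * (Nat.card K : ℂ) ^ 3 := by
  classical
  haveI := Fintype.ofFinite (Cfsg.IrrCharacter G)
  haveI := Fintype.ofFinite K
  set k := (Nat.card K : ℂ) with hkdef
  have hk : k ≠ 0 := natCard_ne_zero
  set θ : K → ℂ := (fun _ => (1 : ℂ)) - (l : K → ℂ) with hθ
  have h1 : ∑ y : K, θ y * ((Nat.card {u : G // orderOf u = 2 ∧ orderOf (u * (y : G)) = 2} : ℂ) *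
      (4 * k ^ 2)) = 4 * k ^ 3 * ∑ y : K, θ y := by
    rw [Finset.mul_sum]
    refine Finset.sum_congr rfl fun y _ => ?_
    by_cases hy : y = 1
    · subst hy; simp [hθ, h.lin l]
    · rw [h.card_pairs_K y.2 (fun e => hy (Subtype.ext e))]; ring
  have h2 : ∑ y : K, θ y = k := by
    have e := classInner_isIrr_ne l.2 (isIrrCharacter_one (G := K)) (fun e => hl (Subtype.ext e))
    rw [classInner_def] at e
    simp only [map_one, mul_one, mul_eq_zero, inv_eq_zero] at e
    rw [hθ]
    simp only [Pi.sub_apply, Finset.sum_sub_distrib, e.resolve_left natCard_ne_zero]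
    simp [k, Nat.card_eq_fintype_card]
  have h3 : ∑ y : K, θ y * ((Nat.card {u : G // orderOf u = 2 ∧ orderOf (u * (y : G)) = 2} : ℂ) *
      (4 * k ^ 2)) = (Nat.card G : ℂ) * (k * Lfun t t (psi K l)) := by
    have hy : ∀ y : K, (Nat.card {u : G // orderOf u = 2 ∧ orderOf (u * (y : G)) = 2} : ℂ) *
        (4 * k ^ 2) = (Nat.card G : ℂ) * ∑ χ : Cfsg.IrrCharacter G,
          (χ : G → ℂ) t * (χ : G → ℂ) t * (χ : G → ℂ) (y : G)⁻¹ / (χ : G → ℂ) 1 :=
      fun y => h.pairs_formula _
    simp only [hy, Lfun_eq, Finset.mul_sum]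
    rw [Finset.sum_comm]
    refine Finset.sum_congr rfl fun χ _ => ?_
    rw [psi, frobenius_reciprocity K _ (irr_isClassFunction χ), classInner_def, ← hθ,
      ← mul_assoc k, ← mul_assoc k, mul_inv_cancel₀ hk, one_mul]
    simp only [Finset.mul_sum, Finset.sum_mul, char_inv (irr_isCharacter χ)]
    refine Finset.sum_congr rfl fun y _ => by ring
  rw [h3, h2] at h1
  refine mul_left_cancel₀ hk ?_
  linear_combination h1

end Cfsg.Agent.BSWAbstract
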