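import Mathlib
import Cfsg.Agent.Lib.Involutions.BSW.Chars

/-!
# The Brauer–Suzuki–Wall situation: the distinguished constituent common to all `psi`
-/

set_option autoImplicit false
set_option linter.unusedSectionVars false
set_option linter.unusedVariables false
set_option linter.style.haveILetI false

open scoped ComplexConjugate

namespace Cfsg.Agent.BSWAbstract

open Cfsg.Agent.Characters

universe u

variable {G : Type u} [Group G] [Fintype G] {t s : G} {K : Subgroup G}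

/-- `psi - 1`. -/
noncomputable def gam (K : Subgroup G) (l : Cfsg.IrrCharacter K) : G → ℂ :=
  psi K l - fun _ => 1

theorem gam_isGen (l : Cfsg.IrrCharacter K) : Cfsg.IsGeneralizedCharacter G (gam K l) :=
  isGen_sub (psi_isGen l) one_isGen

/-- A signed irreducible character common to all `psi`. -/
structure Star (K : Subgroup G) (A : G → ℂ) : Prop where
  signed : Signed A
  triv : Cfsg.classInner A (fun _ : G => (1 : ℂ)) = 0
  psi_inner : ∀ l : Cfsg.IrrCharacter K, l ≠ trivIrr K → Cfsg.classInner (psi K l) A = 1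

variable (h : Setup t s K)
include h

theorem Setup.card_irr : Nat.card (Cfsg.IrrCharacter K) = Nat.card K := by
  haveI := Fintype.ofFinite K
  rw [card_irrCharacter]
  refine (Nat.card_eq_of_bijective ConjClasses.mk ⟨fun a b e => ?_, ConjClasses.mk_surjective⟩).symm
  obtain ⟨c, hc⟩ := isConj_iff.1 (ConjClasses.mk_eq_mk_iff_isConj.1 e)
  have e1 : c * a = a * c := Subtype.ext (h.comm' c.2 a.2)
  rw [← hc, e1, mul_inv_cancel_right]

theorem Setup.exists_delta : ∃ d : Cfsg.IrrCharacter K, d ≠ trivIrr K ∧ h.bar d = d ∧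
    ∀ l : Cfsg.IrrCharacter K, h.bar l = l → l = trivIrr K ∨ l = d := by
  classical
  let φ : K →* K :=
    { toFun := fun x => x * x
      map_one' := mul_one 1
      map_mul' := fun a b => Subtype.ext (by
        simp only [Subgroup.coe_mul]
        rw [mul_assoc, ← mul_assoc (b : G) a b, h.comm' b.2 a.2, mul_assoc, ← mul_assoc]) }
  have hker : Nat.card φ.ker = 2 := by
    rw [← Nat.card_eq_of_bijective (fun b : Bool => (bif b then
      ⟨⟨t, h.htK⟩, Subtype.ext h.t_mul⟩ else (1 : φ.ker))) ⟨?_, ?_⟩]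
    · simp
    · rintro (_ | _) (_ | _) e
      · rfl
      · exact (h.t_ne (congrArg (fun z : φ.ker => ((z : K) : G)) e).symm).elim
      · exact (h.t_ne (congrArg (fun z : φ.ker => ((z : K) : G)) e)).elim
      · rfl
    · intro z
      rcases h.sq_one (z : K).2 (congrArg Subtype.val (MonoidHom.mem_ker.1 z.2)) with e | e
      · exact ⟨false, Subtype.ext (Subtype.ext e.symm)⟩
      · exact ⟨true, Subtype.ext (Subtype.ext e.symm)⟩
  have hidx : φ.range.index = 2 := by
    have h1 := φ.range.index_mul_card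
    have h2 := φ.ker.index_mul_card
    rw [Subgroup.index_ker, hker] at h2
    have hpos : 0 < Nat.card φ.range := Nat.card_pos
    nlinarith
  let f : K →* ℂ :=
    { toFun := fun x => if x ∈ φ.range then 1 else -1
      map_one' := if_pos φ.range.one_mem
      map_mul' := fun a b => by
        have := Subgroup.mul_mem_iff_of_index_two hidx (a := a) (b := b)
        by_cases ha : a ∈ φ.range <;> by_cases hb : b ∈ φ.range <;> simp [this, ha, hb] }
  obtain ⟨x₀, hx₀⟩ : ∃ x₀ : K, x₀ ∉ φ.range := by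
    by_contra hcon
    push Not at hcon
    rw [(Subgroup.eq_top_iff' φ.range).2 hcon, Subgroup.index_top] at hidx
    omega
  refine ⟨⟨f, isIrrCharacter_monoidHom f⟩, fun e => ?_, Subtype.ext (funext fun x => ?_),
    fun l hl => ?_⟩
  · have h1 := congrFun (congrArg Subtype.val e) x₀
    simp only [f, trivIrr, MonoidHom.coe_mk, OneHom.coe_mk, if_neg hx₀] at h1
    norm_num at h1
  · show conj (f x) = f x
    by_cases hx : x ∈ φ.range
    · simp only [f, MonoidHom.coe_mk, OneHom.coe_mk, if_pos hx, map_one]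
    · simp only [f, MonoidHom.coe_mk, OneHom.coe_mk, if_neg hx, map_neg, map_one]
  have hmul := char_mul_of_degree_one (irr_isCharacter l) (h.lin l)
  have hreal : ∀ x, conj ((l : K → ℂ) x) = (l : K → ℂ) x := fun x =>
    congrFun (congrArg Subtype.val hl) x
  have hr : ∀ x ∈ φ.range, (l : K → ℂ) x = 1 := by
    rintro _ ⟨y, rfl⟩
    show (l : K → ℂ) (y * y) = 1
    rw [hmul]
    have := h.lin_norm l y
    rwa [hreal] at this
  by_cases h0 : (l : K → ℂ) x₀ = 1
  · left
    refine Subtype.ext (funext fun x => ?_)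
    by_cases hx : x ∈ φ.range
    · exact hr x hx
    · have hm : x * x₀ ∈ φ.range :=
        (Subgroup.mul_mem_iff_of_index_two hidx).2 (by simp [hx, hx₀])
      have := hr _ hm
      rwa [hmul, h0, mul_one] at this
  · right
    refine Subtype.ext (funext fun x => ?_)
    show (l : K → ℂ) x = f x
    by_cases hx : x ∈ φ.range
    · simp only [f, MonoidHom.coe_mk, OneHom.coe_mk, if_pos hx, hr x hx]
    · have hsq := h.lin_norm l x
      rw [hreal] at hsq
      rcases mul_self_eq_one_iff.1 hsq with e | e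
      · exfalso
        apply h0
        have hm : x * x₀ ∈ φ.range :=
          (Subgroup.mul_mem_iff_of_index_two hidx).2 (by simp [hx, hx₀])
        have := hr _ hm
        rwa [hmul, e, one_mul] at this
      · simp only [f, MonoidHom.coe_mk, OneHom.coe_mk, if_neg hx, e]

theorem Setup.gam_gam (l m : Cfsg.IrrCharacter K) (hl : l ≠ trivIrr K) (hm : m ≠ trivIrr K)
    [DecidableEq (Cfsg.IrrCharacter K)] :
    Cfsg.classInner (gam K l) (gam K m) =
      1 + (if l = m then 1 else 0) + (if l = h.bar m then 1 else 0) := by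
  rw [gam, gam, classInner_sub_left, classInner_sub_right, classInner_sub_right, h.psi_psi l m hl hm,
    h.psi_triv_inner l hl, gen_symm (psi_isGen m) one_isGen, h.psi_triv_inner m hm,
    classInner_isIrr_self isIrrCharacter_one]
  ring

theorem Setup.gam_one (l : Cfsg.IrrCharacter K) : gam K l 1 = -1 := by
  rw [gam, Pi.sub_apply, h.psi_one l, zero_sub]

theorem Setup.gam_triv (l : Cfsg.IrrCharacter K) (hl : l ≠ trivIrr K) :
    Cfsg.classInner (gam K l) (fun _ : G => (1 : ℂ)) = 0 := by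
  rw [gam, classInner_sub_left, h.psi_triv_inner l hl, classInner_isIrr_self isIrrCharacter_one,
    sub_self]

theorem Setup.psi_bar (l : Cfsg.IrrCharacter K) (hl : l ≠ trivIrr K) : gam K (h.bar l) = gam K l := by
  classical
  have hb : h.bar l ≠ trivIrr K := fun e => hl (by rw [← h.bar_bar l, e, h.bar_triv])
  apply eq_of_norm_sub
  rw [classInner_sub_left, classInner_sub_right, classInner_sub_right, h.gam_gam _ _ hb hb,
    h.gam_gam _ _ hb hl, h.gam_gam _ _ hl hb, h.gam_gam _ _ hl hl, h.bar_bar]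
  simp [eq_comm]
  ring

theorem Setup.star_of_gam {A : G → ℂ} (hA : Signed A) {l₀ : Cfsg.IrrCharacter K}
    (hl₀ : l₀ ≠ trivIrr K) (hall : ∀ l, l ≠ trivIrr K → Cfsg.classInner (gam K l) A = 1) :
    Star K A := by
  have hA1 : Cfsg.classInner A (fun _ : G => (1 : ℂ)) = 0 := by
    rcases hA.pair (f' := fun _ : G => (1 : ℂ)) (Or.inl isIrrCharacter_one) with hh | hh | hh
    · exact hh
    · exfalso
      have := hall l₀ hl₀
      rw [← hh, h.gam_triv l₀ hl₀] at this
      exact zero_ne_one this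
    · exfalso
      have := hall l₀ hl₀
      have e : A = (-1 : ℂ) • fun _ : G => (1 : ℂ) := by rw [hh]; simp
      rw [e, classInner_smul_right, h.gam_triv l₀ hl₀, mul_zero] at this
      exact zero_ne_one this
  refine ⟨hA, hA1, fun l hl => ?_⟩
  have := hall l hl
  rw [gam, classInner_sub_left, gen_symm hA.isGen one_isGen, hA1, sub_zero] at this
  exact this

/-- The sides of the other `gam`. -/
theorem Setup.sides {l₀ m : Cfsg.IrrCharacter K} {X Y : G → ℂ} (hX : Signed X) (hY : Signed Y)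
    (he : gam K l₀ = X + Y) (hl₀ : l₀ ≠ trivIrr K) (hm : m ≠ trivIrr K) (hne : m ≠ l₀)
    (hne' : m ≠ h.bar l₀) :
    (Cfsg.classInner (gam K m) X = 1 ∧ Cfsg.classInner (gam K m) Y = 0) ∨
      (Cfsg.classInner (gam K m) X = 0 ∧ Cfsg.classInner (gam K m) Y = 1) := by
  classical
  obtain ⟨n, hn, hn3⟩ : ∃ n : ℤ, Cfsg.classInner (gam K m) (gam K m) = (n : ℂ) ∧ n ≤ 3 := by
    rw [h.gam_gam m m hm hm, if_pos rfl]
    by_cases hb : m = h.bar m
    · exact ⟨3, by rw [if_pos hb]; norm_num, le_rfl⟩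
    · exact ⟨2, by rw [if_neg hb]; norm_num, by norm_num⟩
  obtain ⟨u, hu, hu'⟩ := coeff_bound (gam_isGen m) hX hn
  obtain ⟨v, hv, hv'⟩ := coeff_bound (gam_isGen m) hY hn
  have h1 := h.gam_gam m l₀ hm hl₀
  rw [he, classInner_add_right, hu, hv, if_neg hne, if_neg hne', add_zero, add_zero] at h1
  have h2 : u + v = 1 := by exact_mod_cast h1
  have : -1 ≤ u ∧ u ≤ 1 := ⟨by nlinarith, by nlinarith⟩
  have : -1 ≤ v ∧ v ≤ 1 := ⟨by nlinarith, by nlinarith⟩
  rcases (show u = 1 ∧ v = 0 ∨ u = 0 ∧ v = 1 by omega) with ⟨rfl, rfl⟩ | ⟨rfl, rfl⟩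
  · left; exact ⟨by simpa using hu, by simpa using hv⟩
  · right; exact ⟨by simpa using hu, by simpa using hv⟩

theorem Setup.val_t_sq (l : Cfsg.IrrCharacter K) :
    ((l : K → ℂ) ⟨t, h.htK⟩ = 1 ∨ (l : K → ℂ) ⟨t, h.htK⟩ = -1) ∧
      conj ((l : K → ℂ) ⟨t, h.htK⟩) = (l : K → ℂ) ⟨t, h.htK⟩ := by
  have hinv : (⟨t, h.htK⟩ : K)⁻¹ = ⟨t, h.htK⟩ := Subtype.ext h.t_inv
  have h2 := h.lin_inv l ⟨t, h.htK⟩
  rw [hinv] at h2
  have h3 := h.lin_norm l ⟨t, h.htK⟩
  rw [← h2] at h3
  exact ⟨mul_self_eq_one_iff.1 h3, h2.symm⟩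

/-- The mixed configuration is impossible. -/
theorem Setup.no_mixed {l₀ m₁ m₂ : Cfsg.IrrCharacter K} {X Y : G → ℂ} (hX : Signed X)
    (hY : Signed Y) (hXY : Cfsg.classInner X Y = 0) (he : gam K l₀ = X + Y)
    (hl₀ : l₀ ≠ trivIrr K) (hl₀r : h.bar l₀ ≠ l₀)
    (hm₁ : m₁ ≠ trivIrr K) (hm₁r : h.bar m₁ ≠ m₁) (hm₁l : m₁ ≠ l₀) (hm₁l' : m₁ ≠ h.bar l₀)
    (hm₂ : m₂ ≠ trivIrr K) (hm₂l : m₂ ≠ l₀) (hm₂l' : m₂ ≠ h.bar l₀)
    (hs₁ : Cfsg.classInner (gam K m₁) X = 1 ∧ Cfsg.classInner (gam K m₁) Y = 0)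
    (hs₂ : Cfsg.classInner (gam K m₂) X = 0 ∧ Cfsg.classInner (gam K m₂) Y = 1) : False := by
  classical
  haveI := Fintype.ofFinite K
  haveI := Fintype.ofFinite (Cfsg.IrrCharacter K)
  obtain ⟨x, hx, -, -⟩ := hX.degree
  obtain ⟨y, hy, -, -⟩ := hY.degree
  have hxy : x + y = -1 := by
    have := congrFun he 1
    rw [h.gam_one, Pi.add_apply, hx, hy] at this
    exact_mod_cast this.symm
  -- the second constituent of a nonreal `gam` on the side of `X`
  have hB : ∀ m, m ≠ trivIrr K → h.bar m ≠ m → Cfsg.classInner (gam K m) X = 1 →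
      Cfsg.classInner (gam K m) Y = 0 →
      Signed (gam K m - X) ∧ Cfsg.classInner (gam K m - X) X = 0 ∧
        Cfsg.classInner Y (gam K m - X) = 0 ∧ (gam K m - X) 1 = (y : ℂ) := by
    intro m hm hmr h1 h0
    refine ⟨signed_of_norm_one (isGen_sub (gam_isGen m) hX.isGen) ?_, ?_, ?_, ?_⟩
    · rw [classInner_sub_left, classInner_sub_right, classInner_sub_right, h.gam_gam m m hm hm,
        if_pos rfl, if_neg (fun e => hmr e.symm), h1, gen_symm (gam_isGen m) hX.isGen, h1, hX.self]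
      norm_num
    · rw [classInner_sub_left, h1, hX.self, sub_self]
    · rw [classInner_sub_right, gen_symm (gam_isGen m) hY.isGen, h0, gen_symm hX.isGen hY.isGen,
        hXY, sub_self]
    · rw [Pi.sub_apply, h.gam_one, hx, show y = -1 - x by omega]; push_cast; ring
  obtain ⟨hB₁, hB₁X, hYB₁, hb₁⟩ := hB m₁ hm₁ hm₁r hs₁.1 hs₁.2
  set B₁ := gam K m₁ - X with hB₁def
  have hcross : ∀ m m', m ≠ trivIrr K → m' ≠ trivIrr K → m ≠ m' → m ≠ h.bar m' →
      Cfsg.classInner (gam K m) X = 0 → Cfsg.classInner (gam K m) (gam K m' - X) = 1 := by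
    intro m m' hm hm' hne hne' h0
    rw [classInner_sub_right, h0, h.gam_gam m m' hm hm', if_neg hne, if_neg hne']
    norm_num
  have h21 : m₂ ≠ m₁ := fun e => one_ne_zero (by rw [← hs₁.1, ← e, hs₂.1])
  have h21' : m₂ ≠ h.bar m₁ := fun e => one_ne_zero (by
    rw [← hs₁.1, ← h.psi_bar m₁ hm₁, ← e, hs₂.1])
  have hm₂B : Cfsg.classInner (gam K m₂) B₁ = 1 := hcross m₂ m₁ hm₂ hm₁ h21 h21' hs₂.1
  by_cases hm₂r : h.bar m₂ = m₂
  swap
  · have e2 : gam K m₂ = Y + B₁ := by
      apply eq_of_norm_sub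
      simp only [classInner_sub_left, classInner_sub_right, classInner_add_left,
        classInner_add_right, gen_symm (gam_isGen m₂) hY.isGen, gen_symm (gam_isGen m₂) hB₁.isGen,
        gen_symm hY.isGen hB₁.isGen, h.gam_gam m₂ m₂ hm₂ hm₂, hs₂.2, hm₂B, hY.self, hB₁.self,
        hYB₁, if_neg (fun e : m₂ = h.bar m₂ => hm₂r e.symm), if_pos rfl]
      norm_num
    have h5 := congrFun e2 1
    rw [h.gam_one, Pi.add_apply, hy, hb₁] at h5
    have h5' : y + y = -1 := by exact_mod_cast h5.symm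
    omega
  have hd : ∀ l, h.bar l = l → l ≠ trivIrr K → l = m₂ := by
    obtain ⟨d, -, -, hd⟩ := h.exists_delta
    intro l hl hlt
    rw [(hd l hl).resolve_left hlt, (hd m₂ hm₂r).resolve_left hm₂]
  by_cases hthird : ∃ m₃, m₃ ≠ trivIrr K ∧ h.bar m₃ ≠ m₃ ∧ m₃ ≠ l₀ ∧ m₃ ≠ h.bar l₀ ∧
      m₃ ≠ m₁ ∧ m₃ ≠ h.bar m₁
  · obtain ⟨m₃, hm₃, hm₃r, hm₃l, hm₃l', hm₃m, hm₃m'⟩ := hthird
    rcases h.sides hX hY he hl₀ hm₃ hm₃l hm₃l' with h3 | h3
    · obtain ⟨hB₃, hB₃X, hYB₃, hb₃⟩ := hB m₃ hm₃ hm₃r h3.1 h3.2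
      set B₃ := gam K m₃ - X with hB₃def
      have h23 : m₂ ≠ m₃ := fun e => hm₃r (e ▸ hm₂r)
      have h23' : m₂ ≠ h.bar m₃ := fun e => h23 (by rw [← h.bar_bar m₃, ← e, hm₂r])
      have hm₂B₃ : Cfsg.classInner (gam K m₂) B₃ = 1 := hcross m₂ m₃ hm₂ hm₃ h23 h23' hs₂.1
      have hB13 : Cfsg.classInner B₁ B₃ = 0 := by
        rw [hB₁def, classInner_sub_left, gen_symm hB₃.isGen hX.isGen, hB₃X, sub_zero, hB₃def,
          classInner_sub_right, hs₁.1, h.gam_gam m₁ m₃ hm₁ hm₃, if_neg hm₃m.symm,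
          if_neg (fun e => hm₃m' (by rw [e, h.bar_bar]))]
        norm_num
      have e2 : gam K m₂ = Y + B₁ + B₃ := by
        apply eq_of_norm_sub
        simp only [classInner_sub_left, classInner_sub_right, classInner_add_left,
          classInner_add_right, gen_symm (gam_isGen m₂) hY.isGen,
          gen_symm (gam_isGen m₂) hB₁.isGen, gen_symm (gam_isGen m₂) hB₃.isGen,
          gen_symm hY.isGen hB₁.isGen, gen_symm hY.isGen hB₃.isGen,
          gen_symm hB₁.isGen hB₃.isGen, h.gam_gam m₂ m₂ hm₂ hm₂, hs₂.2, hm₂B, hm₂B₃, hY.self,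
          hB₁.self, hB₃.self, hYB₁, hYB₃, hB13, if_pos hm₂r.symm, if_pos rfl]
        norm_num
      have h5 := congrFun e2 1
      rw [h.gam_one, Pi.add_apply, Pi.add_apply, hy, hb₁, hb₃] at h5
      have h5' : y + y + y = -1 := by exact_mod_cast h5.symm
      omega
    · -- two nonreal ones on different sides
      have hm₃B : Cfsg.classInner (gam K m₃) B₁ = 1 := hcross m₃ m₁ hm₃ hm₁ hm₃m hm₃m' h3.1
      have e2 : gam K m₃ = Y + B₁ := by
        apply eq_of_norm_sub
        simp only [classInner_sub_left, classInner_sub_right, classInner_add_left,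
          classInner_add_right, gen_symm (gam_isGen m₃) hY.isGen, gen_symm (gam_isGen m₃) hB₁.isGen,
          gen_symm hY.isGen hB₁.isGen, h.gam_gam m₃ m₃ hm₃ hm₃, h3.2, hm₃B, hY.self, hB₁.self,
          hYB₁, if_neg (fun e : m₃ = h.bar m₃ => hm₃r e.symm), if_pos rfl]
        norm_num
      have h5 := congrFun e2 1
      rw [h.gam_one, Pi.add_apply, hy, hb₁] at h5
      have h5' : y + y = -1 := by exact_mod_cast h5.symm
      omega
  -- exactly five nontrivial characters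
  push Not at hthird
  have hset : (Finset.univ.erase (trivIrr K) : Finset (Cfsg.IrrCharacter K)) =
      {l₀, h.bar l₀, m₁, h.bar m₁, m₂} := by
    ext l
    simp only [Finset.mem_erase, Finset.mem_univ, and_true, Finset.mem_insert,
      Finset.mem_singleton]
    constructor
    · intro hl
      by_cases hlr : h.bar l = l
      · exact Or.inr (Or.inr (Or.inr (Or.inr (hd l hlr hl))))
      by_cases e1 : l = l₀
      · exact Or.inl e1
      by_cases e2 : l = h.bar l₀
      · exact Or.inr (Or.inl e2)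
      by_cases e3 : l = m₁
      · exact Or.inr (Or.inr (Or.inl e3))
      exact Or.inr (Or.inr (Or.inr (Or.inl (hthird l hl hlr e1 e2 e3))))
    · rintro (rfl | rfl | rfl | rfl | rfl)
      exacts [hl₀, fun e => hl₀ (by rw [← h.bar_bar l₀, e, h.bar_triv]), hm₁,
        fun e => hm₁ (by rw [← h.bar_bar m₁, e, h.bar_triv]), hm₂]
  have n1 : l₀ ∉ ({h.bar l₀, m₁, h.bar m₁, m₂} : Finset (Cfsg.IrrCharacter K)) := by
    simp only [Finset.mem_insert, Finset.mem_singleton, not_or]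
    exact ⟨hl₀r.symm, hm₁l.symm, fun e => hm₁l' (by rw [e, h.bar_bar]), hm₂l.symm⟩
  have n2 : h.bar l₀ ∉ ({m₁, h.bar m₁, m₂} : Finset (Cfsg.IrrCharacter K)) := by
    simp only [Finset.mem_insert, Finset.mem_singleton, not_or]
    exact ⟨hm₁l'.symm, fun e => hm₁l (by rw [← h.bar_bar m₁, ← e, h.bar_bar]), hm₂l'.symm⟩
  have n3 : m₁ ∉ ({h.bar m₁, m₂} : Finset (Cfsg.IrrCharacter K)) := by
    simp only [Finset.mem_insert, Finset.mem_singleton, not_or]
    exact ⟨hm₁r.symm, h21.symm⟩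
  have n4 : h.bar m₁ ∉ ({m₂} : Finset (Cfsg.IrrCharacter K)) := by
    simp only [Finset.mem_singleton]
    exact fun e => h21' e.symm
  have htK1 : (⟨t, h.htK⟩ : K) ≠ 1 := fun e => h.t_ne (congrArg Subtype.val e)
  obtain ⟨hl, hlc⟩ := h.val_t_sq l₀
  obtain ⟨hmu, hmuc⟩ := h.val_t_sq m₁
  obtain ⟨hde, -⟩ := h.val_t_sq m₂
  set a := (l₀ : K → ℂ) ⟨t, h.htK⟩ with ha
  set b := (m₁ : K → ℂ) ⟨t, h.htK⟩ with hb
  set c := (m₂ : K → ℂ) ⟨t, h.htK⟩ with hc
  have hba : (h.bar l₀ : K → ℂ) ⟨t, h.htK⟩ = a := hlc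
  have hbb : (h.bar m₁ : K → ℂ) ⟨t, h.htK⟩ = b := hmuc
  have hsum : 1 + 2 * a + 2 * b + c = 0 := by
    have := h.sum_lin htK1
    rw [← Finset.add_sum_erase _ _ (Finset.mem_univ (trivIrr K)), hset, Finset.sum_insert n1,
      Finset.sum_insert n2, Finset.sum_insert n3, Finset.sum_insert n4, Finset.sum_singleton,
      hba, hbb, ← ha, ← hb, ← hc] at this
    simp only [trivIrr] at this
    linear_combination this
  have hgY : ∀ l, l ≠ trivIrr K → Cfsg.classInner Y (psi K l) = Cfsg.classInner (gam K l) Y := by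
    intro l hl'
    rw [h.psi_real_inner l hY.isGen, gam, classInner_sub_left, gen_symm hY.isGen one_isGen]
    rcases hY.pair (f' := fun _ : G => (1 : ℂ)) (Or.inl isIrrCharacter_one) with hh | hh | hh
    · rw [hh, sub_zero]
    · exfalso
      have := hs₂.2
      rw [← hh, h.gam_triv m₂ hm₂] at this
      exact zero_ne_one this
    · exfalso
      have := hs₂.2
      have e : Y = (-1 : ℂ) • fun _ : G => (1 : ℂ) := by rw [hh]; simp
      rw [e, classInner_smul_right, h.gam_triv m₂ hm₂, mul_zero] at this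
      exact zero_ne_one this
  have hgB : ∀ l, l ≠ trivIrr K → Cfsg.classInner B₁ (psi K l) = Cfsg.classInner (gam K l) B₁ := by
    intro l hl'
    rw [h.psi_real_inner l hB₁.isGen, gam, classInner_sub_left, gen_symm hB₁.isGen one_isGen]
    rcases hB₁.pair (f' := fun _ : G => (1 : ℂ)) (Or.inl isIrrCharacter_one) with hh | hh | hh
    · rw [hh, sub_zero]
    · exfalso
      have := hm₂B
      rw [← hh, h.gam_triv m₂ hm₂] at this
      exact zero_ne_one this
    · exfalso
      have := hm₂B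
      have e : B₁ = (-1 : ℂ) • fun _ : G => (1 : ℂ) := by rw [hh]; simp
      rw [e, classInner_smul_right, h.gam_triv m₂ hm₂, mul_zero] at this
      exact zero_ne_one this
  have hbl : h.bar l₀ ≠ trivIrr K := fun e => hl₀ (by rw [← h.bar_bar l₀, e, h.bar_triv])
  have hbm : h.bar m₁ ≠ trivIrr K := fun e => hm₁ (by rw [← h.bar_bar m₁, e, h.bar_triv])
  have hYt : Y t = -(2 * a + c) := by
    rw [show Y t = Y ((⟨t, h.htK⟩ : K) : G) from rfl,
      h.value_on_K (isGen_isClassFunction hY.isGen) htK1, hset, Finset.sum_insert n1,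
      Finset.sum_insert n2, Finset.sum_insert n3, Finset.sum_insert n4, Finset.sum_singleton,
      hgY _ hl₀, hgY _ hbl, hgY _ hm₁, hgY _ hbm, hgY _ hm₂, h.psi_bar l₀ hl₀,
      h.psi_bar m₁ hm₁, hs₁.2, hs₂.2, he, classInner_add_left, hXY, hY.self, hba, hbb,
      ← ha, ← hb, ← hc]
    ring
  have hBt : B₁ t = -(2 * b + c) := by
    have hB0 : Cfsg.classInner (gam K l₀) B₁ = 0 := by
      rw [he, classInner_add_left, gen_symm hB₁.isGen hX.isGen, hB₁X, hYB₁, add_zero]
    have hB1 : Cfsg.classInner (gam K m₁) B₁ = 1 := by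
      rw [show gam K m₁ = X + B₁ by rw [hB₁def]; abel, classInner_add_left,
        gen_symm hB₁.isGen hX.isGen, hB₁X, hB₁.self, zero_add]
    rw [show B₁ t = B₁ ((⟨t, h.htK⟩ : K) : G) from rfl,
      h.value_on_K (isGen_isClassFunction hB₁.isGen) htK1, hset, Finset.sum_insert n1,
      Finset.sum_insert n2, Finset.sum_insert n3, Finset.sum_insert n4, Finset.sum_singleton,
      hgB _ hl₀, hgB _ hbl, hgB _ hm₁, hgB _ hbm, hgB _ hm₂, h.psi_bar l₀ hl₀,
      h.psi_bar m₁ hm₁, hB0, hB1, hm₂B, hba, hbb, ← ha, ← hb, ← hc]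
    ring
  have hy0 : (y : ℂ) ≠ 0 := by
    obtain ⟨y', hy', hy0, -⟩ := hY.degree
    rw [hy] at hy'
    rw [hy']
    exact_mod_cast hy0
  have hL : Lfun t t Y = Lfun t t B₁ := by
    have hG : (Nat.card G : ℂ) ≠ 0 := natCard_ne_zero
    have e1 := h.key l₀ hl₀
    have e2 := h.key m₁ hm₁
    have p1 : psi K l₀ = (fun _ => 1) + (X + Y) := by rw [← he, gam]; abel
    have p2 : psi K m₁ = (fun _ => 1) + (X + B₁) := by rw [hB₁def, gam]; abel
    rw [p1, Lfun_add, Lfun_add] at e1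
    rw [p2, Lfun_add, Lfun_add] at e2
    refine mul_right_cancel₀ hG ?_
    linear_combination e1 - e2
  rw [Lfun_signed t t hY, Lfun_signed t t hB₁, hy, hb₁, hYt, hBt, div_left_inj' hy0] at hL
  rcases hl with e | e <;> rcases hmu with e' | e' <;> rcases hde with e'' | e'' <;>
    rw [e, e', e''] at hsum hL <;>
      first
        | (norm_num at hsum; done)
        | (norm_num at hL; done)

theorem Setup.exists_star_two {l₀ : Cfsg.IrrCharacter K} (hl₀ : l₀ ≠ trivIrr K)
    (hl₀r : h.bar l₀ ≠ l₀) : ∃ A : G → ℂ, Star K A := by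
  classical
  obtain ⟨X, Y, hX, hY, hXY, he⟩ := norm_two (gam_isGen l₀) (by
    rw [h.gam_gam l₀ l₀ hl₀ hl₀, if_pos rfl, if_neg hl₀r.symm]; norm_num)
  have hX₀ : Cfsg.classInner (gam K l₀) X = 1 := by
    rw [he, classInner_add_left, hX.self, gen_symm hX.isGen hY.isGen, hXY, add_zero]
  have hY₀ : Cfsg.classInner (gam K l₀) Y = 1 := by
    rw [he, classInner_add_left, hY.self, hXY, zero_add]
  by_cases hallX : ∀ m, m ≠ trivIrr K → Cfsg.classInner (gam K m) X = 1
  · exact ⟨X, h.star_of_gam hX hl₀ hallX⟩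
  refine ⟨Y, h.star_of_gam hY hl₀ fun m hm => ?_⟩
  push Not at hallX
  obtain ⟨m₂, hm₂, hm₂X⟩ := hallX
  have hne₂ : m₂ ≠ l₀ ∧ m₂ ≠ h.bar l₀ :=
    ⟨fun e => hm₂X (e ▸ hX₀), fun e => hm₂X (by rw [e, h.psi_bar l₀ hl₀, hX₀])⟩
  have hs₂ := (h.sides hX hY he hl₀ hm₂ hne₂.1 hne₂.2).resolve_left (fun hh => hm₂X hh.1)
  by_contra hmY
  have hne : m ≠ l₀ ∧ m ≠ h.bar l₀ :=
    ⟨fun e => hmY (e ▸ hY₀), fun e => hmY (by rw [e, h.psi_bar l₀ hl₀, hY₀])⟩
  have hs₁ := (h.sides hX hY he hl₀ hm hne.1 hne.2).resolve_right (fun hh => hmY hh.2)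
  obtain ⟨d, -, hdb, hd⟩ := h.exists_delta
  by_cases hmr : h.bar m = m
  · have hm₂r : h.bar m₂ ≠ m₂ := fun e => hm₂X (by
      rw [(hd m₂ e).resolve_left hm₂, ← (hd m hmr).resolve_left hm, hs₁.1])
    have he' : gam K l₀ = Y + X := by rw [he, add_comm]
    exact h.no_mixed hY hX (by rw [gen_symm hX.isGen hY.isGen, hXY]) he' hl₀ hl₀r hm₂ hm₂r
      hne₂.1 hne₂.2 hm hne.1 hne.2 ⟨hs₂.2, hs₂.1⟩ ⟨hs₁.2, hs₁.1⟩
  · exact h.no_mixed hX hY hXY he hl₀ hl₀r hm hmr hne.1 hne.2 hm₂ hne₂.1 hne₂.2 hs₁ hs₂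

theorem Setup.exists_nonreal (hk : 2 < Nat.card K) :
    ∃ l : Cfsg.IrrCharacter K, l ≠ trivIrr K ∧ h.bar l ≠ l := by
  classical
  haveI := Fintype.ofFinite (Cfsg.IrrCharacter K)
  obtain ⟨d, -, -, hd⟩ := h.exists_delta
  by_contra hcon
  push Not at hcon
  have hle : (Finset.univ : Finset (Cfsg.IrrCharacter K)) ⊆ {trivIrr K, d} := fun l _ => by
    simp only [Finset.mem_insert, Finset.mem_singleton]
    by_cases e : l = trivIrr K
    · exact Or.inl e
    · exact hd l (hcon l e)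
  have := (Finset.card_le_card hle).trans Finset.card_le_two
  rw [Finset.card_univ, ← Nat.card_eq_fintype_card, h.card_irr] at this
  omega

end Cfsg.Agent.BSWAbstract
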