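import Mathlib
import Cfsg.Agent.Lib.Involutions.BSW.Star

/-!
# The Brauer–Suzuki–Wall situation: the degrees and the order of the group
-/

set_option autoImplicit false
set_option linter.unusedSectionVars false
set_option linter.unusedVariables false
set_option linter.style.haveILetI false

open scoped ComplexConjugate

namespace Cfsg.Agent.BSWAbstract

open Cfsg.Agent.Characters

universe u

variable {G : Type u} [Group G] [Fintype G] {t s : G} {K : Subgroup G}

/-- `psi - 1 - A`. -/
noncomputable def rest (K : Subgroup G) (A : G → ℂ) (l : Cfsg.IrrCharacter K) : G → ℂ :=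
  gam K l - A

/-- The common constituent, with its degree and that of the halves of the real `rest`. -/
structure Deg (K : Subgroup G) (A : G → ℂ) (a c : ℤ) : Prop where
  star : Star K A
  deg : A 1 = (a : ℂ)
  lin : a + 1 = -2 * c
  halves : ∀ d : Cfsg.IrrCharacter K, d ≠ trivIrr K → (∀ x : K, conj ((d : K → ℂ) x) = (d : K → ℂ) x) →
    ∃ C C' : G → ℂ, Signed C ∧ Signed C' ∧ Cfsg.classInner C C' = 0 ∧ rest K A d = C + C' ∧
      C 1 = (c : ℂ) ∧ C' 1 = (c : ℂ)

variable (h : Setup t s K)
include h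

theorem Setup.rest_inner {A : G → ℂ} (hA : Star K A) (l m : Cfsg.IrrCharacter K)
    (hl : l ≠ trivIrr K) (hm : m ≠ trivIrr K) [DecidableEq (Cfsg.IrrCharacter K)] :
    Cfsg.classInner (psi K m) (rest K A l) =
      (if m = l then 1 else 0) + (if m = h.bar l then 1 else 0) := by
  rw [rest, gam, classInner_sub_right, classInner_sub_right, h.psi_psi m l hm hl,
    h.psi_triv_inner m hm, hA.psi_inner m hm]
  ring

theorem Setup.rest_rest {A : G → ℂ} (hA : Star K A) (l m : Cfsg.IrrCharacter K)
    (hl : l ≠ trivIrr K) (hm : m ≠ trivIrr K) [DecidableEq (Cfsg.IrrCharacter K)] :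
    Cfsg.classInner (rest K A m) (rest K A l) =
      (if m = l then 1 else 0) + (if m = h.bar l then 1 else 0) ∧
    Cfsg.classInner (rest K A l) A = 0 ∧
    Cfsg.classInner (rest K A l) (fun _ : G => (1 : ℂ)) = 0 := by
  have h1 : ∀ k, k ≠ trivIrr K → Cfsg.classInner (rest K A k) (fun _ : G => (1 : ℂ)) = 0 := by
    intro k hk
    rw [rest, classInner_sub_left, h.gam_triv k hk, hA.triv, sub_zero]
  have h2 : ∀ k, k ≠ trivIrr K → Cfsg.classInner (rest K A k) A = 0 := by
    intro k hk
    rw [rest, gam, classInner_sub_left, classInner_sub_left, hA.psi_inner k hk,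
      gen_symm hA.signed.isGen one_isGen, hA.triv, hA.signed.self]
    ring
  have hgen : Cfsg.IsGeneralizedCharacter G (rest K A l) := isGen_sub (gam_isGen l) hA.signed.isGen
  refine ⟨?_, h2 l hl, h1 l hl⟩
  rw [← h.rest_inner hA l m hl hm]
  conv_lhs => rw [rest, gam]
  rw [classInner_sub_left, classInner_sub_left, gen_symm hgen one_isGen,
    gen_symm hgen hA.signed.isGen, h1 l hl, h2 l hl, sub_zero, sub_zero]

theorem Setup.A_on_K {A : G → ℂ} (hA : Star K A) {x : K} (hx : x ≠ 1) : A x = 1 := by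
  classical
  haveI := Fintype.ofFinite (Cfsg.IrrCharacter K)
  rw [h.value_on_K (isGen_isClassFunction hA.signed.isGen) hx,
    Finset.sum_congr rfl (g := fun l : Cfsg.IrrCharacter K => (l : K → ℂ) x) (fun l hl => by
      rw [h.psi_real_inner l hA.signed.isGen, hA.psi_inner l (Finset.ne_of_mem_erase hl), one_mul]),
    Finset.sum_erase_eq_sub (Finset.mem_univ _), h.sum_lin hx]
  simp [trivIrr]

theorem Setup.rest_on_K {A : G → ℂ} (hA : Star K A) {l : Cfsg.IrrCharacter K}
    (hl : l ≠ trivIrr K) {x : K} (hx : x ≠ 1) :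
    rest K A l x = -((l : K → ℂ) x + conj ((l : K → ℂ) x)) := by
  classical
  haveI := Fintype.ofFinite (Cfsg.IrrCharacter K)
  have hgen : Cfsg.IsGeneralizedCharacter G (rest K A l) := isGen_sub (gam_isGen l) hA.signed.isGen
  have hb : h.bar l ≠ trivIrr K := fun e => hl (by rw [← h.bar_bar l, e, h.bar_triv])
  rw [h.value_on_K (isGen_isClassFunction hgen) hx,
    Finset.sum_congr rfl (g := fun m : Cfsg.IrrCharacter K => ((if m = l then 1 else 0) +
      (if m = h.bar l then 1 else 0)) * (m : K → ℂ) x) (fun m hm => by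
      rw [h.psi_real_inner m hgen, h.rest_inner hA l m hl (Finset.ne_of_mem_erase hm)])]
  simp only [add_mul, Finset.sum_add_distrib, ite_mul, one_mul, zero_mul, Finset.sum_ite_eq',
    Finset.mem_erase, Finset.mem_univ, and_true, hl, hb, ne_eq, not_false_eq_true, if_true]
  rfl

theorem Setup.signed_rest {A : G → ℂ} (hA : Star K A) {l : Cfsg.IrrCharacter K}
    (hl : l ≠ trivIrr K) (hlr : h.bar l ≠ l) : Signed (rest K A l) := by
  classical
  refine signed_of_norm_one (isGen_sub (gam_isGen l) hA.signed.isGen) ?_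
  rw [(h.rest_rest hA l l hl hl).1, if_pos rfl, if_neg hlr.symm, add_zero]

/-- The value at `t` of a half of the real `rest`. -/
theorem Setup.half_value {A : G → ℂ} (hA : Star K A) {d : Cfsg.IrrCharacter K} (hd : d ≠ trivIrr K)
    (hdr : h.bar d = d) {C C' : G → ℂ} (hC : Signed C) (hC' : Signed C')
    (hCC : Cfsg.classInner C C' = 0) (he : rest K A d = C + C') {x : K} (hx : x ≠ 1) :
    C x = -(d : K → ℂ) x := by
  classical
  haveI := Fintype.ofFinite (Cfsg.IrrCharacter K)
  obtain ⟨d', -, -, hd'⟩ := h.exists_delta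
  have hrC : Cfsg.classInner (rest K A d) C = 1 := by
    rw [he, classInner_add_left, hC.self, gen_symm hC.isGen hC'.isGen, hCC, add_zero]
  have hrC' : Cfsg.classInner (rest K A d) C' = 1 := by
    rw [he, classInner_add_left, hC'.self, hCC, zero_add]
  have horth : ∀ f : G → ℂ, Signed f → Cfsg.classInner (rest K A d) f = 0 →
      Cfsg.classInner f C = 0 := by
    intro f hf h0
    rcases hf.pair hC with hh | hh | hh
    · exact hh
    · rw [← hh, hrC] at h0; exact (one_ne_zero h0).elim
    · exfalso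
      have e : f = (-1 : ℂ) • C := by rw [hh]; simp
      rw [e, classInner_smul_right, hrC] at h0
      simp at h0
  have hval : ∀ m, m ≠ trivIrr K →
      Cfsg.classInner C (psi K m) = if m = d then 1 else 0 := by
    intro m hm
    have e : psi K m = (fun _ : G => (1 : ℂ)) + A + rest K A m := by rw [rest, gam]; abel
    rw [e, classInner_add_right, classInner_add_right,
      gen_symm one_isGen hC.isGen, horth _ (Or.inl isIrrCharacter_one) (h.rest_rest hA d d hd hd).2.2,
      gen_symm hA.signed.isGen hC.isGen, horth A hA.signed (h.rest_rest hA d d hd hd).2.1]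
    by_cases hmd : m = d
    · subst hmd
      rw [if_pos rfl, zero_add, zero_add, gen_symm (show Cfsg.IsGeneralizedCharacter G (rest K A m)
        from isGen_sub (gam_isGen m) hA.signed.isGen) hC.isGen]
      exact hrC
    · have hmr : h.bar m ≠ m := fun e => hmd (by
        rw [(hd' m e).resolve_left hm, ← (hd' d hdr).resolve_left hd])
      rw [if_neg hmd, gen_symm (h.signed_rest hA hm hmr).isGen hC.isGen,
        horth _ (h.signed_rest hA hm hmr) (by
          rw [(h.rest_rest hA m d hm hd).1, if_neg (Ne.symm hmd),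
            if_neg (fun e => hmd (by rw [← h.bar_bar m, ← e, hdr])), add_zero])]
      simp
  rw [h.value_on_K (isGen_isClassFunction hC.isGen) hx,
    Finset.sum_congr rfl (g := fun m : Cfsg.IrrCharacter K => if m = d then (d : K → ℂ) x else 0)
      (fun m hm => by
        rw [hval m (Finset.ne_of_mem_erase hm)]
        split_ifs with e
        · rw [e, one_mul]
        · rw [zero_mul]),
    Finset.sum_ite_eq', if_pos (Finset.mem_erase.2 ⟨hd, Finset.mem_univ d⟩)]

theorem Setup.card_ne_zero' : (Nat.card G : ℂ) ≠ 0 := natCard_ne_zero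

theorem Setup.t_K_ne : (⟨t, h.htK⟩ : K) ≠ 1 := fun e => h.t_ne (congrArg Subtype.val e)

omit h in
/-- The regular character bounds a combination of orthogonal generalized characters. -/
theorem regular_bound {φ : G → ℂ} (N : ℤ) (hφn : Cfsg.classInner φ φ = (N : ℂ))
    (hφ1 : φ 1 = (N : ℂ)) : N ≤ Nat.card G := by
  classical
  set ρ : G → ℂ := fun g => if g = 1 then (Nat.card G : ℂ) else 0 with hρ
  have hG : (Nat.card G : ℂ) ≠ 0 := natCard_ne_zero
  have h1 : Cfsg.classInner ρ φ = (N : ℂ) := by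
    rw [classInner_def, Finset.sum_eq_single (1 : G) (fun b _ hb => by rw [hρ]; simp [hb])
      (fun hh => (hh (Finset.mem_univ _)).elim), hρ]
    simp only [if_true, hφ1, map_intCast]
    rw [← mul_assoc, inv_mul_cancel₀ hG, one_mul]
  have h2 : Cfsg.classInner ρ ρ = (Nat.card G : ℂ) := by
    rw [classInner_def, Finset.sum_eq_single (1 : G) (fun b _ hb => by rw [hρ]; simp [hb])
      (fun hh => (hh (Finset.mem_univ _)).elim), hρ]
    simp only [if_true, map_natCast]
    rw [← mul_assoc, inv_mul_cancel₀ hG, one_mul]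
  have h3 : Cfsg.classInner φ ρ = (N : ℂ) := by rw [classInner_conj_symm, h1, map_intCast]
  have h4 : Cfsg.classInner (ρ - φ) (ρ - φ) = (((Nat.card G : ℤ) - N : ℤ) : ℂ) := by
    rw [classInner_sub_left, classInner_sub_right, classInner_sub_right, h1, h2, h3, hφn]
    push_cast; ring
  have e : Cfsg.classInner (ρ - φ) (ρ - φ) =
      (((Nat.card G : ℝ)⁻¹ * ∑ g : G, Complex.normSq ((ρ - φ) g) : ℝ) : ℂ) := by
    rw [classInner_def]; push_cast
    simp only [Complex.mul_conj]
  have hpos : (0 : ℝ) ≤ (Nat.card G : ℝ)⁻¹ * ∑ g : G, Complex.normSq ((ρ - φ) g) :=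
    mul_nonneg (inv_nonneg.2 (Nat.cast_nonneg _)) (Finset.sum_nonneg fun g _ => Complex.normSq_nonneg _)
  rw [e] at h4
  have h5 : (Nat.card G : ℝ)⁻¹ * ∑ g : G, Complex.normSq ((ρ - φ) g) =
      (((Nat.card G : ℤ) - N : ℤ) : ℝ) := by exact_mod_cast h4
  rw [h5] at hpos
  have : (0 : ℤ) ≤ (Nat.card G : ℤ) - N := by exact_mod_cast hpos
  omega

/-- `|K| = 2`: two of the three constituents have equal degree. -/
theorem Setup.small_degrees (hk : Nat.card K = 2) {d : Cfsg.IrrCharacter K} (hd : d ≠ trivIrr K)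
    (hdr : h.bar d = d) {X Y Z : G → ℂ} (hX : Signed X) (hY : Signed Y) (hZ : Signed Z)
    (hXY : Cfsg.classInner X Y = 0) (hXZ : Cfsg.classInner X Z = 0)
    (hYZ : Cfsg.classInner Y Z = 0) (he : gam K d = X + Y + Z) :
    X 1 = Y 1 ∨ X 1 = Z 1 ∨ Y 1 = Z 1 := by
  classical
  haveI := Fintype.ofFinite (Cfsg.IrrCharacter K)
  haveI := Fintype.ofFinite K
  obtain ⟨d', -, -, hd'⟩ := h.exists_delta
  have honly : ∀ l, l ≠ trivIrr K → l = d := by
    intro l hl
    by_contra hne
    have hc : ({trivIrr K, d, l} : Finset (Cfsg.IrrCharacter K)).card = 3 := by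
      rw [Finset.card_insert_of_notMem (by simp [hd.symm, Ne.symm hl]), Finset.card_pair (Ne.symm hne)]
    have := Finset.card_le_univ ({trivIrr K, d, l} : Finset (Cfsg.IrrCharacter K))
    rw [hc, ← Nat.card_eq_fintype_card, h.card_irr, hk] at this
    omega
  have herase : (Finset.univ.erase (trivIrr K) : Finset (Cfsg.IrrCharacter K)) = {d} := by
    ext l
    simp only [Finset.mem_erase, Finset.mem_univ, and_true, Finset.mem_singleton]
    exact ⟨honly l, fun e => e ▸ hd⟩
  have hdt : (d : K → ℂ) ⟨t, h.htK⟩ = -1 := by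
    have := h.sum_lin h.t_K_ne
    rw [← Finset.add_sum_erase _ _ (Finset.mem_univ (trivIrr K)), herase, Finset.sum_singleton] at this
    simp only [trivIrr] at this
    linear_combination this
  have hgX : ∀ f, Signed f → Cfsg.classInner (gam K d) f = 1 → f t = 1 := by
    intro f hf h1
    have hS : Star K f := h.star_of_gam hf hd (fun l hl => by rw [honly l hl]; exact h1)
    exact h.A_on_K hS h.t_K_ne
  have hX1 : Cfsg.classInner (gam K d) X = 1 := by
    rw [he, classInner_add_left, classInner_add_left, hX.self, gen_symm hX.isGen hY.isGen,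
      gen_symm hX.isGen hZ.isGen, hXY, hXZ]; ring
  have hY1 : Cfsg.classInner (gam K d) Y = 1 := by
    rw [he, classInner_add_left, classInner_add_left, hY.self, gen_symm hY.isGen hZ.isGen,
      hXY, hYZ]; ring
  have hZ1 : Cfsg.classInner (gam K d) Z = 1 := by
    rw [he, classInner_add_left, classInner_add_left, hZ.self, hXZ, hYZ]; ring
  -- degrees are `1` mod `4`
  have hmod : ∀ f, Signed f → f t = 1 → ∀ z : ℤ, f 1 = (z : ℂ) → ∃ i : ℤ, z = 4 * i + 1 := by
    intro f hf hft z hz
    haveI := Fintype.ofFinite (Subgroup.centralizer ({t} : Set G))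
    obtain ⟨w, hw⟩ := classInner_gen_int (isGen_restrict (Subgroup.centralizer ({t} : Set G)) hf.isGen)
      (isGen_of_isCharacter (isCharacter_one (G := Subgroup.centralizer ({t} : Set G))))
    have hinv : ∀ x : Subgroup.centralizer ({t} : Set G), x ≠ 1 → f x = 1 := by
      intro x hx
      have ho : orderOf (x : G) = 2 := by
        rcases h.mem_H x.2 with hh | hh
        · refine orderOf_eq_prime ?_ (fun e => hx (Subtype.ext e))
          have : (⟨x, hh⟩ : K) ^ Nat.card K = 1 := pow_card_eq_one'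
          rw [hk] at this
          exact congrArg Subtype.val this
        · exact h.coset_invol hh
      obtain ⟨c, hc⟩ := isConj_iff.1 (h.conj t _ h.ht ho)
      rw [← hc, isGen_isClassFunction hf.isGen t c, hft]
    rw [classInner_def, ← Finset.add_sum_erase _ _ (Finset.mem_univ (1 : Subgroup.centralizer ({t} : Set G))),
      Finset.sum_congr rfl (g := fun _ => (1 : ℂ)) (fun x hx => by
        rw [hinv x (Finset.ne_of_mem_erase hx)]; simp),
      h.card_H, hk, Finset.sum_const, Finset.card_erase_of_mem (Finset.mem_univ _), Finset.card_univ,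
      ← Nat.card_eq_fintype_card, h.card_H, hk] at hw
    simp only [OneMemClass.coe_one, map_one, hz] at hw
    norm_num at hw
    refine ⟨w - 1, ?_⟩
    have : ((z + 3 : ℤ) : ℂ) = ((4 * w : ℤ) : ℂ) := by push_cast; linear_combination 4 * hw
    have : z + 3 = 4 * w := by exact_mod_cast this
    omega
  obtain ⟨x, hx, hx0, -⟩ := hX.degree
  obtain ⟨y, hy, hy0, -⟩ := hY.degree
  obtain ⟨z, hz, hz0, -⟩ := hZ.degree
  obtain ⟨i, rfl⟩ := hmod X hX (hgX X hX hX1) x hx
  obtain ⟨j, rfl⟩ := hmod Y hY (hgX Y hY hY1) y hy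
  obtain ⟨l, rfl⟩ := hmod Z hZ (hgX Z hZ hZ1) z hz
  have hsum : (4 * i + 1) + (4 * j + 1) + (4 * l + 1) = -1 := by
    have := congrFun he 1
    rw [h.gam_one, Pi.add_apply, Pi.add_apply, hx, hy, hz] at this
    exact_mod_cast this.symm
  obtain ⟨g, hgdef⟩ : ∃ g : ℕ, g = Nat.card G := ⟨_, rfl⟩
  have hkey : (g : ℤ) * ((4 * i + 2) * (4 * j + 2) * (4 * l + 2)) =
      32 * ((4 * i + 1) * (4 * j + 1) * (4 * l + 1)) := by
    have e := h.key d hd
    have p : psi K d = (fun _ => 1) + (X + Y + Z) := by rw [← he, gam]; abel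
    rw [p, Lfun_add, Lfun_add, Lfun_add, Lfun_one, Lfun_signed t t hX, Lfun_signed t t hY,
      Lfun_signed t t hZ, hgX X hX hX1, hgX Y hY hY1, hgX Z hZ hZ1, hx, hy, hz, hk, ← hgdef] at e
    have hx' : ((4 * i + 1 : ℤ) : ℂ) ≠ 0 := by exact_mod_cast hx0
    have hy' : ((4 * j + 1 : ℤ) : ℂ) ≠ 0 := by exact_mod_cast hy0
    have hz' : ((4 * l + 1 : ℤ) : ℂ) ≠ 0 := by exact_mod_cast hz0
    field_simp at e
    have hs : (((4 * i + 1) + (4 * j + 1) + (4 * l + 1) : ℤ) : ℂ) = -1 := by rw [hsum]; simp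
    have : (((g : ℤ) * ((4 * i + 2) * (4 * j + 2) * (4 * l + 2)) : ℤ) : ℂ) =
        ((32 * ((4 * i + 1) * (4 * j + 1) * (4 * l + 1)) : ℤ) : ℂ) := by
      push_cast at e hs ⊢
      linear_combination e + (g : ℂ) * hs
    exact_mod_cast this
  have hbound : 1 + (4 * i + 1) ^ 2 + (4 * j + 1) ^ 2 + (4 * l + 1) ^ 2 ≤ (g : ℤ) := by
    rw [hgdef]
    have o : ∀ f, Signed f → Cfsg.classInner (gam K d) f = 1 →
        Cfsg.classInner f (fun _ : G => (1 : ℂ)) = 0 := fun f hf h1 =>
      (h.star_of_gam hf hd (fun m hm => by rw [honly m hm]; exact h1)).triv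
    refine regular_bound (φ := (fun _ => (1 : ℂ)) + ((4 * i + 1 : ℤ) : ℂ) • X +
      ((4 * j + 1 : ℤ) : ℂ) • Y + ((4 * l + 1 : ℤ) : ℂ) • Z) _ ?_ ?_
    · simp only [classInner_add_left, classInner_add_right, classInner_smul_left,
        classInner_smul_right, map_intCast, gen_symm hX.isGen one_isGen, gen_symm hY.isGen one_isGen,
        gen_symm hZ.isGen one_isGen, o X hX hX1, o Y hY hY1, o Z hZ hZ1, hX.self, hY.self, hZ.self,
        gen_symm hX.isGen hY.isGen, gen_symm hX.isGen hZ.isGen, gen_symm hY.isGen hZ.isGen,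
        hXY, hXZ, hYZ, classInner_isIrr_self isIrrCharacter_one]
      push_cast; ring
    · simp only [Pi.add_apply, Pi.smul_apply, smul_eq_mul, hx, hy, hz]
      push_cast; ring
  have hf : ∀ m : ℤ, 2 * |4 * m + 1| ≤ 3 * |4 * m + 2| := by
    intro m
    rcases le_or_gt 0 m with hm | hm
    · rw [abs_of_pos (by omega), abs_of_pos (by omega)]; omega
    · rw [abs_of_neg (by omega), abs_of_neg (by omega)]; omega
  have hg108 : (g : ℤ) ≤ 108 := by
    have e := congrArg abs hkey
    rw [abs_mul, abs_mul, abs_mul, abs_mul, abs_mul, abs_mul, abs_of_nonneg (Int.natCast_nonneg g),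
      abs_of_nonneg (show (0 : ℤ) ≤ 32 by norm_num)] at e
    have hp : 0 < |4 * i + 2| * |4 * j + 2| * |4 * l + 2| :=
      mul_pos (mul_pos (abs_pos.2 (by omega)) (abs_pos.2 (by omega))) (abs_pos.2 (by omega))
    have h8 : 8 * (|4 * i + 1| * |4 * j + 1| * |4 * l + 1|) ≤
        27 * (|4 * i + 2| * |4 * j + 2| * |4 * l + 2|) :=
      calc 8 * (|4 * i + 1| * |4 * j + 1| * |4 * l + 1|)
          = (2 * |4 * i + 1|) * (2 * |4 * j + 1|) * (2 * |4 * l + 1|) := by ring
        _ ≤ (3 * |4 * i + 2|) * (3 * |4 * j + 2|) * (3 * |4 * l + 2|) :=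
          mul_le_mul (mul_le_mul (hf i) (hf j) (by positivity) (by positivity)) (hf _)
            (by positivity) (by positivity)
        _ = _ := by ring
    nlinarith
  have hi : -2 ≤ i ∧ i ≤ 2 := ⟨by nlinarith, by nlinarith⟩
  have hj : -2 ≤ j ∧ j ≤ 2 := ⟨by nlinarith, by nlinarith⟩
  have hl : -2 ≤ l ∧ l ≤ 2 := ⟨by nlinarith, by nlinarith⟩
  obtain ⟨hi1, hi2⟩ := hi
  obtain ⟨hj1, hj2⟩ := hj
  obtain rfl : l = -1 - i - j := by omega
  rw [hx, hy, hz]
  interval_cases i <;> interval_cases j <;>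
    first
      | omega
      | norm_num

theorem Setup.exists_deg : ∃ (A : G → ℂ) (a c : ℤ), Deg K A a c := by
  classical
  obtain ⟨d, hd, hdr, hdu⟩ := h.exists_delta
  have hreal : ∀ d' : Cfsg.IrrCharacter K, d' ≠ trivIrr K →
      (∀ x : K, conj ((d' : K → ℂ) x) = (d' : K → ℂ) x) → d' = d := fun d' hd' hx =>
    (hdu d' (Subtype.ext (funext hx))).resolve_left hd'
  rcases lt_or_ge 2 (Nat.card K) with hk | hk
  · obtain ⟨l₀, hl₀, hl₀r⟩ := h.exists_nonreal hk
    obtain ⟨A, hA⟩ := h.exists_star_two hl₀ hl₀r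
    have hE : Cfsg.classInner (rest K A d) (rest K A d) = 2 := by
      rw [(h.rest_rest hA d d hd hd).1, if_pos rfl, if_pos hdr.symm]; norm_num
    obtain ⟨C, C', hC, hC', hCC, he⟩ := norm_two (isGen_sub (gam_isGen d) hA.signed.isGen) hE
    obtain ⟨a, ha, ha0, -⟩ := hA.signed.degree
    obtain ⟨c, hc, hc0, -⟩ := hC.degree
    obtain ⟨c', hc', hc0', -⟩ := hC'.degree
    have hb : rest K A l₀ 1 = ((-1 - a : ℤ) : ℂ) := by
      rw [rest, Pi.sub_apply, h.gam_one, ha]; push_cast; ring
    have hcc : c + c' = -1 - a := by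
      have := congrFun he 1
      change rest K A d 1 = _ at this
      rw [rest, Pi.sub_apply, h.gam_one, ha, Pi.add_apply, hc, hc'] at this
      have : ((-1 - a : ℤ) : ℂ) = ((c + c' : ℤ) : ℂ) := by push_cast; linear_combination this
      exact_mod_cast this.symm
    have hlr := h.signed_rest hA hl₀ hl₀r
    have hb0 : (-1 - a : ℤ) ≠ 0 := by
      obtain ⟨b', hb', hb0', -⟩ := hlr.degree
      rw [hb] at hb'
      have : (-1 - a : ℤ) = b' := by exact_mod_cast hb'
      omega
    have hkey : ((4 * c * c' : ℤ) : ℂ) = (((c + c') ^ 2 : ℤ) : ℂ) := by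
      have e1 := h.key l₀ hl₀
      have e2 := h.key d hd
      have p1 : psi K l₀ = (fun _ => 1) + (A + rest K A l₀) := by rw [rest, gam]; abel
      have p2 : psi K d = (fun _ => 1) + (A + (C + C')) := by
        rw [← he, show gam K d - A = rest K A d from rfl, rest, gam]; abel
      rw [p1, Lfun_add, Lfun_add, Lfun_signed t t hlr] at e1
      rw [p2, Lfun_add, Lfun_add, Lfun_add, Lfun_signed t t hC, Lfun_signed t t hC'] at e2
      have v1 : rest K A l₀ t * rest K A l₀ t = 4 := by
        rw [show rest K A l₀ t = rest K A l₀ ((⟨t, h.htK⟩ : K) : G) from rfl,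
          h.rest_on_K hA hl₀ h.t_K_ne, (h.val_t_sq l₀).2]
        rcases (h.val_t_sq l₀).1 with e | e <;> rw [e] <;> norm_num
      have v2 : C t * C t = 1 ∧ C' t * C' t = 1 := by
        have he' : rest K A d = C + C' := he
        have e := h.half_value hA hd hdr hC hC' hCC he' h.t_K_ne
        have e' := h.half_value hA hd hdr hC' hC (by rw [gen_symm hC.isGen hC'.isGen, hCC])
          (by rw [he', add_comm]) h.t_K_ne
        refine ⟨?_, ?_⟩
        · rw [show C t = C ((⟨t, h.htK⟩ : K) : G) from rfl, e]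
          rcases (h.val_t_sq d).1 with e'' | e'' <;> rw [e''] <;> norm_num
        · rw [show C' t = C' ((⟨t, h.htK⟩ : K) : G) from rfl, e']
          rcases (h.val_t_sq d).1 with e'' | e'' <;> rw [e''] <;> norm_num
      rw [v1, hb] at e1
      rw [v2.1, v2.2, hc, hc'] at e2
      have heq : (4 : ℂ) / ((-1 - a : ℤ) : ℂ) = 1 / (c : ℂ) + 1 / (c' : ℂ) := by
        refine mul_right_cancel₀ h.card_ne_zero' ?_
        linear_combination e1 - e2
      rw [← hcc] at heq
      have h1 : (c : ℂ) ≠ 0 := by exact_mod_cast hc0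
      have h2 : (c' : ℂ) ≠ 0 := by exact_mod_cast hc0'
      have h3 : (c : ℂ) + (c' : ℂ) ≠ 0 := by
        have : ((c + c' : ℤ) : ℂ) ≠ 0 := by rw [hcc]; exact_mod_cast hb0
        simpa using this
      push_cast at heq ⊢
      field_simp at heq
      linear_combination heq
    have hkey' : 4 * c * c' = (c + c') ^ 2 := by exact_mod_cast hkey
    have hcceq : c' = c := by nlinarith [sq_nonneg (c - c')]
    subst hcceq
    refine ⟨A, a, c', hA, ha, by omega, fun d' hd' hx => ?_⟩
    rw [hreal d' hd' hx]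
    exact ⟨C, C', hC, hC', hCC, he, hc, hc'⟩
  · have hk2 : Nat.card K = 2 := by
      have := Nat.le_of_dvd Nat.card_pos (even_iff_two_dvd.1 h.k_even)
      omega
    obtain ⟨X, Y, Z, hX, hY, hZ, hXY, hXZ, hYZ, he⟩ := norm_three (gam_isGen d) (by
      rw [h.gam_gam d d hd hd, if_pos rfl, if_pos hdr.symm]; norm_num)
    have honly : ∀ l, l ≠ trivIrr K → l = d := by
      intro l hl
      by_contra hne
      haveI := Fintype.ofFinite (Cfsg.IrrCharacter K)
      have hc : ({trivIrr K, d, l} : Finset (Cfsg.IrrCharacter K)).card = 3 := by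
        rw [Finset.card_insert_of_notMem (by simp [hd.symm, Ne.symm hl]), Finset.card_pair (Ne.symm hne)]
      have := Finset.card_le_univ ({trivIrr K, d, l} : Finset (Cfsg.IrrCharacter K))
      rw [hc, ← Nat.card_eq_fintype_card, h.card_irr, hk2] at this
      omega
    have main : ∀ P Q R : G → ℂ, Signed P → Signed Q → Signed R → Cfsg.classInner P Q = 0 →
        Cfsg.classInner P R = 0 → Cfsg.classInner Q R = 0 → gam K d = P + Q + R → Q 1 = R 1 →
        ∃ (A : G → ℂ) (a c : ℤ), Deg K A a c := by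
      intro P Q R hP hQ hR hPQ hPR hQR hg hdeg
      obtain ⟨a, ha, ha0, -⟩ := hP.degree
      obtain ⟨c, hc, hc0, -⟩ := hQ.degree
      have hP1 : Cfsg.classInner (gam K d) P = 1 := by
        rw [hg, classInner_add_left, classInner_add_left, hP.self, gen_symm hP.isGen hQ.isGen,
          gen_symm hP.isGen hR.isGen, hPQ, hPR]; ring
      refine ⟨P, a, c, h.star_of_gam hP hd (fun l hl => by rw [honly l hl]; exact hP1), ha, ?_,
        fun d' hd' hx => ?_⟩
      · have := congrFun hg 1
        rw [h.gam_one, Pi.add_apply, Pi.add_apply, ha, ← hdeg, hc] at this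
        have : ((a + c + c : ℤ) : ℂ) = ((-1 : ℤ) : ℂ) := by push_cast; linear_combination -this
        have : a + c + c = -1 := by exact_mod_cast this
        omega
      · rw [hreal d' hd' hx]
        exact ⟨Q, R, hQ, hR, hQR, by rw [rest, hg]; abel, hc, hdeg ▸ hc⟩
    rcases h.small_degrees hk2 hd hdr hX hY hZ hXY hXZ hYZ he with e | e | e
    · exact main Z X Y hZ hX hY (by rw [gen_symm hX.isGen hZ.isGen, hXZ])
        (by rw [gen_symm hY.isGen hZ.isGen, hYZ]) hXY (by rw [he]; abel) e
    · exact main Y X Z hY hX hZ (by rw [gen_symm hX.isGen hY.isGen, hXY]) hYZ hXZ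
        (by rw [he]; abel) e
    · exact main X Y Z hX hY hZ hXY hXZ hYZ he e

end Cfsg.Agent.BSWAbstract
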