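import Mathlib
import Cfsg.Agent.Lib.Involutions.BSW.Degree

/-!
# The Brauer–Suzuki–Wall situation: the order of the group and the elements outside `K`
-/

set_option autoImplicit false
set_option linter.unusedSectionVars false
set_option linter.unusedVariables false
set_option linter.style.haveILetI false

open scoped ComplexConjugate

namespace Cfsg.Agent.BSWAbstract

open Cfsg.Agent.Characters

universe u

variable {G : Type u} [Group G] [Fintype G] {t s : G} {K : Subgroup G} {A : G → ℂ} {a c : ℤ}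

variable (h : Setup t s K) (hD : Deg K A a c)
include h hD

theorem Setup.a_ne : a ≠ 0 := by
  obtain ⟨z, hz, hz0, -⟩ := hD.star.signed.degree
  rw [hD.deg] at hz
  have : a = z := by exact_mod_cast hz
  omega

theorem Setup.c_ne : c ≠ 0 := by
  obtain ⟨d, hd, hdr, -⟩ := h.exists_delta
  obtain ⟨C, C', hC, -, -, -, hc, -⟩ :=
    hD.halves d hd (fun x => congrFun (congrArg Subtype.val hdr) x)
  obtain ⟨z, hz, hz0, -⟩ := hC.degree
  rw [hc] at hz
  have : c = z := by exact_mod_cast hz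
  omega

theorem Setup.rest_one (l : Cfsg.IrrCharacter K) : rest K A l 1 = ((2 * c : ℤ) : ℂ) := by
  rw [rest, Pi.sub_apply, h.gam_one, hD.deg, show a = -1 - 2 * c by linarith [hD.lin]]
  push_cast; ring

/-- `L` of a `rest`. -/
theorem Setup.Lfun_rest {l : Cfsg.IrrCharacter K} (hl : l ≠ trivIrr K) (x : G) :
    Lfun t x (rest K A l) = -(l : K → ℂ) ⟨t, h.htK⟩ * rest K A l x / (c : ℂ) := by
  have hc : (c : ℂ) ≠ 0 := Int.cast_ne_zero.2 (h.c_ne hD)
  by_cases hlr : h.bar l = l
  · obtain ⟨C, C', hC, hC', hCC, he, hc1, hc2⟩ :=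
      hD.halves l hl (fun x => congrFun (congrArg Subtype.val hlr) x)
    have e1 := h.half_value hD.star hl hlr hC hC' hCC he h.t_K_ne
    have e2 := h.half_value hD.star hl hlr hC' hC (by rw [gen_symm hC.isGen hC'.isGen, hCC])
      (by rw [he, add_comm]) h.t_K_ne
    rw [he, Lfun_add, Lfun_signed t x hC, Lfun_signed t x hC', hc1, hc2, Pi.add_apply,
      show C t = _ from e1, show C' t = _ from e2]
    ring
  · have e := h.rest_on_K hD.star hl h.t_K_ne
    rw [(h.val_t_sq l).2] at e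
    rw [Lfun_signed t x (h.signed_rest hD.star hl hlr), h.rest_one hD,
      show rest K A l t = _ from e]
    push_cast
    field_simp
    ring

theorem Setup.A_t : A t = 1 := h.A_on_K hD.star (x := ⟨t, h.htK⟩) h.t_K_ne

theorem Setup.psi_split (l : Cfsg.IrrCharacter K) :
    psi K l = (fun _ : G => (1 : ℂ)) + A + rest K A l := by
  rw [rest, gam]; abel

theorem Setup.eqn : (Nat.card G : ℤ) * (a - 1) ^ 2 = 4 * (Nat.card K : ℤ) ^ 3 * (a * (a + 1)) := by
  obtain ⟨d, hd, hdr, -⟩ := h.exists_delta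
  have e := h.key d hd
  have hv : rest K A d t = -(2 * (d : K → ℂ) ⟨t, h.htK⟩) := by
    rw [show rest K A d t = _ from h.rest_on_K hD.star hd (x := ⟨t, h.htK⟩) h.t_K_ne, (h.val_t_sq d).2]; ring
  rw [h.psi_split hD, Lfun_add, Lfun_add, Lfun_one, Lfun_signed t t hD.star.signed, h.A_t hD, hD.deg,
    h.Lfun_rest hD hd, hv] at e
  have ha : (a : ℂ) ≠ 0 := Int.cast_ne_zero.2 (h.a_ne hD)
  have hc : (c : ℂ) ≠ 0 := Int.cast_ne_zero.2 (h.c_ne hD)
  have hsq : (d : K → ℂ) ⟨t, h.htK⟩ * (d : K → ℂ) ⟨t, h.htK⟩ = 1 := by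
    rcases (h.val_t_sq d).1 with e' | e' <;> rw [e'] <;> norm_num
  rw [show -(d : K → ℂ) ⟨t, h.htK⟩ * -(2 * (d : K → ℂ) ⟨t, h.htK⟩) = 2 by linear_combination 2 * hsq] at e
  field_simp at e
  have hlin : (a : ℂ) + 1 = -2 * (c : ℂ) := by exact_mod_cast hD.lin
  have : (((Nat.card G : ℤ) * (a - 1) ^ 2 : ℤ) : ℂ) =
      ((4 * (Nat.card K : ℤ) ^ 3 * (a * (a + 1)) : ℤ) : ℂ) := by
    push_cast
    linear_combination (-2 : ℂ) * e +
      ((Nat.card G : ℂ) * ((a : ℂ) + 1) - 4 * (Nat.card K : ℂ) ^ 3 * (a : ℂ)) * hlin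
  exact_mod_cast this

theorem Setup.a_mod : ∃ m : ℤ, a - 1 = (Nat.card K : ℤ) * m := by
  classical
  haveI := Fintype.ofFinite K
  obtain ⟨w, hw⟩ := classInner_gen_int (isGen_restrict K hD.star.signed.isGen)
    (isGen_of_isCharacter (isCharacter_one (G := K)))
  rw [classInner_def, ← Finset.add_sum_erase _ _ (Finset.mem_univ (1 : K)),
    Finset.sum_congr rfl (g := fun _ => (1 : ℂ)) (fun x hx => by
      rw [h.A_on_K hD.star (Finset.ne_of_mem_erase hx)]; simp),
    Finset.sum_const, Finset.card_erase_of_mem (Finset.mem_univ _), Finset.card_univ,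
    ← Nat.card_eq_fintype_card] at hw
  simp only [OneMemClass.coe_one, map_one, hD.deg, mul_one, nsmul_eq_mul] at hw
  rw [Nat.cast_sub Nat.card_pos, Nat.cast_one] at hw
  have hk : (Nat.card K : ℂ) ≠ 0 := natCard_ne_zero
  refine ⟨w - 1, ?_⟩
  field_simp at hw
  have : ((a - 1 : ℤ) : ℂ) = (((Nat.card K : ℤ) * (w - 1) : ℤ) : ℂ) := by
    push_cast; linear_combination hw
  exact_mod_cast this

theorem Setup.bound :
    1 + a ^ 2 + 2 * ((Nat.card K : ℤ) - 1) * c ^ 2 ≤ Nat.card G := by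
  classical
  haveI := Fintype.ofFinite (Cfsg.IrrCharacter K)
  set E := (Finset.univ : Finset (Cfsg.IrrCharacter K)).erase (trivIrr K) with hE
  have hcard : (E.card : ℂ) = (Nat.card K : ℂ) - 1 := by
    rw [hE, Finset.card_erase_of_mem (Finset.mem_univ _), Finset.card_univ,
      ← Nat.card_eq_fintype_card, h.card_irr, Nat.cast_sub Nat.card_pos, Nat.cast_one]
  set f : G → ℂ := ∑ l ∈ E, rest K A l with hf
  have hne : ∀ l ∈ E, l ≠ trivIrr K := fun l hl => Finset.ne_of_mem_erase hl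
  have hff : Cfsg.classInner f f = 2 * ((Nat.card K : ℂ) - 1) := by
    rw [hf, classInner_sum_left, ← hcard, mul_comm, ← nsmul_eq_mul, ← Finset.sum_const]
    refine Finset.sum_congr rfl fun m hm => ?_
    rw [classInner_sum_right, Finset.sum_congr rfl (fun l hl =>
      (h.rest_rest hD.star l m (hne l hl) (hne m hm)).1), Finset.sum_add_distrib,
      Finset.sum_ite_eq, if_pos hm,
      Finset.sum_congr rfl (g := fun l => if h.bar m = l then (1 : ℂ) else 0) (fun l _ => if_congr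
        ⟨fun e => by rw [e, h.bar_bar], fun e => by rw [← e, h.bar_bar]⟩ rfl rfl),
      Finset.sum_ite_eq, if_pos (Finset.mem_erase.2
        ⟨fun e => hne m hm (by rw [← h.bar_bar m, e, h.bar_triv]), Finset.mem_univ _⟩)]
    norm_num
  have hfA : Cfsg.classInner f A = 0 := by
    rw [hf, classInner_sum_left]
    exact Finset.sum_eq_zero fun l hl => (h.rest_rest hD.star l l (hne l hl) (hne l hl)).2.1
  have hf1 : Cfsg.classInner f (fun _ : G => (1 : ℂ)) = 0 := by
    rw [hf, classInner_sum_left]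
    exact Finset.sum_eq_zero fun l hl => (h.rest_rest hD.star l l (hne l hl) (hne l hl)).2.2
  have hfgen : Cfsg.IsGeneralizedCharacter G f :=
    isGen_sum _ _ fun l _ => isGen_sub (gam_isGen l) hD.star.signed.isGen
  refine regular_bound (φ := (fun _ : G => (1 : ℂ)) + (a : ℂ) • A + (c : ℂ) • f) _ ?_ ?_
  · simp only [classInner_add_left, classInner_add_right, classInner_smul_left,
      classInner_smul_right, map_intCast, gen_symm hD.star.signed.isGen one_isGen,
      gen_symm hfgen one_isGen, gen_symm hfgen hD.star.signed.isGen, hD.star.triv, hfA, hf1, hff,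
      hD.star.signed.self, classInner_isIrr_self isIrrCharacter_one]
    push_cast; ring
  · simp only [Pi.add_apply, Pi.smul_apply, smul_eq_mul, hD.deg, hf, Finset.sum_apply,
      h.rest_one hD, Finset.sum_const, nsmul_eq_mul, hcard]
    push_cast; ring

/-- The two possible cases. -/
theorem Setup.order_cases :
    (a = 2 * (Nat.card K : ℤ) + 1 ∧
      Nat.card G = 2 * Nat.card K * ((2 * Nat.card K + 1) * (Nat.card K + 1))) ∨
    (a = 1 - 2 * (Nat.card K : ℤ) ∧
      Nat.card G = 2 * Nat.card K * ((2 * Nat.card K - 1) * (Nat.card K - 1))) := by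
  obtain ⟨m, hm⟩ := h.a_mod hD
  obtain ⟨j, hj⟩ := h.index_odd
  set o := (Subgroup.centralizer ({t} : Set G)).index with ho
  have hG : Nat.card G = 2 * Nat.card K * o := by
    rw [ho, ← h.card_H, Subgroup.card_mul_index]
  obtain ⟨k, hkdef⟩ : ∃ k : ℕ, k = Nat.card K := ⟨_, rfl⟩
  have hk2 : 2 ≤ k := by
    have := Nat.le_of_dvd Nat.card_pos (even_iff_two_dvd.1 h.k_even); omega
  obtain ⟨i, hi⟩ := h.k_even
  have heq := h.eqn hD
  have hb := h.bound hD
  rw [← hkdef] at hm hG heq hb hi ⊢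
  have hkz : (k : ℤ) ≠ 0 := by omega
  have hom : (o : ℤ) * m ^ 2 = 2 * (a * (a + 1)) := by
    have : (2 * (k : ℤ) ^ 3) * ((o : ℤ) * m ^ 2) = (2 * (k : ℤ) ^ 3) * (2 * (a * (a + 1))) := by
      rw [hG, hm] at heq
      push_cast at heq
      linear_combination heq
    exact mul_left_cancel₀ (mul_ne_zero two_ne_zero (pow_ne_zero 3 hkz)) this
  have ha1 : a ≠ 1 := by
    intro e
    rw [e, show m = 0 by
      rcases mul_eq_zero.1 (show (k : ℤ) * m = 0 by rw [← hm, e]; ring) with e' | e'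
      · exact absurd e' hkz
      · exact e'] at hom
    norm_num at hom
  obtain ⟨μ, rfl⟩ : ∃ μ, m = 2 * μ := by
    rcases Int.even_or_odd m with ⟨μ, hμ⟩ | ⟨μ, hμ⟩
    · exact ⟨μ, by omega⟩
    exfalso
    have : (o : ℤ) * m ^ 2 = 2 * ((2 * μ + 1) ^ 2 * j + 2 * μ ^ 2 + 2 * μ) + 1 := by
      rw [hμ, hj]; push_cast; ring
    omega
  have hoμ : 2 * (o : ℤ) * μ ^ 2 = a * (a + 1) := by
    linarith [show (o : ℤ) * (2 * μ) ^ 2 = 2 * (2 * (o : ℤ) * μ ^ 2) by ring]
  have hμ1 : μ = 1 ∨ μ = -1 := by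
    by_contra hcon
    have hμ0 : μ ≠ 0 := fun e => ha1 (by rw [e, mul_zero, mul_zero] at hm; omega)
    have h4 : 4 ≤ μ ^ 2 := by
      rcases le_or_gt μ 0 with hh | hh
      · nlinarith [show μ ≤ -2 by omega]
      · nlinarith [show 2 ≤ μ by omega]
    rw [hG] at hb
    push_cast at hb
    have hc2 : (a + 1) ^ 2 = 4 * c ^ 2 := by rw [hD.lin]; ring
    have h1 : 4 * (1 + a ^ 2 + 2 * ((k : ℤ) - 1) * c ^ 2) ≤ (k : ℤ) * (a * (a + 1)) := by
      calc 4 * (1 + a ^ 2 + 2 * ((k : ℤ) - 1) * c ^ 2)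
          ≤ μ ^ 2 * (2 * (k : ℤ) * o) :=
            mul_le_mul h4 hb (by nlinarith [sq_nonneg a, sq_nonneg c]) (sq_nonneg μ)
        _ = (k : ℤ) * (a * (a + 1)) := by rw [← hoμ]; ring
    have h2 : 0 ≤ (a + 1) * (a + 2) := by
      rcases le_or_gt (a + 2) 0 with hh | hh
      · exact mul_nonneg_of_nonpos_of_nonpos (by omega) hh
      · exact mul_nonneg (by omega) hh.le
    have h3 : 0 < (a - 1) ^ 2 := by positivity [sub_ne_zero.2 ha1]
    have h5 : 0 ≤ (k : ℤ) * ((a + 1) * (a + 2)) := mul_nonneg (Int.natCast_nonneg k) h2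
    linarith [show 4 * (1 + a ^ 2 + 2 * ((k : ℤ) - 1) * c ^ 2) - (k : ℤ) * (a * (a + 1)) =
      (k : ℤ) * ((a + 1) * (a + 2)) + 2 * (a - 1) ^ 2 by linear_combination (2 - 2 * (k : ℤ)) * hc2]
  rcases hμ1 with rfl | rfl
  · left
    refine ⟨by linarith, ?_⟩
    have e : a = 2 * (k : ℤ) + 1 := by linarith
    subst e
    rw [hG]
    congr 1
    have : (o : ℤ) = (2 * (k : ℤ) + 1) * ((k : ℤ) + 1) := by linarith
    exact_mod_cast this
  · right
    refine ⟨by linarith, ?_⟩
    have e : a = 1 - 2 * (k : ℤ) := by linarith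
    subst e
    rw [hG]
    congr 1
    have : (o : ℤ) = (2 * (k : ℤ) - 1) * ((k : ℤ) - 1) := by linarith
    rw [← Nat.cast_inj (R := ℤ), this, Nat.cast_mul, Nat.cast_sub (by omega), Nat.cast_sub (by omega)]
    push_cast; ring

/-- The pair count outside `K`. -/
theorem Setup.pairs_outside {x : G} (hx : x ∈ outside K) :
    (Nat.card {u : G // orderOf u = 2 ∧ orderOf (u * x⁻¹) = 2} : ℂ) * (4 * (Nat.card K : ℂ) ^ 2) =
      (Nat.card G : ℂ) * (1 + A x / a + ((Nat.card K : ℂ) - 1) * (-1 - A x) / c) := by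
  classical
  haveI := Fintype.ofFinite (Cfsg.IrrCharacter G)
  haveI := Fintype.ofFinite (Cfsg.IrrCharacter K)
  rw [h.pairs_formula, inv_inv]
  congr 1
  set E := (Finset.univ : Finset (Cfsg.IrrCharacter K)).erase (trivIrr K) with hE
  have hne : ∀ l ∈ E, l ≠ trivIrr K := fun l hl => Finset.ne_of_mem_erase hl
  set T : K := ⟨t, h.htK⟩ with hT
  have h1 : ∑ χ : Cfsg.IrrCharacter G,
      (χ : G → ℂ) t * (χ : G → ℂ) t * (χ : G → ℂ) x / (χ : G → ℂ) 1 =
      -∑ l ∈ E, (l : K → ℂ) T * Lfun t x (psi K l) := by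
    simp only [Lfun_eq, Finset.mul_sum]
    rw [Finset.sum_comm, ← Finset.sum_neg_distrib]
    refine Finset.sum_congr rfl fun χ _ => ?_
    have e : (χ : G → ℂ) t = -∑ l ∈ E, Cfsg.classInner (χ : G → ℂ) (psi K l) * (l : K → ℂ) T :=
      h.value_on_K (irr_isClassFunction χ) h.t_K_ne
    rw [mul_assoc, mul_div_assoc]
    conv_lhs => arg 1; rw [e]
    rw [neg_mul, Finset.sum_mul]
    congr 1
    refine Finset.sum_congr rfl fun l _ => ?_
    rw [h.psi_real_inner l (isGen_of_isCharacter (irr_isCharacter χ))]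
    ring
  have hsq : ∀ l : Cfsg.IrrCharacter K, (l : K → ℂ) T * (l : K → ℂ) T = 1 := fun l => by
    rcases (h.val_t_sq l).1 with e | e <;> rw [hT, e] <;> norm_num
  have hL : ∀ l ∈ E, (l : K → ℂ) T * Lfun t x (psi K l) =
      (l : K → ℂ) T * (1 + A x / a) - (-1 - A x) / c := by
    intro l hl
    have hr : rest K A l x = -1 - A x := by
      have := congrFun (h.psi_split hD l) x
      rw [psi_off l hx, Pi.add_apply, Pi.add_apply] at this
      linear_combination -this
    rw [h.psi_split hD, Lfun_add, Lfun_add, Lfun_one, Lfun_signed t x hD.star.signed, h.A_t hD,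
      hD.deg, h.Lfun_rest hD (hne l hl), hr, ← hT, one_mul]
    linear_combination (-(-1 - A x) / (c : ℂ)) * hsq l
  have hcard : (E.card : ℂ) = (Nat.card K : ℂ) - 1 := by
    rw [hE, Finset.card_erase_of_mem (Finset.mem_univ _), Finset.card_univ,
      ← Nat.card_eq_fintype_card, h.card_irr, Nat.cast_sub Nat.card_pos, Nat.cast_one]
  rw [h1, Finset.sum_congr rfl hL, Finset.sum_sub_distrib, ← Finset.sum_mul, Finset.sum_const,
    nsmul_eq_mul, hcard, Finset.sum_erase_eq_sub (Finset.mem_univ _), h.sum_lin h.t_K_ne]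
  simp only [trivIrr]
  ring

end Cfsg.Agent.BSWAbstract
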