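import Mathlib
import Cfsg.Agent.Lib.Involutions.BSW.Order

/-!
# The Brauer–Suzuki–Wall situation: elements outside the conjugates of `K`
-/

set_option autoImplicit false
set_option linter.unusedSectionVars false
set_option linter.unusedVariables false
set_option linter.style.haveILetI false

open scoped ComplexConjugate

namespace Cfsg.Agent.BSWAbstract

open Cfsg.Agent.Characters

universe u

variable {G : Type u} [Group G] [Fintype G] {t s : G} {K : Subgroup G} {A : G → ℂ} {a c : ℤ}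

variable (h : Setup t s K)
include h

omit h in
theorem khat_inv {x : G} (hx : x ∈ khat K) : x⁻¹ ∈ khat K := by
  obtain ⟨hx1, d, hd⟩ := hx
  exact ⟨inv_ne_one.2 hx1, d, by simpa [mul_assoc] using K.inv_mem hd⟩

omit h in
theorem outside_inv {x : G} (hx : x ∈ outside K) : x⁻¹ ∈ outside K :=
  ⟨inv_ne_one.2 hx.1, fun hh => hx.2 (by simpa using khat_inv hh)⟩

theorem Setup.outside_cent {x y : G} (hx : x ∈ outside K)
    (hy : y ∈ Subgroup.centralizer ({x} : Set G)) (hy1 : y ≠ 1) : y ∈ outside K := by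
  refine ⟨hy1, fun hk => ?_⟩
  obtain ⟨-, d, hd⟩ := hk
  have hne : (d⁻¹ * y * d) * (d⁻¹ * y * d) ≠ 1 := by
    intro e
    have h2 : y * y = 1 := by
      calc y * y = d * ((d⁻¹ * y * d) * (d⁻¹ * y * d)) * d⁻¹ := by group
        _ = 1 := by rw [e]; group
    have ho : orderOf y = 2 := orderOf_eq_prime (by rw [sq]; exact h2) hy1
    have hdvd := Subgroup.orderOf_dvd_natCard _ hy
    rw [ho] at hdvd
    exact Nat.not_even_iff_odd.2 (h.odd_cent hx.1 hx.2) (even_iff_two_dvd.2 hdvd)
  refine hx.2 ⟨hx.1, d, ?_⟩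
  rw [← h.cent_eq hd hne, mem_cent]
  calc d⁻¹ * x * d * (d⁻¹ * y * d) = d⁻¹ * (x * y) * d := by group
    _ = d⁻¹ * (y * x) * d := by rw [mem_cent.1 hy]
    _ = d⁻¹ * y * d * (d⁻¹ * x * d) := by group

/-- An element outside with a pair of involutions has an inverting involution and an abelian
centraliser whose order is the number of pairs. -/
theorem Setup.cent_of_pairs {x : G} (hx : x ∈ outside K)
    (hpos : 0 < Nat.card {u : G // orderOf u = 2 ∧ orderOf (u * x) = 2}) :
    IsMulCommutative (Subgroup.centralizer ({x} : Set G)) ∧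
      Nat.card (Subgroup.centralizer ({x} : Set G)) =
        Nat.card {u : G // orderOf u = 2 ∧ orderOf (u * x) = 2} ∧
      ∃ u : G, orderOf u = 2 ∧ ∀ y ∈ Subgroup.centralizer ({x} : Set G), u * y * u⁻¹ = y⁻¹ := by
  have hx2 : x⁻¹ ≠ x := fun e => hx.2 (h.mem_khat_of_invol
    (orderOf_eq_prime (by rw [sq]; exact mul_eq_one_iff_eq_inv.2 e.symm) hx.1))
  have key : ∀ g : G, g * x * g⁻¹ = x⁻¹ → orderOf g = 2 := by
    intro g hg
    have hg2 : g * g ∈ Subgroup.centralizer ({x} : Set G) := by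
      rw [mem_cent]
      have e : g * g * x * (g * g)⁻¹ = x := by
        calc g * g * x * (g * g)⁻¹ = g * (g * x * g⁻¹) * g⁻¹ := by group
          _ = g * x⁻¹ * g⁻¹ := by rw [hg]
          _ = (g * x * g⁻¹)⁻¹ := by group
          _ = x := by rw [hg, inv_inv]
      calc g * g * x = g * g * x * (g * g)⁻¹ * (g * g) := by group
        _ = x * (g * g) := by rw [e]
    have hg1 : g ≠ 1 := fun e => hx2 (by rw [← hg, e]; group)
    by_cases hz : g * g = 1
    · exact orderOf_eq_prime (by rw [sq]; exact hz) hg1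
    exfalso
    have hzo := h.outside_cent hx hg2 hz
    have hgz : g ∈ Subgroup.centralizer ({g * g} : Set G) := mem_cent.2 (by group)
    obtain ⟨m, hm⟩ := h.odd_cent hzo.1 hzo.2
    have hpow : g ^ (2 * m + 1) = 1 := by
      rw [← hm]
      exact congrArg Subtype.val
        (pow_card_eq_one' (x := (⟨g, hgz⟩ : Subgroup.centralizer ({g * g} : Set G))))
    have hgC : g ∈ Subgroup.centralizer ({x} : Set G) := by
      have e : g = ((g * g) ^ m)⁻¹ := by
        refine eq_inv_of_mul_eq_one_left ?_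
        rw [← pow_two, ← pow_mul, ← pow_succ', hpow]
      rw [e]
      exact Subgroup.inv_mem _ (pow_mem hg2 m)
    apply hx2
    rw [← hg, mem_cent.1 hgC, mul_inv_cancel_right]
  obtain ⟨⟨u, hu, hux⟩⟩ : Nonempty {u : G // orderOf u = 2 ∧ orderOf (u * x) = 2} :=
    (Nat.card_pos_iff.1 hpos).1
  have hui : u * x * u⁻¹ = x⁻¹ := ((Involutions.Counting.mul_involution_iff hu).1 hux).1
  have hreal : IsConj x x⁻¹ := isConj_iff.2 ⟨u, hui⟩
  have hinv : ∀ y ∈ Subgroup.centralizer ({x} : Set G), u * y * u⁻¹ = y⁻¹ := by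
    intro y hy
    have huy : orderOf (u * y) = 2 := by
      refine key _ ?_
      calc u * y * x * (u * y)⁻¹ = u * (y * x) * y⁻¹ * u⁻¹ := by group
        _ = u * (x * y) * y⁻¹ * u⁻¹ := by rw [mem_cent.1 hy]
        _ = x⁻¹ := by rw [← hui]; group
    exact ((Involutions.Counting.mul_involution_iff hu).1 huy).1
  refine ⟨⟨⟨fun p q => Subtype.ext ?_⟩⟩, ?_, u, hu, hinv⟩
  · show (p : G) * q = q * p
    have e := hinv _ (mul_mem p.2 q.2)
    have : (p : G)⁻¹ * (q : G)⁻¹ = ((p : G) * q)⁻¹ := by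
      rw [← e, ← hinv _ p.2, ← hinv _ q.2]; group
    rw [← mul_inv_rev] at this
    exact (inv_injective this).symm
  · rw [← Involutions.Counting.card_inverting x hreal]
    refine Nat.card_congr (Equiv.subtypeEquivRight fun g => ⟨fun hg => ?_, fun hg => ?_⟩)
    · refine ⟨key g hg, (Involutions.Counting.mul_involution_iff (key g hg)).2 ⟨hg, fun e => ?_⟩⟩
      subst e
      exact hx.2 (h.mem_khat_of_invol (key g hg))
    · exact ((Involutions.Counting.mul_involution_iff hg.1).1 hg.2).1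

variable (hD : Deg K A a c)
include hD

theorem Setup.A_khat {y : G} (hy : y ∈ khat K) : A y = 1 := by
  obtain ⟨hy1, d, hd⟩ := hy
  have e := h.A_on_K hD.star (x := ⟨d⁻¹ * y * d, hd⟩) (fun e => hy1 (by
    have e' : d⁻¹ * y * d = 1 := congrArg Subtype.val e
    calc y = d * (d⁻¹ * y * d) * d⁻¹ := by group
      _ = 1 := by rw [e']; group))
  rw [← isGen_isClassFunction hD.star.signed.isGen y d⁻¹, inv_inv]
  exact e

theorem Setup.A_conj (g : G) : A g⁻¹ = conj (A g) := by
  rcases hD.star.signed with hA | hA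
  · exact char_inv (isCharacter_of_isIrr hA) g
  · have e := char_inv (isCharacter_of_isIrr hA) g
    simp only [Pi.neg_apply, map_neg, neg_inj] at e
    exact e

/-- The number of pairs at an element outside, in terms of the value of `A`. -/
theorem Setup.pairs_value {x : G} (hx : x ∈ outside K) :
    ((Nat.card {u : G // orderOf u = 2 ∧ orderOf (u * x⁻¹) = 2} : ℂ) =
        (2 * (Nat.card K : ℂ) + 1) + (Nat.card K : ℂ) * A x ∧ a = 2 * (Nat.card K : ℤ) + 1) ∨
      ((Nat.card {u : G // orderOf u = 2 ∧ orderOf (u * x⁻¹) = 2} : ℂ) =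
        -((Nat.card K : ℂ) - 1) * A x ∧ a = 1 - 2 * (Nat.card K : ℤ)) := by
  haveI := Fintype.ofFinite K
  have hP := h.pairs_outside hD hx
  have hk : (Nat.card K : ℂ) ≠ 0 := natCard_ne_zero
  have hk2 : 2 ≤ Nat.card K := by
    have := Nat.le_of_dvd Nat.card_pos (even_iff_two_dvd.1 h.k_even); omega
  have ha : (a : ℂ) ≠ 0 := Int.cast_ne_zero.2 (h.a_ne hD)
  have hc : (c : ℂ) ≠ 0 := Int.cast_ne_zero.2 (h.c_ne hD)
  rcases h.order_cases hD with ⟨e, hG⟩ | ⟨e, hG⟩
  · left
    refine ⟨?_, e⟩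
    have ec : c = -((Nat.card K : ℤ) + 1) := by linarith [hD.lin]
    rw [hG, show (a : ℂ) = 2 * (Nat.card K : ℂ) + 1 by rw [e]; push_cast; rfl,
      show (c : ℂ) = -((Nat.card K : ℂ) + 1) by rw [ec]; push_cast; rfl] at hP
    have h1 : (2 * (Nat.card K : ℂ) + 1) ≠ 0 := by exact_mod_cast Nat.succ_ne_zero (2 * Nat.card K)
    have h2 : ((Nat.card K : ℂ) + 1) ≠ 0 := by exact_mod_cast Nat.succ_ne_zero (Nat.card K)
    push_cast at hP
    have h1' : (Nat.card K : ℂ) * 2 + 1 ≠ 0 := by rwa [mul_comm]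
    field_simp at hP
    refine mul_right_cancel₀ (mul_ne_zero (pow_ne_zero 2 hk) (show (4 : ℂ) ≠ 0 by norm_num)) ?_
    refine mul_right_cancel₀ (mul_ne_zero h1 h2) ?_
    linear_combination (2 * (Nat.card K : ℂ) + 1) * ((Nat.card K : ℂ) + 1) * (Nat.card K : ℂ) * hP
  · right
    refine ⟨?_, e⟩
    have ec : c = (Nat.card K : ℤ) - 1 := by linarith [hD.lin]
    rw [hG, show (a : ℂ) = 1 - 2 * (Nat.card K : ℂ) by rw [e]; push_cast; rfl,
      show (c : ℂ) = (Nat.card K : ℂ) - 1 by rw [ec]; push_cast; rfl] at hP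
    have h1 : (1 - 2 * (Nat.card K : ℂ)) ≠ 0 := by
      have : ((1 - 2 * (Nat.card K : ℤ) : ℤ) : ℂ) ≠ 0 := Int.cast_ne_zero.2 (by omega)
      simpa using this
    have h2 : ((Nat.card K : ℂ) - 1) ≠ 0 := by
      have : (((Nat.card K : ℤ) - 1 : ℤ) : ℂ) ≠ 0 := Int.cast_ne_zero.2 (by omega)
      simpa using this
    rw [Nat.cast_mul, Nat.cast_mul, Nat.cast_mul, Nat.cast_sub (by omega), Nat.cast_sub (by omega)] at hP
    push_cast at hP
    have h1' : 1 - (Nat.card K : ℂ) * 2 ≠ 0 := by rwa [mul_comm]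
    field_simp at hP
    refine mul_right_cancel₀ (mul_ne_zero (pow_ne_zero 2 hk) (show (4 : ℂ) ≠ 0 by norm_num)) ?_
    refine mul_right_cancel₀ (mul_ne_zero h1 h2) ?_
    linear_combination ((Nat.card K : ℂ) - 1) * (Nat.card K : ℂ) * hP

theorem Setup.A_int {x : G} (hx : x ∈ outside K) : ∃ z : ℤ, A x = (z : ℂ) := by
  haveI := Fintype.ofFinite K
  have hint : IsIntegral ℤ (A x) := by
    rcases hD.star.signed with hA | hA
    · exact char_value_isIntegral (isCharacter_of_isIrr hA) x
    · simpa using (char_value_isIntegral (isCharacter_of_isIrr hA) x).neg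
  have hk : (Nat.card K : ℂ) ≠ 0 := natCard_ne_zero
  have hk2 : 2 ≤ Nat.card K := by
    have := Nat.le_of_dvd Nat.card_pos (even_iff_two_dvd.1 h.k_even); omega
  have h2 : ((Nat.card K : ℂ) - 1) ≠ 0 := by
    have : (((Nat.card K : ℤ) - 1 : ℤ) : ℂ) ≠ 0 := Int.cast_ne_zero.2 (by omega)
    simpa using this
  obtain ⟨r, hr⟩ : ∃ r : ℚ, A x = (r : ℂ) := by
    rcases h.pairs_value hD hx with ⟨e, -⟩ | ⟨e, -⟩
    · refine ⟨((Nat.card {u : G // orderOf u = 2 ∧ orderOf (u * x⁻¹) = 2} : ℚ) -
        (2 * (Nat.card K : ℚ) + 1)) / (Nat.card K : ℚ), ?_⟩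
      push_cast
      rw [e]; field_simp; ring
    · refine ⟨-(Nat.card {u : G // orderOf u = 2 ∧ orderOf (u * x⁻¹) = 2} : ℚ) /
        ((Nat.card K : ℚ) - 1), ?_⟩
      push_cast
      rw [e]; field_simp
  rw [hr] at hint ⊢
  exact exists_int_of_isIntegral_ratCast hint

open Classical in
/-- `A` takes the values `0` and `-1` outside, and `0` exactly `a² - 1` times. -/
theorem Setup.A_values :
    (∀ x ∈ outside K, A x = 0 ∨ A x = -1) ∧
      ((Finset.univ.filter fun x => x ∈ outside K ∧ A x = 0).card : ℤ) = a ^ 2 - 1 ∧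
      2 * (Nat.card K : ℤ) * ((Finset.univ.filter fun x => x ∈ outside K).card : ℤ) =
        2 * (Nat.card K : ℤ) * ((Nat.card G : ℤ) - 1) - (Nat.card G : ℤ) * ((Nat.card K : ℤ) - 1) := by
  set k : ℤ := (Nat.card K : ℤ) with hkdef
  set W := Finset.univ.filter (fun y : G => y ∈ khat K) with hW
  set R := Finset.univ.filter (fun y : G => y ∈ outside K) with hR
  have hWcard : 2 * k * (W.card : ℤ) = (Nat.card G : ℤ) * (k - 1) := by
    have := h.sum_khat (fun _ => (1 : ℤ)) (fun _ _ => rfl)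
    rw [← hW, Finset.sum_const, Finset.sum_const, nsmul_eq_mul, nsmul_eq_mul, mul_one, nsmul_eq_mul,
      nsmul_eq_mul, mul_one] at this
    have hS : (Finset.univ.filter fun x : G => x ∈ K ∧ x ≠ 1).card + 1 = Nat.card K := by
      have e : Finset.univ.filter (fun x : G => x ∈ K ∧ x ≠ 1) =
          (Finset.univ.filter fun x : G => x ∈ K).erase 1 := by
        ext y; simp [and_comm]
      rw [e, Finset.card_erase_add_one (Finset.mem_filter.2 ⟨Finset.mem_univ _, K.one_mem⟩),
        Nat.card_eq_fintype_card, ← Fintype.card_subtype]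
    push_cast at this
    rw [show k - 1 = ((Finset.univ.filter fun x : G => x ∈ K ∧ x ≠ 1).card : ℤ) by omega, ← this, hkdef]
  have hsplit : ∀ f : G → ℂ, ∑ g, f g = f 1 + ∑ g ∈ W, f g + ∑ g ∈ R, f g := by
    intro f
    rw [← Finset.add_sum_erase _ _ (Finset.mem_univ (1 : G)), add_assoc,
      ← Finset.sum_filter_add_sum_filter_not (Finset.univ.erase (1 : G)) (fun y => y ∈ khat K)]
    congr 2
    · refine Finset.sum_congr ?_ fun _ _ => rfl
      ext y
      simp only [hW, Finset.mem_filter, Finset.mem_erase, Finset.mem_univ, and_true, true_and]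
      exact ⟨fun hy => hy.2, fun hy => ⟨hy.1, hy⟩⟩
    · refine Finset.sum_congr ?_ fun _ _ => rfl
      ext y
      simp only [hR, Finset.mem_filter, Finset.mem_erase, Finset.mem_univ, and_true, true_and]
      rfl
  have hcardR : (Nat.card G : ℤ) = 1 + W.card + R.card := by
    have := hsplit fun _ => 1
    rw [Finset.sum_const, Finset.sum_const, Finset.sum_const, Finset.card_univ,
      ← Nat.card_eq_fintype_card] at this
    simp only [nsmul_eq_mul, mul_one] at this
    exact_mod_cast this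
  choose z hz using fun x : {x // x ∈ R} => h.A_int hD (Finset.mem_filter.1 x.2).2
  have hS1 : (a : ℤ) + W.card + ∑ x ∈ R.attach, z x = 0 := by
    have h0 := hD.star.triv
    rw [classInner_def, hsplit, hD.deg] at h0
    simp only [map_one, mul_one] at h0
    rw [Finset.sum_congr rfl (g := fun _ => (1 : ℂ)) (fun y hy => h.A_khat hD (Finset.mem_filter.1 hy).2),
      Finset.sum_const, nsmul_one, ← Finset.sum_attach R, Finset.sum_congr rfl (fun x _ => hz x),
      mul_eq_zero] at h0
    have h0' := h0.resolve_left (inv_ne_zero natCard_ne_zero)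
    exact_mod_cast h0'
  have hS2 : a ^ 2 + W.card + ∑ x ∈ R.attach, z x ^ 2 = (Nat.card G : ℤ) := by
    have h0 := hD.star.signed.self
    rw [classInner_def, hsplit, hD.deg] at h0
    rw [Finset.sum_congr rfl (g := fun _ => (1 : ℂ)) (fun y hy => by
        rw [h.A_khat hD (Finset.mem_filter.1 hy).2, map_one, mul_one]),
      Finset.sum_const, nsmul_one, ← Finset.sum_attach R,
      Finset.sum_congr rfl (g := fun x => ((z x : ℂ)) ^ 2) (fun x _ => by rw [hz x, map_intCast, sq]),
      map_intCast, inv_mul_eq_one₀ natCard_ne_zero] at h0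
    have : ((a ^ 2 + W.card + ∑ x ∈ R.attach, z x ^ 2 : ℤ) : ℂ) = ((Nat.card G : ℤ) : ℂ) := by
      push_cast
      linear_combination -h0
    exact_mod_cast this
  have hk2 : 2 ≤ k := by
    have := Nat.le_of_dvd Nat.card_pos (even_iff_two_dvd.1 h.k_even); omega
  have hkne : (2 * k) ≠ 0 := by omega
  have hzero : ∑ x ∈ R.attach, (z x ^ 2 + z x) = 0 ∧ (R.card : ℤ) + ∑ x ∈ R.attach, z x = a ^ 2 - 1 := by
    rcases h.order_cases hD with ⟨e, hG⟩ | ⟨e, hG⟩
    · have hG' : (Nat.card G : ℤ) = 2 * k * ((2 * k + 1) * (k + 1)) := by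
        rw [hG]; push_cast; rfl
      have hWc : (W.card : ℤ) = (2 * k + 1) * (k + 1) * (k - 1) :=
        mul_left_cancel₀ hkne (by rw [hWcard, hG']; ring)
      rw [Finset.sum_add_distrib]
      subst e
      constructor <;> linarith [hG', hWc]
    · have hG' : (Nat.card G : ℤ) = 2 * k * ((2 * k - 1) * (k - 1)) := by
        rw [hG, hkdef]
        rw [Nat.cast_mul, Nat.cast_mul, Nat.cast_mul, Nat.cast_sub (by omega), Nat.cast_sub (by omega)]
        push_cast; rfl
      have hWc : (W.card : ℤ) = (2 * k - 1) * (k - 1) * (k - 1) :=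
        mul_left_cancel₀ hkne (by rw [hWcard, hG']; ring)
      rw [Finset.sum_add_distrib]
      subst e
      constructor <;> linarith [hG', hWc]
  obtain ⟨hz0, hcnt⟩ := hzero
  have hnn : ∀ x ∈ R.attach, 0 ≤ z x ^ 2 + z x := fun x _ => by
    rcases le_or_gt 0 (z x) with hh | hh <;> nlinarith
  have hall : ∀ x : {x // x ∈ R}, z x = 0 ∨ z x = -1 := fun x => by
    have := (Finset.sum_eq_zero_iff_of_nonneg hnn).1 hz0 x (Finset.mem_attach _ x)
    have : z x * (z x + 1) = 0 := by linear_combination this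
    rcases mul_eq_zero.1 this with hh | hh
    · exact Or.inl hh
    · exact Or.inr (by omega)
  refine ⟨fun x hx => ?_, ?_, ?_⟩
  rotate_left 2
  · rw [← hWcard, hcardR]
    ring
  · have hxR : x ∈ R := Finset.mem_filter.2 ⟨Finset.mem_univ _, hx⟩
    rcases hall ⟨x, hxR⟩ with hh | hh
    · left; rw [hz ⟨x, hxR⟩, hh, Int.cast_zero]
    · right; rw [hz ⟨x, hxR⟩, hh]; simp
  · have e : ∑ x ∈ R, (if A x = 0 then (1 : ℤ) else 0) = ∑ x ∈ R.attach, (1 + z x) := by
      rw [← Finset.sum_attach R]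
      refine Finset.sum_congr rfl fun x _ => ?_
      rw [hz x]
      rcases hall x with hh | hh <;> simp [hh]
    have hf : R.filter (fun x => A x = 0) =
        Finset.univ.filter (fun x => x ∈ outside K ∧ A x = 0) := by rw [hR, Finset.filter_filter]
    rw [Finset.sum_boole, Finset.sum_add_distrib, Finset.sum_const, Finset.card_attach, hf] at e
    simp only [nsmul_eq_mul, mul_one] at e
    linarith

theorem Setup.A_inv_eq {x : G} (hx : x ∈ outside K) : A x⁻¹ = A x := by
  obtain ⟨z, hz⟩ := h.A_int hD hx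
  rw [h.A_conj hD, hz, map_intCast]

end Cfsg.Agent.BSWAbstract
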