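import Mathlib
import Cfsg.Agent.Lib.Involutions.BSW.Outside
import Cfsg.Agent.Lib.Involutions.BSW.Helpers

/-!
# The abstract Brauer–Suzuki–Wall theorem: the case `q = 2k + 1`
-/

set_option autoImplicit false
set_option linter.unusedSectionVars false
set_option linter.unusedVariables false
set_option linter.style.haveILetI false

namespace Cfsg.Agent.BSWAbstract

open scoped Pointwise

universe u

/-- The conclusion of the theorem. -/
def Concl (G : Type u) [Group G] : Prop :=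
  ∃ Q D : Subgroup G, 2 * Nat.card G = Nat.card ↥Q * (Nat.card ↥Q + 1) * (Nat.card ↥Q - 1) ∧
      (∀ x ∈ Q, x ≠ 1 → Subgroup.centralizer ({x} : Set G) = Q) ∧
      IsMulCommutative ↥D ∧ 2 * Nat.card ↥D + 1 = Nat.card ↥Q ∧ Q ⊓ D = ⊥ ∧
      Subgroup.normalizer (Q : Set G) = Q ⊔ D ∧
      ∀ X : Subgroup G, X ≤ D → X ≠ ⊥ →
        Subgroup.normalizer (X : Set G) = Subgroup.normalizer (D : Set G) ∧
        ∃ u : G, orderOf u = 2 ∧ u ∉ D ∧ (∀ d ∈ D, u * d * u⁻¹ = d⁻¹) ∧
          Subgroup.normalizer (D : Set G) = D ⊔ Subgroup.zpowers u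

variable {G : Type u} [Group G] [Fintype G] {t s : G} {K : Subgroup G} {A : G → ℂ} {a c : ℤ}

theorem mem_khat_conj {y g : G} (hy : y ∈ khat K) : g * y * g⁻¹ ∈ khat K := by
  obtain ⟨hy1, d, hd⟩ := hy
  refine ⟨fun e => hy1 (conj_eq_one_iff.1 e), g * d, ?_⟩
  simpa [mul_assoc] using hd

theorem mem_outside_conj {y g : G} (hy : y ∈ outside K) : g * y * g⁻¹ ∈ outside K := by
  refine ⟨fun e => hy.1 (conj_eq_one_iff.1 e), fun hh => hy.2 ?_⟩
  have := mem_khat_conj (g := g⁻¹) hh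
  simpa [mul_assoc] using this

variable (h : Setup t s K)
include h

theorem Setup.two_le : 2 ≤ Nat.card K := by
  have := Nat.le_of_dvd Nat.card_pos (even_iff_two_dvd.1 h.k_even); omega

theorem Setup.normalizer_sub {X : Subgroup G} (hX : X ≤ K) (hX1 : X ≠ ⊥) :
    Subgroup.normalizer (X : Set G) = Subgroup.centralizer ({t} : Set G) := by
  refine le_antisymm (fun g hg => ?_) (fun g hg => ?_)
  · obtain ⟨x, hx, hx1⟩ := (Subgroup.bot_or_exists_ne_one X).resolve_left hX1
    exact h.of_conj_mem (hX hx) hx1 (hX (normalizer_conj_mem hg hx))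
  · have hone : ∀ g ∈ Subgroup.centralizer ({t} : Set G), ∀ x ∈ X, g * x * g⁻¹ ∈ X := by
      intro g hg x hx
      rcases h.H_normalizes hg (hX hx) with ⟨e, -⟩ | ⟨e, -⟩ <;> rw [e]
      exacts [hx, X.inv_mem hx]
    rw [Subgroup.mem_normalizer_iff]
    intro x
    refine ⟨hone g hg x, fun hx => ?_⟩
    have := hone g⁻¹ (Subgroup.inv_mem _ hg) _ hx
    simpa [mul_assoc] using this

variable (hD : Deg K A a c)
include hD

theorem Setup.pairs_eq {y : G} (hy : y ∈ outside K) :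
    ((Nat.card {u : G // orderOf u = 2 ∧ orderOf (u * y) = 2} : ℂ) =
        (2 * (Nat.card K : ℂ) + 1) + (Nat.card K : ℂ) * A y ∧ a = 2 * (Nat.card K : ℤ) + 1) ∨
      ((Nat.card {u : G // orderOf u = 2 ∧ orderOf (u * y) = 2} : ℂ) =
        -((Nat.card K : ℂ) - 1) * A y ∧ a = 1 - 2 * (Nat.card K : ℤ)) := by
  have := h.pairs_value hD (outside_inv hy)
  rwa [inv_inv, h.A_inv_eq hD hy] at this

theorem Setup.A_class (y g : G) : A (g * y * g⁻¹) = A y :=
  Characters.isGen_isClassFunction hD.star.signed.isGen y g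

/-- The set where `A` vanishes outside. -/
theorem Setup.card_zero : (Nat.card {y : G // y ∈ outside K ∧ A y = 0} : ℤ) = a ^ 2 - 1 := by
  classical
  rw [Nat.card_eq_fintype_card, Fintype.card_subtype]
  exact (h.A_values hD).2.1

omit hD in
theorem Setup.not_invol_Q {Q : Subgroup G} (hQ : ∀ y ∈ Q, y ≠ 1 → y ∈ outside K) {v : G}
    (hv : orderOf v = 2) {y : G} (hy : y ∈ Q) (hc : v * y * v⁻¹ = y) : y = 1 := by
  by_contra hy1
  have hmem : v ∈ Subgroup.centralizer ({y} : Set G) := mem_cent.2 (mul_inv_eq_iff_eq_mul.1 hc)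
  have hd := Subgroup.orderOf_dvd_natCard _ hmem
  rw [hv] at hd
  exact Nat.not_even_iff_odd.2 (h.odd_cent (hQ y hy hy1).1 (hQ y hy hy1).2)
    (even_iff_two_dvd.2 hd)

/-- The case `q = 2k + 1`. -/
theorem Setup.plus_case (ha : a = 2 * (Nat.card K : ℤ) + 1)
    (hG : Nat.card G = 2 * Nat.card K * ((2 * Nat.card K + 1) * (Nat.card K + 1))) : Concl G := by
  classical
  have hk2 := h.two_le
  obtain ⟨hvals, -, -⟩ := h.A_values hD
  have hpairs : ∀ y ∈ outside K, (A y = 0 →
      Nat.card {u : G // orderOf u = 2 ∧ orderOf (u * y) = 2} = 2 * Nat.card K + 1) ∧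
      (A y = -1 → Nat.card {u : G // orderOf u = 2 ∧ orderOf (u * y) = 2} = Nat.card K + 1) := by
    intro y hy
    rcases h.pairs_eq hD hy with ⟨e, -⟩ | ⟨-, e'⟩
    swap; · omega
    refine ⟨fun h0 => ?_, fun h0 => ?_⟩
    · rw [h0] at e
      have : (Nat.card {u : G // orderOf u = 2 ∧ orderOf (u * y) = 2} : ℂ) =
          ((2 * Nat.card K + 1 : ℕ) : ℂ) := by rw [e]; push_cast; ring
      exact_mod_cast this
    · rw [h0] at e
      have : (Nat.card {u : G // orderOf u = 2 ∧ orderOf (u * y) = 2} : ℂ) =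
          ((Nat.card K + 1 : ℕ) : ℂ) := by rw [e]; push_cast; ring
      exact_mod_cast this
  have hU := h.card_zero hD
  obtain ⟨⟨x, hx, hx0⟩⟩ : Nonempty {y : G // y ∈ outside K ∧ A y = 0} := by
    refine (Nat.card_pos_iff.1 ?_).1
    have : (0 : ℤ) < a ^ 2 - 1 := by rw [ha]; nlinarith
    omega
  obtain ⟨hab₀, hcard₀, -⟩ := h.cent_of_pairs hx (by rw [(hpairs x hx).1 hx0]; omega)
  set Q₀ := Subgroup.centralizer ({x} : Set G) with hQ₀
  rw [(hpairs x hx).1 hx0] at hcard₀
  have hQ₀out : ∀ y ∈ Q₀, y ≠ 1 → y ∈ outside K := fun y hy hy1 => h.outside_cent hx hy hy1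
  have hcent : ∀ y ∈ Q₀, y ≠ 1 → Subgroup.centralizer ({y} : Set G) = Q₀ ∧ A y = 0 := by
    intro y hy hy1
    have hyo := hQ₀out y hy hy1
    have hle : Q₀ ≤ Subgroup.centralizer ({y} : Set G) := fun z hz =>
      mem_cent.2 (congrArg Subtype.val (hab₀.is_comm.comm (⟨z, hz⟩ : Q₀) ⟨y, hy⟩))
    have hcl := Subgroup.card_le_of_le hle
    rcases hvals y hyo with h0 | h0
    · obtain ⟨-, hc', -⟩ := h.cent_of_pairs hyo (by rw [(hpairs y hyo).1 h0]; omega)
      rw [(hpairs y hyo).1 h0] at hc'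
      exact ⟨(Subgroup.eq_of_le_of_card_ge hle (by omega)).symm, h0⟩
    · obtain ⟨-, hc', -⟩ := h.cent_of_pairs hyo (by rw [(hpairs y hyo).2 h0]; omega)
      rw [(hpairs y hyo).2 h0] at hc'
      omega
  have hSC₀ : SelfCent Q₀ := fun y hy hy1 => (hcent y hy hy1).1
  -- `Q₀` is a Hall subgroup
  have hidx : Q₀.index = 2 * Nat.card K * (Nat.card K + 1) := by
    have := Q₀.card_mul_index
    rw [hcard₀, hG] at this
    refine Nat.eq_of_mul_eq_mul_left (show 0 < 2 * Nat.card K + 1 by omega) (this.trans ?_)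
    ring
  have hcop : ∀ r : ℕ, r.Prime → r ∣ Nat.card Q₀ → ¬ r ∣ Q₀.index := by
    intro r hr hrq hri
    rw [hcard₀] at hrq
    rw [hidx] at hri
    rcases hr.dvd_mul.1 hri with h1 | h1
    · exact hr.not_dvd_one ((Nat.dvd_add_right h1).1 hrq)
    · have h2 : r ∣ 2 * Nat.card K + 1 + 1 := by
        rw [show 2 * Nat.card K + 1 + 1 = 2 * (Nat.card K + 1) by ring]; exact dvd_mul_of_dvd_right h1 2
      exact hr.not_dvd_one ((Nat.dvd_add_right hrq).1 h2)
  -- the elements with `A = 0` are those conjugate into `Q₀`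
  have hset : hatSet Q₀ = {y | y ∈ outside K ∧ A y = 0} := by
    ext y
    constructor
    · rintro ⟨hy1, g, hg⟩
      have hne : g⁻¹ * y * g ≠ 1 := fun e => hy1 (by
        calc y = g * (g⁻¹ * y * g) * g⁻¹ := by group
          _ = 1 := by rw [e]; group)
      have e : g * (g⁻¹ * y * g) * g⁻¹ = y := by group
      refine ⟨?_, ?_⟩
      · have := mem_outside_conj (g := g) (hQ₀out _ hg hne); rwa [e] at this
      · rw [← e, h.A_class hD]; exact (hcent _ hg hne).2
    · rintro ⟨hy, hy0⟩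
      obtain ⟨hab', hcard', -⟩ := h.cent_of_pairs hy (by rw [(hpairs y hy).1 hy0]; omega)
      rw [(hpairs y hy).1 hy0] at hcard'
      have hSC' : SelfCent (Subgroup.centralizer ({y} : Set G)) := by
        intro z hz hz1
        have hzo := h.outside_cent hy hz hz1
        have hle : Subgroup.centralizer ({y} : Set G) ≤ Subgroup.centralizer ({z} : Set G) :=
          fun w hw => mem_cent.2 (congrArg Subtype.val
            (hab'.is_comm.comm (⟨w, hw⟩ : Subgroup.centralizer ({y} : Set G)) ⟨z, hz⟩))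
        have hcl := Subgroup.card_le_of_le hle
        rcases hvals z hzo with h0 | h0
        · obtain ⟨-, hc', -⟩ := h.cent_of_pairs hzo (by rw [(hpairs z hzo).1 h0]; omega)
          rw [(hpairs z hzo).1 h0] at hc'
          exact (Subgroup.eq_of_le_of_card_ge hle (by omega)).symm
        · obtain ⟨-, hc', -⟩ := h.cent_of_pairs hzo (by rw [(hpairs z hzo).2 h0]; omega)
          rw [(hpairs z hzo).2 h0] at hc'
          omega
      obtain ⟨r, hr, hrd⟩ := Nat.exists_prime_and_dvd (n := 2 * Nat.card K + 1) (by omega)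
      haveI := Fact.mk hr
      obtain ⟨g, hg⟩ := selfCent_conj hSC₀ hSC' (r := r) (by rwa [hcard'])
        (hcop r hr (by rwa [hcard₀]))
      have hself : y ∈ Subgroup.centralizer ({y} : Set G) := mem_cent.2 rfl
      rw [hg] at hself
      obtain ⟨z, hz, hzy⟩ := hself
      refine ⟨hy.1, g, ?_⟩
      rw [← hzy]
      simpa [mul_assoc] using hz
  have hN₀ : Nat.card (Subgroup.normalizer (Q₀ : Set G)) = (2 * Nat.card K + 1) * Nat.card K := by
    have h1 := selfCent_count hSC₀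
    have h2 : (Nat.card (hatSet Q₀) : ℤ) = (2 * (Nat.card K : ℤ) + 1) ^ 2 - 1 := by
      rw [← ha, ← hU, hset]; rfl
    rw [hcard₀, hG, show 2 * Nat.card K + 1 - 1 = 2 * Nat.card K by omega] at h1
    have h3 : (Nat.card (hatSet Q₀) : ℤ) = 4 * (Nat.card K : ℤ) * ((Nat.card K : ℤ) + 1) := by
      rw [h2]; ring
    have h3' : Nat.card (hatSet Q₀) = 4 * Nat.card K * (Nat.card K + 1) := by exact_mod_cast h3
    rw [h3'] at h1
    refine Nat.eq_of_mul_eq_mul_left (show 0 < 4 * Nat.card K * (Nat.card K + 1) by positivity)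
      (h1.trans ?_)
    ring
  -- move an involution of the normalizer to `t`
  obtain ⟨v, hv⟩ := exists_prime_orderOf_dvd_card' 2 (G := Subgroup.normalizer (Q₀ : Set G)) (by
    rw [hN₀]; exact dvd_mul_of_dvd_right (even_iff_two_dvd.1 h.k_even) _)
  obtain ⟨g, hg⟩ := isConj_iff.1 (h.conj (v : G) t (by rw [Subgroup.orderOf_coe, hv]) h.ht)
  set Q := Q₀.map ((MulAut.conj g : G ≃* G) : G →* G) with hQdef
  have hmemQ : ∀ y, y ∈ Q ↔ g⁻¹ * y * g ∈ Q₀ := by
    intro y
    constructor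
    · rintro ⟨z, hz, rfl⟩; simpa [mul_assoc] using hz
    · intro hy; exact ⟨_, hy, by simp [mul_assoc]⟩
  have hQcard : Nat.card Q = 2 * Nat.card K + 1 := by
    rw [hQdef, Subgroup.card_map_of_injective (MulEquiv.injective _), hcard₀]
  have hSC : SelfCent Q := selfCent_map hSC₀ g
  have hQout : ∀ y ∈ Q, y ≠ 1 → y ∈ outside K := by
    intro y hy hy1
    have := mem_outside_conj (g := g) (hQ₀out _ ((hmemQ y).1 hy) (fun e => hy1 (by
      calc y = g * (g⁻¹ * y * g) * g⁻¹ := by group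
        _ = 1 := by rw [e]; group)))
    rwa [show g * (g⁻¹ * y * g) * g⁻¹ = y by group] at this
  have htN : t ∈ Subgroup.normalizer (Q : Set G) := by
    rw [Subgroup.mem_normalizer_iff]
    intro y
    rw [hmemQ, hmemQ, Subgroup.mem_normalizer_iff.1 v.2 (g⁻¹ * y * g), ← hg]
    simp [mul_assoc]
  have hcommQ : ∀ {p q : G}, p ∈ Q → q ∈ Q → p * q = q * p := fun hp hq => selfCent_comm hSC hp hq
  have hinvQ : ∀ w : G, orderOf w = 2 → w ∈ Subgroup.normalizer (Q : Set G) →
      ∀ y ∈ Q, w * y * w⁻¹ = y⁻¹ := by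
    intro w hw hwN y hy
    have hw1 : w⁻¹ = w := inv_eq_of_mul_eq_one_right (by rw [← sq, ← hw, pow_orderOf_eq_one])
    have hy' := normalizer_conj_mem hwN hy
    have hz := h.not_invol_Q hQout hw (Q.mul_mem hy hy') (by
      calc w * (y * (w * y * w⁻¹)) * w⁻¹ = w * y * (w * y * w⁻¹) * w⁻¹ := by group
        _ = w * y * w⁻¹ * (w * w * y * w⁻¹ * w⁻¹) := by group
        _ = w * y * w⁻¹ * y := by
          conv_lhs => arg 2; rw [hw1, show w * w = 1 by rw [← sq, ← hw, pow_orderOf_eq_one]]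
          rw [one_mul, mul_assoc y w w, show w * w = 1 by rw [← sq, ← hw, pow_orderOf_eq_one], mul_one]
        _ = y * (w * y * w⁻¹) := hcommQ hy' hy)
    exact eq_inv_of_mul_eq_one_right hz
  have hQK : ∀ y ∈ Q, y ∈ Subgroup.centralizer ({t} : Set G) → y = 1 := fun y hy hyH =>
    h.not_invol_Q hQout h.ht hy (by rw [← mem_cent.1 hyH, mul_inv_cancel_right])
  set N := Subgroup.normalizer (Q : Set G) with hNdef
  have hNcard : Nat.card N = (2 * Nat.card K + 1) * Nat.card K := by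
    rw [← hN₀]
    have e : (Subgroup.normalizer (Q₀ : Set G)).map ((MulAut.conj g : G ≃* G) : G →* G) = N :=
      Subgroup.map_equiv_normalizer_eq Q₀ (MulAut.conj g)
    rw [← e, Subgroup.card_map_of_injective (MulEquiv.injective _)]
  obtain ⟨y₀, hy₀, hy₀1⟩ := (Subgroup.bot_or_exists_ne_one Q).resolve_left (fun e => by
    rw [e, Subgroup.card_bot] at hQcard; omega)
  have hdec : ∀ n ∈ N, ∃ w ∈ Q, w⁻¹ * n ∈ K := by
    intro n hn
    -- the commutator of `n` and `t` centralizes `Q`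
    have hti := hinvQ t h.ht htN
    have hz : n * t * n⁻¹ * t ∈ Q := by
      rw [← hSC y₀ hy₀ hy₀1, mem_cent]
      have e1 : t * y₀ = y₀⁻¹ * t := by rw [← hti y₀ hy₀, inv_mul_cancel_right]
      have hy₀' := normalizer_conj_mem (Subgroup.inv_mem _ hn) hy₀
      rw [inv_inv] at hy₀'
      have e2 := hti _ hy₀'
      calc n * t * n⁻¹ * t * y₀ = n * t * n⁻¹ * (t * y₀) := by group
        _ = n * (t * (n⁻¹ * y₀ * n)⁻¹ * t⁻¹) * t * n⁻¹ * t := by rw [e1]; group
        _ = n * (n⁻¹ * y₀ * n) * t * n⁻¹ * t := by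
          congr 4
          have e3 := hti _ (Q.inv_mem hy₀')
          rw [e3, inv_inv]
        _ = y₀ * (n * t * n⁻¹ * t) := by group
    set z := n * t * n⁻¹ * t with hzdef
    have hzpow : z ^ (2 * Nat.card K + 1) = 1 := by
      rw [← hQcard]
      exact congrArg Subtype.val (pow_card_eq_one' (x := (⟨z, hz⟩ : Q)))
    set w := z ^ (Nat.card K + 1) with hw
    have hwQ : w ∈ Q := Q.pow_mem hz _
    have hw2 : w * w = z := by
      rw [hw, ← pow_add, show Nat.card K + 1 + (Nat.card K + 1) = 2 * Nat.card K + 1 + 1 by ring,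
        pow_succ, hzpow, one_mul]
    have hconj : w * t * w⁻¹ = n * t * n⁻¹ := by
      have e := hti _ (Q.inv_mem hwQ)
      rw [inv_inv] at e
      calc w * t * w⁻¹ = w * (t * w⁻¹ * t⁻¹) * t := by group
        _ = w * w * t := by rw [e]
        _ = n * t * n⁻¹ * (t * t) := by rw [hw2, hzdef]; group
        _ = n * t * n⁻¹ := by rw [h.t_mul, mul_one]
    refine ⟨w, hwQ, ?_⟩
    have hH : w⁻¹ * n ∈ Subgroup.centralizer ({t} : Set G) := by
      rw [mem_cent]
      calc w⁻¹ * n * t = w⁻¹ * (n * t * n⁻¹) * n := by group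
        _ = t * (w⁻¹ * n) := by rw [← hconj]; group
    rcases h.mem_H hH with hk | hk
    · exact hk
    exfalso
    set v' := w⁻¹ * n with hv'
    have hv'o := h.coset_invol hk
    have hv'N : v' ∈ N := N.mul_mem (Subgroup.le_normalizer (Q.inv_mem hwQ)) hn
    have hmem : v' * t ∈ Q := by
      rw [← hSC y₀ hy₀ hy₀1, mem_cent]
      have e1 : t * y₀ = y₀⁻¹ * t := by rw [← hti y₀ hy₀, inv_mul_cancel_right]
      have e2 : v' * y₀⁻¹ = y₀ * v' := by
        have := hinvQ v' hv'o hv'N _ (Q.inv_mem hy₀)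
        rw [inv_inv] at this
        exact mul_inv_eq_iff_eq_mul.1 this
      rw [mul_assoc, e1, ← mul_assoc, e2, mul_assoc]
    have : v' * t = 1 := hQK _ hmem (Subgroup.mul_mem _ hH (h.K_le h.htK))
    have hvt : v' = t := by rw [mul_eq_one_iff_eq_inv.1 this, h.t_inv]
    rw [hvt] at hk
    exact h.hsK ((K.mul_mem_cancel_right h.htK).1 hk)
  have hKN : K ≤ N := by
    have hle : Nat.card N ≤ Nat.card Q * Nat.card (K ⊓ N : Subgroup G) := by
      rw [← Nat.card_prod]
      refine Nat.card_le_card_of_surjective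
        (fun p : Q × (K ⊓ N : Subgroup G) => (⟨(p.1 : G) * p.2, N.mul_mem (Subgroup.le_normalizer p.1.2)
          (Subgroup.mem_inf.1 p.2.2).2⟩ : N)) fun n => ?_
      obtain ⟨w, hw, hk⟩ := hdec n n.2
      exact ⟨(⟨w, hw⟩, ⟨w⁻¹ * n, hk, N.mul_mem (Subgroup.le_normalizer (Q.inv_mem hw)) n.2⟩),
        Subtype.ext (mul_inv_cancel_left w (n : G))⟩
    rw [hNcard, hQcard] at hle
    exact inf_eq_left.1 (Subgroup.eq_of_le_of_card_ge inf_le_left
      (Nat.le_of_mul_le_mul_left hle (by omega)))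
  refine ⟨Q, K, ?_, hSC, h.comm, by omega, ?_, ?_, fun X hX hX1 => ⟨?_, s, h.hs, h.hsK, h.inv, ?_⟩⟩
  · rw [hQcard, hG, show 2 * Nat.card K + 1 - 1 = 2 * Nat.card K by omega]; ring
  · rw [eq_bot_iff]
    intro y hy
    exact Subgroup.mem_bot.2 (hQK y (Subgroup.mem_inf.1 hy).1 (h.K_le (Subgroup.mem_inf.1 hy).2))
  · refine le_antisymm (fun n hn => ?_) (sup_le Subgroup.le_normalizer hKN)
    obtain ⟨w, hw, hk⟩ := hdec n hn
    rw [← mul_inv_cancel_left w n]
    exact Subgroup.mul_mem_sup hw hk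
  · rw [h.normalizer_sub hX hX1, h.normalizer_sub le_rfl (fun e => h.t_ne (by
      simpa [e] using h.htK))]
  · rw [h.normalizer_sub le_rfl (fun e => h.t_ne (by simpa [e] using h.htK)), h.gen]

end Cfsg.Agent.BSWAbstract
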