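import Mathlib
import Cfsg.Agent.Lib.Involutions.BSW.Plus
import Cfsg.Agent.Lib.Perm.Zassenhaus.Main

/-!
# A simple group with the structure of the Brauer–Suzuki–Wall conclusion is `PSL₂`
-/

set_option autoImplicit false
set_option linter.unusedSectionVars false
set_option linter.unusedVariables false
set_option linter.style.haveILetI false

namespace Cfsg.Agent.BSWAbstract

open MulAction

universe u

variable {G : Type u} [Group G]

/-- No simple group has order twelve. -/
theorem not_simple_twelve [Finite G] [IsSimpleGroup G] : Nat.card G ≠ 12 := by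
  intro hG
  haveI := Fact.mk Nat.prime_two
  obtain ⟨S⟩ : Nonempty (Sylow 2 G) := inferInstance
  have hS : Nat.card (S : Subgroup G) = 4 := by
    rw [S.card_eq_multiplicity, hG]
    have : Nat.factorization 12 2 = 2 := by
      rw [show (12 : ℕ) = 2 ^ 2 * 3 by norm_num, Nat.factorization_mul (by norm_num) (by norm_num),
        Finsupp.add_apply, Nat.Prime.factorization_pow Nat.prime_two, Finsupp.single_eq_same,
        Nat.factorization_eq_zero_of_not_dvd (by norm_num)]
    rw [this]; norm_num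
  have hidx : (S : Subgroup G).index = 3 := by
    have h := (S : Subgroup G).card_mul_index
    rw [hS, hG] at h; omega
  rcases Subgroup.Normal.eq_bot_or_eq_top (inferInstance : (S : Subgroup G).normalCore.Normal) with h | h
  · have hd := (S : Subgroup G).normalCore.card_mul_index
    rw [h, Subgroup.card_bot, one_mul, hG] at hd
    have hdvd : (S : Subgroup G).normalCore.index ∣ Nat.factorial 3 := by
      rw [Subgroup.normalCore_eq_ker, Subgroup.index_ker]
      refine (Subgroup.card_subgroup_dvd_card _).trans (dvd_of_eq ?_)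
      haveI := Fintype.ofFinite (G ⧸ (S : Subgroup G))
      classical
      rw [Nat.card_eq_fintype_card, Fintype.card_perm, ← Nat.card_eq_fintype_card,
        ← Subgroup.index_eq_card, hidx]
    rw [h, Subgroup.index_bot, hG] at hdvd
    exact absurd (Nat.le_of_dvd (Nat.factorial_pos 3) hdvd) (by decide)
  · have h' := (S : Subgroup G).normalCore_le
    rw [h, top_le_iff] at h'
    rw [h', Subgroup.index_top] at hidx
    omega

/-- A simple group with the conclusion of the theorem is `PSL₂(q)`. -/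
theorem concl_psl [Finite G] [IsSimpleGroup G] (h : Concl G) :
    ∃ (F : Type) (_ : Field F) (_ : Fintype F), Odd (Fintype.card F) ∧
      Nonempty (G ≃* Matrix.ProjectiveSpecialLinearGroup (Fin 2) F) := by
  classical
  obtain ⟨Q, D, hG, hQ, hDc, hDq, hQD, hN, -⟩ := h
  set q := Nat.card Q with hq
  set d := Nat.card D with hd
  have hdpos : 0 < d := Nat.card_pos
  set N := Subgroup.normalizer (Q : Set G) with hNdef
  have hDN : D ≤ N := hN ▸ le_sup_right
  have hcardN : Nat.card N = q * d := by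
    rw [hN, hq, hd]
    have hc : Nat.card Q * Nat.card D = Nat.card ↥(Q ⊔ D) * Nat.card ↥(Q ⊓ D) := by
      have h1 : Q.subgroupOf N ⊔ D.subgroupOf N = ⊤ := by
        rw [← Subgroup.subgroupOf_sup Subgroup.le_normalizer hDN, ← hN, Subgroup.subgroupOf_self]
      haveI : (Q.subgroupOf N).Normal := Subgroup.normal_in_normalizer
      have h2 := Cores.card_sup_mul_card_inf (D.subgroupOf N) (Q.subgroupOf N)
      rw [sup_comm, h1, Subgroup.card_top,
        Nat.card_congr (Subgroup.subgroupOfEquivOfLe hDN).toEquiv,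
        Nat.card_congr (Subgroup.subgroupOfEquivOfLe
          (Subgroup.le_normalizer : Q ≤ N)).toEquiv] at h2
      have h3 : Nat.card ↥(D.subgroupOf N ⊓ Q.subgroupOf N) = Nat.card ↥(Q ⊓ D) := by
        rw [show D.subgroupOf N ⊓ Q.subgroupOf N = (Q ⊓ D).subgroupOf N by
          rw [Subgroup.subgroupOf, Subgroup.subgroupOf, Subgroup.subgroupOf, ← Subgroup.comap_inf,
            inf_comm]]
        exact Nat.card_congr (Subgroup.subgroupOfEquivOfLe (inf_le_left.trans Subgroup.le_normalizer)).toEquiv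
      rw [h3, hN] at h2
      rw [h2, mul_comm]
    rw [hc, hQD, Subgroup.card_bot, mul_one]
  have hidx : N.index = q + 1 := by
    have e := N.card_mul_index
    rw [hcardN] at e
    refine Nat.eq_of_mul_eq_mul_left (Nat.mul_pos two_pos (Nat.mul_pos Nat.card_pos hdpos) : 0 < 2 * (q * d)) ?_
    rw [mul_assoc, e, hG, show q - 1 = 2 * d by omega]
    ring
  have hcop : Nat.Coprime q d := by
    rw [← hDq]
    simp
  haveI : Fintype (G ⧸ N) := Fintype.ofFinite _
  haveI hQn : (Q.subgroupOf N).Normal := Subgroup.normal_in_normalizer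
  -- elements of `N` of order dividing `q` are in `Q`
  have hQmem : ∀ x ∈ N, x ^ q = 1 → x ∈ Q := by
    intro x hx hxq
    have h1 : ((⟨x, hx⟩ : N) : N ⧸ Q.subgroupOf N) ^ q = 1 := by
      rw [← QuotientGroup.mk_pow, QuotientGroup.eq_one_iff]
      show x ^ q ∈ Q
      rw [hxq]; exact Q.one_mem
    have h2 : Nat.card (N ⧸ Q.subgroupOf N) = d := by
      have e := (Q.subgroupOf N).card_mul_index
      rw [Nat.card_congr (Subgroup.subgroupOfEquivOfLe (Subgroup.le_normalizer : Q ≤ N)).toEquiv,
        hcardN, ← hq] at e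
      rw [← Subgroup.index_eq_card]
      exact Nat.eq_of_mul_eq_mul_left Nat.card_pos e
    have h3 : ((⟨x, hx⟩ : N) : N ⧸ Q.subgroupOf N) = 1 := orderOf_eq_one_iff.1
      (Nat.eq_one_of_dvd_coprimes hcop (orderOf_dvd_of_pow_eq_one h1) (h2 ▸ orderOf_dvd_natCard _))
    exact Subgroup.mem_subgroupOf.1 ((QuotientGroup.eq_one_iff (⟨x, hx⟩ : N)).1 h3)
  have hQcomm : ∀ u ∈ Q, ∀ v ∈ Q, u * v = v * u := fun u hu v hv => selfCent_comm hQ hu hv
  set a : G ⧸ N := QuotientGroup.mk 1 with ha
  have hstab : stabilizer G a = N := stabilizer_quotient N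
  -- `Q` is regular on the other points
  have hfree : ∀ u ∈ Q, ∀ b : G ⧸ N, b ≠ a → u • b = b → u = 1 := by
    intro u hu b hb hub
    obtain ⟨g, rfl⟩ := QuotientGroup.mk_surjective b
    by_contra hu1
    refine hb ?_
    rw [MulAction.Quotient.smul_mk, QuotientGroup.eq, smul_eq_mul] at hub
    have h1 : g⁻¹ * u * g ∈ N := by
      have := N.inv_mem hub
      simpa [mul_assoc] using this
    have h2 : g⁻¹ * u * g ∈ Q := by
      refine hQmem _ h1 ?_
      rw [show g⁻¹ * u * g = g⁻¹ * u * g⁻¹⁻¹ by rw [inv_inv], conj_pow,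
        show u ^ q = 1 from congrArg Subtype.val (pow_card_eq_one' (x := (⟨u, hu⟩ : Q)))]
      group
    have h3 : g⁻¹ ∈ N := mem_normalizer_of_conj hQ hu hu1 (by rwa [inv_inv])
    rw [ha, QuotientGroup.eq, mul_one]
    exact h3
  have hQa : ∀ u ∈ Q, u • a = a := fun u hu => by
    rw [← mem_stabilizer_iff, hstab]; exact Subgroup.le_normalizer hu
  have hcardΩ : Fintype.card (G ⧸ N) = q + 1 := by
    rw [← Nat.card_eq_fintype_card, ← Subgroup.index_eq_card, hidx]
  have htrans : ∀ y z : G ⧸ N, y ≠ a → z ≠ a → ∃! u : Q, (u : G) • y = z := by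
    intro y z hy hz
    have hinj : Function.Injective fun u : Q => (⟨(u : G) • y, fun e => hy (by
        rw [← inv_smul_smul (u : G) y, e]; exact hQa _ (Q.inv_mem u.2))⟩ : {b : G ⧸ N // b ≠ a}) := by
      intro u v e
      have e' : (u : G) • y = (v : G) • y := congrArg Subtype.val e
      refine Subtype.ext (inv_mul_eq_one.1 (hfree _ (Q.mul_mem (Q.inv_mem v.2) u.2) y hy ?_)).symm
      rw [mul_smul, e', inv_smul_smul]
    have hbij := (Nat.bijective_iff_injective_and_card _).2 ⟨hinj, by
      rw [Nat.card_eq_fintype_card (α := {b : G ⧸ N // b ≠ a}), Fintype.card_subtype_compl,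
        Fintype.card_subtype_eq, hcardΩ]
      omega⟩
    obtain ⟨u, hu, huu⟩ := hbij.existsUnique ⟨z, hz⟩
    exact ⟨u, congrArg Subtype.val hu, fun v hv => huu v (Subtype.ext hv)⟩
  obtain ⟨b, hba⟩ := Fintype.exists_ne_of_one_lt_card (by rw [hcardΩ]; omega) a
  haveI : IsPretransitive G (G ⧸ N) := inferInstance
  have h2t : IsMultiplyPretransitive G (G ⧸ N) 2 := by
    rw [is_two_pretransitive_iff]
    have key : ∀ x y : G ⧸ N, x ≠ y → ∃ g : G, g • x = a ∧ g • y = b := by
      intro x y hxy
      obtain ⟨g, hg⟩ := exists_smul_eq G x a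
      have hgy : g • y ≠ a := fun e => hxy (smul_left_cancel g (hg.trans e.symm))
      obtain ⟨u, hu, -⟩ := htrans _ b hgy hba
      exact ⟨u * g, by rw [mul_smul, hg, hQa _ u.2], by rw [mul_smul, hu]⟩
    intro x y x' y' hxy hxy'
    obtain ⟨g, hg1, hg2⟩ := key x y hxy
    obtain ⟨g', hg1', hg2'⟩ := key x' y' hxy'
    exact ⟨g'⁻¹ * g, by rw [mul_smul, hg1, ← hg1', inv_smul_smul],
      by rw [mul_smul, hg2, ← hg2', inv_smul_smul]⟩
  have hthree : ∀ g : G, ∀ x y z : G ⧸ N, x ≠ y → y ≠ z → x ≠ z → g • x = x → g • y = y → g • z = z →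
      g = 1 := by
    intro g x y z hxy hyz hxz hx hy hz
    obtain ⟨k, hk⟩ := exists_smul_eq G x a
    set g' := k * g * k⁻¹ with hg'
    have hfix : ∀ w : G ⧸ N, g • w = w → g' • (k • w) = k • w := fun w hw => by
      rw [hg', mul_smul, mul_smul, inv_smul_smul, hw]
    have ha' : g' ∈ N := by
      rw [← hstab, mem_stabilizer_iff, ← hk]; exact hfix x hx
    have hy' : k • y ≠ a := fun e => hxy (smul_left_cancel k (hk.trans e.symm))
    have hz' : k • z ≠ a := fun e => hxz (smul_left_cancel k (hk.trans e.symm))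
    obtain ⟨u, hu, huu⟩ := htrans _ _ hy' hz'
    have hu1 : (u : G) ≠ 1 := fun e => hyz (smul_left_cancel k (by rw [← hu, e, one_smul]))
    have hconj : g' * (u : G) * g'⁻¹ ∈ Q := normalizer_conj_mem ha' u.2
    have e1 : g' * (u : G) * g'⁻¹ = u := by
      refine congrArg Subtype.val (huu ⟨_, hconj⟩ ?_)
      show (g' * (u : G) * g'⁻¹) • (k • y) = k • z
      rw [mul_smul, mul_smul, inv_smul_eq_iff.2 (hfix y hy).symm, hu, hfix z hz]
    have hgQ : g' ∈ Q := by
      rw [← hQ _ u.2 hu1, Subgroup.mem_centralizer_singleton_iff]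
      exact mul_inv_eq_iff_eq_mul.1 e1
    have := hfree _ hgQ _ hy' (hfix y hy)
    rw [hg', mul_inv_eq_one, mul_eq_left] at this
    exact this
  have hd2 : 2 ≤ d := by
    by_contra hlt
    have hd1 : d = 1 := by omega
    refine not_simple_twelve (G := G) ?_
    have hq3 : q = 3 := by omega
    rw [hq3] at hG
    omega
  have hab : Nat.card ↥(stabilizer G a ⊓ stabilizer G b) = d := by
    have horb : ∀ y, y ∈ orbit N b ↔ y ≠ a := by
      intro y
      constructor
      · rintro ⟨g, rfl⟩ e
        have e' : (g : G) • b = a := e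
        refine hba ?_
        rw [← inv_smul_smul (g : G) b, e', ← mem_stabilizer_iff, hstab]
        exact N.inv_mem g.2
      · intro hy
        obtain ⟨u, hu, -⟩ := htrans b y hba hy
        exact ⟨⟨u, Subgroup.le_normalizer u.2⟩, hu⟩
    have h1 := Nat.card_congr (orbitProdStabilizerEquivGroup N b)
    rw [Nat.card_prod, Nat.card_congr (Equiv.subtypeEquivRight horb), Nat.card_eq_fintype_card
      (α := {y : G ⧸ N // y ≠ a}), Fintype.card_subtype_compl, Fintype.card_subtype_eq, hcardΩ,
      hcardN, Nat.add_sub_cancel] at h1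
    have h2 : Nat.card (stabilizer N b) = d := Nat.eq_of_mul_eq_mul_left (by omega) h1
    rw [← h2, hstab]
    exact Nat.card_congr
      { toFun := fun g => ⟨⟨g.1, g.2.1⟩, g.2.2⟩
        invFun := fun g => ⟨g.1.1, g.1.2, g.2⟩
        left_inv := fun _ => rfl
        right_inv := fun _ => rfl }
  have hnsub : ¬ Subsingleton (stabilizer G a ⊓ stabilizer G b : Subgroup G) := fun hs => by
    haveI := hs
    rw [Nat.card_of_subsingleton 1] at hab
    omega
  haveI : Nontrivial (stabilizer G a ⊓ stabilizer G b : Subgroup G) := not_subsingleton_iff_nontrivial.1 hnsub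
  obtain ⟨⟨g, hga, hgb⟩, hg1⟩ := exists_ne (1 : (stabilizer G a ⊓ stabilizer G b : Subgroup G))
  have hfaith : FaithfulSMul G (G ⧸ N) := by
    constructor
    intro g₁ g₂ heq
    have hker : (MulAction.toPermHom G (G ⧸ N)).ker = ⊥ := by
      refine ((MonoidHom.normal_ker _).eq_bot_or_eq_top).resolve_right fun e => hg1 ?_
      obtain ⟨k, hk⟩ := exists_smul_eq G b a
      have := congrArg (fun σ : Equiv.Perm (G ⧸ N) => σ b)
        ((MonoidHom.mem_ker).1 (show k ∈ (MulAction.toPermHom G (G ⧸ N)).ker by rw [e]; exact Subgroup.mem_top k))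
      exact absurd (hk.symm.trans this).symm hba
    refine (MonoidHom.ker_eq_bot_iff _).1 hker (Equiv.ext fun y => ?_)
    exact heq y
  have hZ : Cfsg.IsZassenhausGroup G (G ⧸ N) := by
    refine ⟨hfaith, h2t, hthree, ⟨g, fun e => hg1 (Subtype.ext e), a, b, hba.symm, hga, hgb⟩, ?_⟩
    intro M hM hMt
    refine ⟨a, fun e => ?_⟩
    rcases hM.eq_bot_or_eq_top with rfl | rfl
    · obtain ⟨k, hk⟩ := hMt.exists_smul_eq a b
      exact hba (hk.symm.trans (by rw [Subgroup.smul_def, Subgroup.mem_bot.1 k.2, one_smul]))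
    · refine hg1 (Subtype.ext ?_)
      have h' : (⟨g, Subgroup.mem_top g⟩ : (⊤ : Subgroup G)) ∈ stabilizer (⊤ : Subgroup G) a := hga
      have h'' : (⟨g, Subgroup.mem_top g⟩ : (⊤ : Subgroup G)) = 1 :=
        Subgroup.mem_bot.1 ((SetLike.ext_iff.1 e _).1 h')
      show g = 1
      exact congrArg Subtype.val h''
  have hFle : Q ≤ stabilizer G a := by rw [hstab]; exact Subgroup.le_normalizer
  have hFn : (Q.subgroupOf (stabilizer G a)).Normal :=
    ⟨fun x hx g => normalizer_conj_mem (Q := Q) (hstab.le g.2 : (g : G) ∈ N) hx⟩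
  obtain ⟨F, i1, i2, hF, -, hiso⟩ := Perm.Zassenhaus.psl_of_zass hZ
    (Perm.Zassenhaus.frame_of_zass hZ hba.symm Q hFle hFn
      ⟨⟨fun x y => Subtype.ext (hQcomm x x.2 y y.2)⟩⟩ htrans) (by rw [hcardΩ, hab]; omega)
  exact ⟨F, i1, i2, Nat.odd_iff.2 (FiniteField.odd_card_of_char_ne_two hF), hiso⟩

end Cfsg.Agent.BSWAbstract
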