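import Mathlib
import Cfsg.Agent.Lib.Involutions.BSW.Plus

/-!
# The abstract Brauer–Suzuki–Wall theorem: the case `q = 2k - 1`, element centralizers

Outside the conjugates of `K` there are two kinds of elements: those with `A = -1`, whose
centralizer is abelian of order `m = k - 1`, and the `q² - 1` elements with `A = 0`, which fall
into two classes with centralizers of prime-power order `q`.
-/

set_option autoImplicit false
set_option linter.unusedSectionVars false
set_option linter.unusedVariables false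
set_option linter.style.haveILetI false

namespace Cfsg.Agent.BSWAbstract

open scoped Pointwise

universe u

variable {G : Type u} [Group G] [Fintype G] {t s : G} {K : Subgroup G} {A : G → ℂ} {a c : ℤ}
  {q m : ℕ}

/-- The data of the second case. -/
structure Minus (t s : G) (K : Subgroup G) (A : G → ℂ) (a c : ℤ) (q m : ℕ) : Prop where
  setup : Setup t s K
  deg : Deg K A a c
  ha : a = 1 - 2 * (Nat.card K : ℤ)
  card_G : Nat.card G = 2 * Nat.card K * (q * m)
  hqm : q = 2 * m + 1
  hmk : m + 1 = Nat.card K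

variable (H : Minus t s K A a c q m)
include H

theorem Minus.m_pos : 0 < m := by
  have := H.setup.two_le
  have := H.hmk
  omega

theorem Minus.vals {y : G} (hy : y ∈ outside K) : A y = 0 ∨ A y = -1 :=
  (H.setup.A_values H.deg).1 y hy

theorem Minus.not_both {y : G} (h0 : A y = 0) (h1 : A y = -1) : False := by
  rw [h0] at h1; norm_num at h1

theorem Minus.pairs {y : G} (hy : y ∈ outside K) :
    (A y = 0 → Nat.card {u : G // orderOf u = 2 ∧ orderOf (u * y) = 2} = 0) ∧
      (A y = -1 → Nat.card {u : G // orderOf u = 2 ∧ orderOf (u * y) = 2} = m) := by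
  have := H.setup.two_le
  have := H.hmk
  rcases H.setup.pairs_eq H.deg hy with ⟨-, e'⟩ | ⟨e, -⟩
  · have := H.ha; omega
  refine ⟨fun h0 => ?_, fun h0 => ?_⟩
  · rw [h0, mul_zero] at e
    exact_mod_cast e
  · rw [h0] at e
    have : (Nat.card {u : G // orderOf u = 2 ∧ orderOf (u * y) = 2} : ℂ) = ((m : ℕ) : ℂ) := by
      rw [e, show (Nat.card K : ℂ) = (m : ℂ) + 1 by exact_mod_cast H.hmk.symm]
      ring
    exact_mod_cast this

theorem Minus.no_inverted {y v : G} (hy : y ∈ outside K) (h0 : A y = 0) (hv : orderOf v = 2)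
    (hvy : v * y * v⁻¹ = y⁻¹) : False := by
  have hpos : 0 < Nat.card {u : G // orderOf u = 2 ∧ orderOf (u * y) = 2} :=
    Nat.card_pos_iff.2 ⟨⟨⟨v, hv, (Involutions.Counting.mul_involution_iff hv).2
      ⟨hvy, fun e => hy.2 (e ▸ H.setup.mem_khat_of_invol hv)⟩⟩⟩, inferInstance⟩
  rw [(H.pairs hy).1 h0] at hpos
  omega

theorem Minus.tcent {y : G} (hy : y ∈ outside K) (h0 : A y = -1) :
    SelfCent (Subgroup.centralizer ({y} : Set G)) ∧
      Nat.card (Subgroup.centralizer ({y} : Set G)) = m ∧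
      (∀ z ∈ Subgroup.centralizer ({y} : Set G), z ≠ 1 → z ∈ outside K ∧ A z = -1) ∧
      ∃ u : G, orderOf u = 2 ∧ ∀ z ∈ Subgroup.centralizer ({y} : Set G), u * z * u⁻¹ = z⁻¹ := by
  have hm := H.m_pos
  obtain ⟨hab, hcard, u, hu, hui⟩ := H.setup.cent_of_pairs hy (by rw [(H.pairs hy).2 h0]; omega)
  rw [(H.pairs hy).2 h0] at hcard
  have key : ∀ z ∈ Subgroup.centralizer ({y} : Set G), z ≠ 1 → (z ∈ outside K ∧ A z = -1) ∧
      Subgroup.centralizer ({z} : Set G) = Subgroup.centralizer ({y} : Set G) := by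
    intro z hz hz1
    have hzo := H.setup.outside_cent hy hz hz1
    have hz0 : A z = -1 := (H.vals hzo).resolve_left fun e0 => H.no_inverted hzo e0 hu (hui z hz)
    obtain ⟨-, hc', -⟩ := H.setup.cent_of_pairs hzo (by rw [(H.pairs hzo).2 hz0]; omega)
    rw [(H.pairs hzo).2 hz0] at hc'
    refine ⟨⟨hzo, hz0⟩, (Subgroup.eq_of_le_of_card_ge (fun w hw => mem_cent.2 (congrArg Subtype.val
      (hab.is_comm.comm (⟨w, hw⟩ : Subgroup.centralizer ({y} : Set G)) ⟨z, hz⟩))) (le_of_eq ?_)).symm⟩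
    exact hc'.trans hcard.symm
  exact ⟨fun z hz hz1 => (key z hz hz1).2, hcard, fun z hz hz1 => (key z hz hz1).1, u, hu, hui⟩

theorem Minus.prime_facts {r : ℕ} (hr : r.Prime) :
    (r ∣ q → ¬ r ∣ 2 * Nat.card K ∧ ¬ r ∣ m) ∧ (r ∣ m → ¬ r ∣ 2 * Nat.card K) := by
  have hqm := H.hqm
  have hmk := H.hmk
  obtain ⟨i, hi⟩ := H.setup.k_even
  refine ⟨fun hrq => ⟨fun h1 => ?_, fun h1 => ?_⟩, fun hrm h1 => ?_⟩
  · rw [show 2 * Nat.card K = q + 1 by omega] at h1
    exact hr.not_dvd_one ((Nat.dvd_add_right hrq).1 h1)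
  · rw [hqm] at hrq
    exact hr.not_dvd_one ((Nat.dvd_add_right (dvd_mul_of_dvd_right h1 2)).1 hrq)
  · rcases hr.dvd_mul.1 h1 with h2 | h2
    · rw [(Nat.prime_dvd_prime_iff_eq hr Nat.prime_two).1 h2] at hrm
      omega
    · rw [← hmk] at h2
      exact hr.not_dvd_one ((Nat.dvd_add_right hrm).1 h2)

theorem Minus.not_khat {r : ℕ} (hr : r.Prime) (hrd : r ∣ q * m) {y : G}
    (hy : ∃ n, orderOf y = r ^ n) : y ∉ khat K := by
  rintro ⟨hy1, d, hd⟩
  obtain ⟨n, hn⟩ := hy
  have hn' : orderOf (d⁻¹ * y * d) = r ^ n := by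
    rw [← hn, ← MulAut.conj_inv_apply, MulEquiv.orderOf_eq]
  have hrk : r ∣ Nat.card K := by
    refine dvd_trans ?_ (Subgroup.orderOf_dvd_natCard _ hd)
    rw [hn']
    refine dvd_pow_self r (fun e => hy1 ?_)
    rw [← orderOf_eq_one_iff, hn, e, pow_zero]
  rcases hr.dvd_mul.1 hrd with h1 | h1
  · exact ((H.prime_facts hr).1 h1).1 (dvd_mul_of_dvd_right hrk 2)
  · exact (H.prime_facts hr).2 h1 (dvd_mul_of_dvd_right hrk 2)

theorem Minus.card_U : Nat.card {y : G // y ∈ outside K ∧ A y = 0} = 4 * Nat.card K * m := by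
  have := H.setup.card_zero H.deg
  rw [H.ha] at this
  have h2 : (Nat.card {y : G // y ∈ outside K ∧ A y = 0} : ℤ) = ((4 * Nat.card K * m : ℕ) : ℤ) := by
    rw [this]
    push_cast
    rw [show (m : ℤ) = (Nat.card K : ℤ) - 1 by have := H.hmk; omega]
    ring
  exact_mod_cast h2

theorem Minus.card_T :
    Nat.card {y : G // y ∈ outside K ∧ A y = -1} = q * Nat.card K * (m - 1) := by
  classical
  obtain ⟨-, -, hout⟩ := H.setup.A_values H.deg
  have hU := H.card_U
  rw [Nat.card_eq_fintype_card, Fintype.card_subtype] at hU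
  have hsplit := Finset.card_filter_add_card_filter_not (fun x : G => A x = 0)
    (s := Finset.univ.filter fun x => x ∈ outside K)
  rw [Finset.filter_filter, Finset.filter_filter, hU] at hsplit
  have hT : Finset.univ.filter (fun x : G => x ∈ outside K ∧ ¬A x = 0) =
      Finset.univ.filter (fun x : G => x ∈ outside K ∧ A x = -1) := Finset.filter_congr fun x _ =>
    ⟨fun hx => ⟨hx.1, (H.vals hx.1).resolve_left hx.2⟩,
      fun hx => ⟨hx.1, fun h0 => H.not_both h0 hx.2⟩⟩
  rw [hT] at hsplit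
  rw [Nat.card_eq_fintype_card, Fintype.card_subtype]
  rw [H.card_G] at hout
  have hm := H.m_pos
  have e1 : (q : ℤ) = 2 * (m : ℤ) + 1 := by exact_mod_cast H.hqm
  have e2 : (Nat.card K : ℤ) = (m : ℤ) + 1 := by exact_mod_cast H.hmk.symm
  have e3 : ((Finset.univ.filter fun x : G => x ∈ outside K).card : ℤ) =
      4 * (Nat.card K : ℤ) * m + ((Finset.univ.filter
        fun x : G => x ∈ outside K ∧ A x = -1).card : ℤ) := by exact_mod_cast hsplit.symm
  rw [e3] at hout
  push_cast at hout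
  rw [e1, e2] at hout
  have : ((Finset.univ.filter fun x : G => x ∈ outside K ∧ A x = -1).card : ℤ) =
      (2 * (m : ℤ) + 1) * ((m : ℤ) + 1) * ((m : ℤ) - 1) := by
    refine mul_left_cancel₀ (show (2 * ((m : ℤ) + 1)) ≠ 0 by omega) ?_
    linear_combination hout
  have h' : ((Finset.univ.filter fun x : G => x ∈ outside K ∧ A x = -1).card : ℤ) =
      ((q * Nat.card K * (m - 1) : ℕ) : ℤ) := by
    rw [this, Nat.cast_mul, Nat.cast_mul, Nat.cast_sub hm, e1, e2]
    push_cast; ring
  exact_mod_cast h'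

theorem Minus.U_closed {y z : G} (hy : y ∈ outside K) (h0 : A y = 0)
    (hz : z ∈ Subgroup.centralizer ({y} : Set G)) (hz1 : z ≠ 1) :
    z ∈ outside K ∧ A z = 0 := by
  have hzo := H.setup.outside_cent hy hz hz1
  refine ⟨hzo, (H.vals hzo).resolve_right fun hz0 => ?_⟩
  exact H.not_both h0 ((H.tcent hzo hz0).2.2.1 y (mem_cent.2 (mem_cent.1 hz).symm) hy.1).2

theorem Minus.tcent_index {y : G} (hy : y ∈ outside K) (h0 : A y = -1) {r : ℕ} (hr : r.Prime)
    (hrm : r ∣ m) : ¬ r ∣ (Subgroup.centralizer ({y} : Set G)).index := by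
  intro hd
  have e := (Subgroup.centralizer ({y} : Set G)).card_mul_index
  rw [(H.tcent hy h0).2.1, H.card_G] at e
  have e' : (Subgroup.centralizer ({y} : Set G)).index = 2 * Nat.card K * q :=
    Nat.eq_of_mul_eq_mul_left H.m_pos (e.trans (by ring))
  rw [e'] at hd
  rcases hr.dvd_mul.1 hd with h1 | h1
  · exact (H.prime_facts hr).2 hrm h1
  · exact ((H.prime_facts hr).1 h1).2 hrm

theorem Minus.not_U_of_dvd_m {r : ℕ} (hr : r.Prime) (hrm : r ∣ m) {y : G} (hy : y ∈ outside K)
    (h0 : A y = 0) : ¬ orderOf y = r := by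
  intro hyo
  haveI := Fact.mk hr
  have h2 : 2 ≤ m := hr.two_le.trans (Nat.le_of_dvd H.m_pos hrm)
  obtain ⟨⟨x₀, hx₀, hx₀T⟩⟩ : Nonempty {y : G // y ∈ outside K ∧ A y = -1} := by
    refine (Nat.card_pos_iff.1 ?_).1
    rw [H.card_T]
    have : 0 < q := by rw [H.hqm]; omega
    have : 0 < Nat.card K := Nat.card_pos
    have : 0 < m - 1 := by omega
    positivity
  obtain ⟨hSC, hcard, hA, -⟩ := H.tcent hx₀ hx₀T
  obtain ⟨g, hg⟩ := conj_mem_of_index (H.tcent_index hx₀ hx₀T hr hrm) (y := y)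
    ⟨1, by rw [pow_one, hyo]⟩
  have hne : g⁻¹ * y * g ≠ 1 := fun e => hy.1 (by
    calc y = g * (g⁻¹ * y * g) * g⁻¹ := by group
      _ = 1 := by rw [e]; group)
  refine H.not_both h0 ?_
  rw [show y = g * (g⁻¹ * y * g) * g⁻¹ by group, H.setup.A_class H.deg]
  exact (hA _ hg hne).2

theorem Minus.cent_dvd {y : G} (hy : y ∈ outside K) (h0 : A y = 0) :
    Nat.card (Subgroup.centralizer ({y} : Set G)) ∣ q := by
  have hd := Subgroup.card_subgroup_dvd_card (Subgroup.centralizer ({y} : Set G))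
  rw [H.card_G, show 2 * Nat.card K * (q * m) = 2 * Nat.card K * m * q by ring] at hd
  refine Nat.Coprime.dvd_of_dvd_mul_left (Nat.coprime_of_dvd fun r hr h1 h2 => ?_) hd
  haveI := Fact.mk hr
  obtain ⟨z, hz⟩ := exists_prime_orderOf_dvd_card' r h1
  have hzo : orderOf (z : G) = r := by rw [Subgroup.orderOf_coe, hz]
  have hz1 : (z : G) ≠ 1 := fun e => by rw [e, orderOf_one] at hzo; exact hr.ne_one hzo.symm
  obtain ⟨hzout, hz0⟩ := H.U_closed hy h0 z.2 hz1
  rcases hr.dvd_mul.1 h2 with h3 | h3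
  · by_cases hr2 : r = 2
    · exact hzout.2 (H.setup.mem_khat_of_invol (hzo.trans hr2))
    have hrk : r ∣ Nat.card K := (hr.dvd_mul.1 h3).resolve_left
      (fun e => hr2 ((Nat.prime_dvd_prime_iff_eq hr Nat.prime_two).1 e))
    have hidxK : ¬ r ∣ K.index := by
      have e := K.card_mul_index
      rw [H.card_G] at e
      have e' : K.index = 2 * (q * m) :=
        Nat.eq_of_mul_eq_mul_left Nat.card_pos (e.trans (by ring))
      rw [e']
      intro hd'
      rcases hr.dvd_mul.1 hd' with e1 | e1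
      · exact hr2 ((Nat.prime_dvd_prime_iff_eq hr Nat.prime_two).1 e1)
      rcases hr.dvd_mul.1 e1 with e2 | e2
      · exact ((H.prime_facts hr).1 e2).1 h3
      · exact (H.prime_facts hr).2 e2 h3
    obtain ⟨g, hg⟩ := conj_mem_of_index hidxK (y := (z : G)) ⟨1, by rw [pow_one, hzo]⟩
    exact hzout.2 ⟨hz1, g, hg⟩
  · exact H.not_U_of_dvd_m hr h3 hzout hz0 hzo

omit H in
theorem card_cent_conj (y g : G) :
    Nat.card (Subgroup.centralizer ({g * y * g⁻¹} : Set G)) =
      Nat.card (Subgroup.centralizer ({y} : Set G)) :=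
  Nat.card_congr ((MulAut.conj g⁻¹).toEquiv.subtypeEquiv fun w => by
    rw [cent_conj]; simp [mul_assoc])

/-- The elements with `A = 0` form two classes, with centralizers of order `q`, and elements of
order a prime `r` dividing `q`. -/
theorem Minus.U_structure : ∃ r : ℕ, r.Prime ∧ r ∣ q ∧ ∀ y ∈ outside K, A y = 0 →
    orderOf y = r ∧ Nat.card (Subgroup.centralizer ({y} : Set G)) = q := by
  classical
  have hm := H.m_pos
  have hkpos : 0 < Nat.card K := Nat.card_pos
  have hUpos : 0 < Nat.card {y : G // y ∈ outside K ∧ A y = 0} := by rw [H.card_U]; positivity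
  obtain ⟨⟨x, hx, hx0⟩⟩ := (Nat.card_pos_iff.1 hUpos).1
  have hinv0 : A x⁻¹ = 0 := by rw [H.setup.A_inv_eq H.deg hx, hx0]
  have hclass : ∀ y : G,
      Nat.card {w : G // IsConj y w} * Nat.card (Subgroup.centralizer ({y} : Set G)) =
        2 * Nat.card K * m * q := fun y => by
    rw [Involutions.OrderFormula.class_card_mul, H.card_G]; ring
  have hq : 0 < q := by rw [H.hqm]; omega
  have hge : ∀ y ∈ outside K, A y = 0 → 2 * Nat.card K * m ≤ Nat.card {w : G // IsConj y w} := by
    intro y hy h0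
    refine Nat.le_of_mul_le_mul_right ?_ hq
    rw [← hclass y]
    exact Nat.mul_le_mul_left _ (Nat.le_of_dvd hq (H.cent_dvd hy h0))
  have hnreal : ¬ IsConj x x⁻¹ := fun hr => by
    obtain ⟨u, hu, hui⟩ := Involutions.Counting.exists_involution_inverting x hx.1 hr
      (H.setup.odd_cent hx.1 hx.2)
    exact H.no_inverted hx hx0 hu hui
  set S₁ := Finset.univ.filter (fun w : G => IsConj x w) with hS₁
  set S₂ := Finset.univ.filter (fun w : G => IsConj x⁻¹ w) with hS₂
  set U := Finset.univ.filter (fun w : G => w ∈ outside K ∧ A w = 0) with hUdef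
  have hdisj : Disjoint S₁ S₂ := Finset.disjoint_left.2 fun w h1 h2 => by
    simp only [hS₁, hS₂, Finset.mem_filter, Finset.mem_univ, true_and] at h1 h2
    exact hnreal (h1.trans h2.symm)
  have hsub : S₁ ∪ S₂ ⊆ U := fun w hw => by
    simp only [hS₁, hS₂, hUdef, Finset.mem_union, Finset.mem_filter, Finset.mem_univ, true_and] at hw ⊢
    rcases hw with hw | hw <;> obtain ⟨d, rfl⟩ := isConj_iff.1 hw
    · exact ⟨mem_outside_conj hx, by rw [H.setup.A_class H.deg, hx0]⟩
    · exact ⟨mem_outside_conj (outside_inv hx), by rw [H.setup.A_class H.deg, hinv0]⟩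
  have hUc : U.card = 4 * Nat.card K * m := by
    rw [← H.card_U, Nat.card_eq_fintype_card, Fintype.card_subtype]
  have hc1 : 2 * Nat.card K * m ≤ S₁.card := by
    have := hge x hx hx0
    rwa [Nat.card_eq_fintype_card (α := {w : G // IsConj x w}), Fintype.card_subtype] at this
  have hc2 : 2 * Nat.card K * m ≤ S₂.card := by
    have := hge x⁻¹ (outside_inv hx) hinv0
    rwa [Nat.card_eq_fintype_card (α := {w : G // IsConj x⁻¹ w}), Fintype.card_subtype] at this
  have hle := Finset.card_le_card hsub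
  rw [Finset.card_union_of_disjoint hdisj, hUc] at hle
  have h44 : 4 * Nat.card K * m = 2 * Nat.card K * m + 2 * Nat.card K * m := by ring
  have hUeq : U = S₁ ∪ S₂ := (Finset.eq_of_subset_of_card_le hsub (by
    rw [Finset.card_union_of_disjoint hdisj, hUc]; omega)).symm
  have hCx : Nat.card (Subgroup.centralizer ({x} : Set G)) = q := by
    have h1 := hclass x
    rw [Nat.card_eq_fintype_card (α := {w : G // IsConj x w}), Fintype.card_subtype, ← hS₁,
      show S₁.card = 2 * Nat.card K * m by omega] at h1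
    exact Nat.eq_of_mul_eq_mul_left (by positivity) h1
  have hconjU : ∀ y ∈ outside K, A y = 0 → orderOf y = orderOf x ∧
      Nat.card (Subgroup.centralizer ({y} : Set G)) = q := by
    intro y hy h0
    have hm' : y ∈ U := Finset.mem_filter.2 ⟨Finset.mem_univ _, hy, h0⟩
    rw [hUeq] at hm'
    simp only [hS₁, hS₂, Finset.mem_union, Finset.mem_filter, Finset.mem_univ, true_and] at hm'
    have hcentinv : Subgroup.centralizer ({x⁻¹} : Set G) = Subgroup.centralizer ({x} : Set G) := by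
      ext w
      rw [mem_cent, mem_cent]
      exact ⟨fun e => (Commute.inv_right_iff.1 e : Commute w x), fun e => Commute.inv_right e⟩
    rcases hm' with hw | hw <;> obtain ⟨d, rfl⟩ := isConj_iff.1 hw
    · exact ⟨by rw [← MulAut.conj_apply, MulEquiv.orderOf_eq], by rw [card_cent_conj, hCx]⟩
    · exact ⟨by rw [← MulAut.conj_apply, MulEquiv.orderOf_eq, orderOf_inv],
        by rw [card_cent_conj, hcentinv, hCx]⟩
  obtain ⟨r, hr, hrd⟩ := Nat.exists_prime_and_dvd (mt orderOf_eq_one_iff.1 hx.1)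
  have hxr : orderOf x = r := by
    set y := x ^ (orderOf x / r) with hy
    have hyo : orderOf y = r := orderOf_pow_orderOf_div (orderOf_pos x).ne' hrd
    have hy1 : y ≠ 1 := fun e => by rw [e, orderOf_one] at hyo; exact hr.ne_one hyo.symm
    have hym : y ∈ Subgroup.centralizer ({x} : Set G) :=
      mem_cent.2 ((Commute.refl x).pow_left _).eq
    obtain ⟨h1, h2⟩ := H.U_closed hx hx0 hym hy1
    rw [← (hconjU y h1 h2).1, hyo]
  refine ⟨r, hr, ?_, fun y hy h0 => ⟨(hconjU y hy h0).1.trans hxr, (hconjU y hy h0).2⟩⟩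
  rw [← hCx, ← hxr]
  exact Subgroup.orderOf_dvd_natCard _ (mem_cent.2 rfl)

/-- The normalizer of a centralizer of order `m`. -/
theorem Minus.tnormalizer {y : G} (hy : y ∈ outside K) (h0 : A y = -1) :
    Nat.card (Subgroup.normalizer
      ((Subgroup.centralizer ({y} : Set G) : Subgroup G) : Set G)) = 2 * m := by
  obtain ⟨hSC, hcard, hA, -⟩ := H.tcent hy h0
  have hm2 : 2 ≤ m := by
    haveI : Nontrivial (Subgroup.centralizer ({y} : Set G)) :=
      ⟨⟨⟨y, mem_cent.2 rfl⟩, 1, fun e => hy.1 (congrArg Subtype.val e)⟩⟩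
    have := Finite.one_lt_card (α := Subgroup.centralizer ({y} : Set G))
    omega
  obtain ⟨p, hp, hpm⟩ := Nat.exists_prime_and_dvd (n := m) (by omega)
  haveI := Fact.mk hp
  have hset : hatSet (Subgroup.centralizer ({y} : Set G)) = {z | z ∈ outside K ∧ A z = -1} := by
    ext z
    constructor
    · rintro ⟨hz1, g, hg⟩
      have hne : g⁻¹ * z * g ≠ 1 := fun e => hz1 (by
        calc z = g * (g⁻¹ * z * g) * g⁻¹ := by group
          _ = 1 := by rw [e]; group)
      obtain ⟨h1, h2⟩ := hA _ hg hne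
      have e : g * (g⁻¹ * z * g) * g⁻¹ = z := by group
      exact ⟨e ▸ mem_outside_conj h1, by rw [← e, H.setup.A_class H.deg, h2]⟩
    · rintro ⟨hz, hz0⟩
      obtain ⟨hSC', hcard', -, -⟩ := H.tcent hz hz0
      obtain ⟨g, hg⟩ := selfCent_conj hSC hSC' (r := p) (by rwa [hcard'])
        (H.tcent_index hy h0 hp hpm)
      have hself : z ∈ Subgroup.centralizer ({z} : Set G) := mem_cent.2 rfl
      rw [hg] at hself
      obtain ⟨w, hw, hwz⟩ := hself
      refine ⟨hz.1, g, ?_⟩
      rw [← hwz]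
      simpa [mul_assoc] using hw
  have h1 := selfCent_count hSC
  rw [hset, show Nat.card ({z | z ∈ outside K ∧ A z = -1} : Set G) = q * Nat.card K * (m - 1) from
    H.card_T, hcard, H.card_G] at h1
  refine Nat.eq_of_mul_eq_mul_left (show 0 < q * Nat.card K * (m - 1) from ?_) (h1.trans ?_)
  · have : 0 < q := by rw [H.hqm]; omega
    have : 0 < Nat.card K := Nat.card_pos
    have : 0 < m - 1 := by omega
    positivity
  · ring

end Cfsg.Agent.BSWAbstract
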