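import Mathlib
import Cfsg.Agent.Lib.Involutions.BSW.MinusBasic
import Cfsg.Agent.Lib.CN.Main

/-!
# The abstract Brauer–Suzuki–Wall theorem: the case `q = 2k - 1`, the Sylow `r`-subgroups

The Sylow subgroups for the prime `r ∣ q` are trivial-intersection and self-centralizing.
-/

set_option autoImplicit false
set_option linter.unusedSectionVars false
set_option linter.unusedVariables false
set_option linter.style.haveILetI false

namespace Cfsg.Agent.BSWAbstract

open scoped Pointwise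

universe u

variable {G : Type u} [Group G] [Fintype G] {t s : G} {K : Subgroup G} {A : G → ℂ} {a c : ℤ}
  {q m r : ℕ}

/-- The prime `r` with the properties established in `Minus.U_structure`. -/
structure RData (K : Subgroup G) (A : G → ℂ) (q r : ℕ) : Prop where
  dvd : r ∣ q
  fact : ∀ y ∈ outside K, A y = 0 →
    orderOf y = r ∧ Nat.card (Subgroup.centralizer ({y} : Set G)) = q

theorem nilpotent_of_comm {C : Type u} [Group C] (hc : ∀ a b : C, a * b = b * a) :
    Group.IsNilpotent C := by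
  letI : CommGroup C := { ‹Group C› with mul_comm := hc }
  exact CommGroup.isNilpotent

/-- A proper subgroup of a nilpotent subgroup has a larger normalizer in it. -/
theorem exists_normalizing {I P : Subgroup G} (hPn : Group.IsNilpotent P) (hIP : I ≤ P)
    (hne : I ≠ P) : ∃ y ∈ P, y ∉ I ∧ y ∈ Subgroup.normalizer (I : Set G) := by
  haveI := hPn
  have hlt : I.subgroupOf P < ⊤ := lt_top_iff_ne_top.2 fun htop =>
    hne (le_antisymm hIP (Subgroup.subgroupOf_eq_top.1 htop))
  obtain ⟨y, hy, hyI⟩ := SetLike.exists_of_lt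
    (Group.normalizerCondition_of_isNilpotent (G := P) _ hlt)
  refine ⟨y, y.2, fun hh => hyI (Subgroup.mem_subgroupOf.2 hh), ?_⟩
  rw [Subgroup.mem_normalizer_iff]
  intro w
  by_cases hw : w ∈ P
  · have := Subgroup.mem_normalizer_iff.1 hy ⟨w, hw⟩
    simpa [Subgroup.mem_subgroupOf] using this
  · refine ⟨fun h1 => (hw (hIP h1)).elim, fun h1 => (hw ?_).elim⟩
    have := mul_mem (mul_mem (inv_mem y.2) (hIP h1)) y.2
    simpa [mul_assoc] using this

variable (H : Minus t s K A a c q m) (hR : RData K A q r) [Fact r.Prime]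
include H

/-- A subgroup of odd order is solvable. -/
theorem Minus.solvable_of_odd (M : Subgroup G)
    (hModd : Odd (Nat.card M)) (hR : RData K A q r) : Group.IsSolvable M := by
  have hCN : Cfsg.IsCNGroup M := by
    intro z hz
    have hz1 : (z : G) ≠ 1 := fun e => hz (Subtype.ext e)
    have hnil : Group.IsNilpotent (Subgroup.centralizer ({(z : G)} : Set G)) := by
      by_cases hzk : (z : G) ∈ khat K
      · obtain ⟨-, d, hd⟩ := hzk
        have hz2 : d⁻¹ * (z : G) * d * (d⁻¹ * (z : G) * d) ≠ 1 := fun e => by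
          have h2 : (z : G) ^ 2 = 1 := by
            calc (z : G) ^ 2 = d * (d⁻¹ * (z : G) * d * (d⁻¹ * (z : G) * d)) * d⁻¹ := by
                  rw [sq]; group
              _ = 1 := by rw [e]; group
          have := Subgroup.orderOf_dvd_natCard _ z.2
          rw [orderOf_eq_prime h2 hz1] at this
          exact Nat.not_even_iff_odd.2 hModd (even_iff_two_dvd.2 this)
        have hc := H.setup.cent_eq hd hz2
        refine nilpotent_of_comm (fun p p' => Subtype.ext ?_)

        have key : ∀ w ∈ Subgroup.centralizer ({(z : G)} : Set G), d⁻¹ * w * d ∈ K := by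
          intro w hw
          rw [← hc, ← cent_conj, show d * (d⁻¹ * (z : G) * d) * d⁻¹ = (z : G) by group]
          exact hw
        show (p : G) * p' = p' * p
        calc (p : G) * p' = d * ((d⁻¹ * p * d) * (d⁻¹ * p' * d)) * d⁻¹ := by group
          _ = d * ((d⁻¹ * p' * d) * (d⁻¹ * p * d)) * d⁻¹ := by
            rw [H.setup.comm' (key _ p.2) (key _ p'.2)]
          _ = p' * p := by group
      · rcases H.vals ⟨hz1, hzk⟩ with h0 | h0
        · have hp : IsPGroup r (Subgroup.centralizer ({(z : G)} : Set G)) := by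
            intro w
            refine ⟨1, ?_⟩
            by_cases hw : (w : G) = 1
            · exact Subtype.ext (by simp [hw])
            obtain ⟨hwo, hw0⟩ := H.U_closed ⟨hz1, hzk⟩ h0 w.2 hw
            exact Subtype.ext (by
              rw [pow_one, SubmonoidClass.coe_pow, OneMemClass.coe_one, ← (hR.fact _ hwo hw0).1,
                pow_orderOf_eq_one])
          exact hp.isNilpotent
        · exact nilpotent_of_comm fun p p' =>
            Subtype.ext (selfCent_comm (H.tcent ⟨hz1, hzk⟩ h0).1 p.2 p'.2)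
    have hle : (Subgroup.centralizer ({z} : Set M)).map M.subtype ≤
        Subgroup.centralizer ({(z : G)} : Set G) := by
      rintro _ ⟨y, hy, rfl⟩
      exact mem_cent.2 (congrArg Subtype.val (mem_cent.1 hy))
    haveI := CN.isNilpotent_le hle hnil
    exact Group.nilpotent_of_mulEquiv
      (Subgroup.equivMapOfInjective _ M.subtype M.subtype_injective).symm
  exact CN.isSolvable_of_odd_cn _ M rfl hModd hCN

include hR

theorem Minus.cent_pgroup {y : G} (hy : y ∈ outside K) (h0 : A y = 0) :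
    IsPGroup r (Subgroup.centralizer ({y} : Set G)) := by
  intro w
  refine ⟨1, ?_⟩
  by_cases hw : (w : G) = 1
  · exact Subtype.ext (by simp [hw])
  obtain ⟨hwo, hw0⟩ := H.U_closed hy h0 w.2 hw
  exact Subtype.ext (by
    rw [pow_one, SubmonoidClass.coe_pow, OneMemClass.coe_one, ← (hR.fact _ hwo hw0).1,
      pow_orderOf_eq_one])

theorem Minus.not_dvd_rest : ¬ r ∣ 2 * Nat.card K * m := fun hd => by
  have hr : r.Prime := Fact.out
  rcases hr.dvd_mul.1 hd with h1 | h1
  · exact ((H.prime_facts hr).1 hR.dvd).1 h1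
  · exact ((H.prime_facts hr).1 hR.dvd).2 h1

theorem Minus.sylow_card (P : Sylow r G) : Nat.card (P : Subgroup G) = q := by
  have hr : r.Prime := Fact.out
  have hm := H.m_pos
  have hkpos : 0 < Nat.card K := Nat.card_pos
  obtain ⟨⟨x, hx, hx0⟩⟩ : Nonempty {y : G // y ∈ outside K ∧ A y = 0} := by
    refine (Nat.card_pos_iff.1 ?_).1
    rw [H.card_U]; positivity
  obtain ⟨f, hf⟩ := (H.cent_pgroup hR hx hx0).exists_card_eq
  have hq : q = r ^ f := (hR.fact x hx hx0).2.symm.trans hf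
  rw [P.card_eq_multiplicity, H.card_G,
    show 2 * Nat.card K * (q * m) = 2 * Nat.card K * m * q by ring,
    Nat.factorization_mul (by positivity) (by rw [H.hqm]; omega), Finsupp.add_apply,
    Nat.factorization_eq_zero_of_not_dvd (H.not_dvd_rest hR), zero_add, hq,
    Nat.Prime.factorization_pow hr, Finsupp.single_eq_same]

theorem Minus.sylow_elem (P : Sylow r G) {y : G} (hy : y ∈ (P : Subgroup G)) (hy1 : y ≠ 1) :
    y ∈ outside K ∧ A y = 0 := by
  have hr : r.Prime := Fact.out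
  obtain ⟨n, hn⟩ := IsPGroup.iff_orderOf.1 P.isPGroup' ⟨y, hy⟩
  rw [Subgroup.orderOf_mk] at hn
  have hyo : y ∈ outside K :=
    ⟨hy1, H.not_khat hr (dvd_mul_of_dvd_left hR.dvd m) ⟨n, hn⟩⟩
  refine ⟨hyo, (H.vals hyo).resolve_right fun h0 => ?_⟩
  have hd : r ∣ m := by
    rw [← (H.tcent hyo h0).2.1]
    refine dvd_trans ?_ (Subgroup.orderOf_dvd_natCard _ (mem_cent.2 rfl :
      y ∈ Subgroup.centralizer ({y} : Set G)))
    rw [hn]
    exact dvd_pow_self r (fun e => hy1 (by rw [← orderOf_eq_one_iff, hn, e, pow_zero]))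
  exact ((H.prime_facts hr).1 hR.dvd).2 hd

/-- The normalizer of a non-trivial subgroup consisting of `A = 0` elements has odd order. -/
theorem Minus.normalizer_odd {I : Subgroup G} (hIne : I ≠ ⊥)
    (hI : ∀ y ∈ I, y ≠ 1 → y ∈ outside K ∧ A y = 0) :
    Odd (Nat.card (Subgroup.normalizer (I : Set G))) := by
  rw [← Nat.not_even_iff_odd, even_iff_two_dvd]
  intro hd
  obtain ⟨v, hv⟩ := exists_prime_orderOf_dvd_card' 2 hd
  have hvo : orderOf (v : G) = 2 := by rw [Subgroup.orderOf_coe, hv]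
  have hv2 : (v : G) * v = 1 := by rw [← sq, ← hvo, pow_orderOf_eq_one]
  have hvinv : (v : G)⁻¹ = v := inv_eq_of_mul_eq_one_right hv2
  have hIout : ∀ y ∈ I, y ≠ 1 → y ∈ outside K := fun y hy hy1 => (hI y hy hy1).1
  let f : I → I := fun y => ⟨(y : G)⁻¹ * ((v : G) * y * (v : G)⁻¹),
    I.mul_mem (I.inv_mem y.2) (normalizer_conj_mem v.2 y.2)⟩
  have hinj : Function.Injective f := fun y y' e => by
    have e' : (y : G)⁻¹ * ((v : G) * y * (v : G)⁻¹) = (y' : G)⁻¹ * ((v : G) * y' * (v : G)⁻¹) :=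
      congrArg Subtype.val e
    have := H.setup.not_invol_Q hIout hvo (I.mul_mem y'.2 (I.inv_mem y.2)) (by
      calc (v : G) * ((y' : G) * (y : G)⁻¹) * (v : G)⁻¹
          = (v : G) * y' * (v : G)⁻¹ * ((v : G) * y * (v : G)⁻¹)⁻¹ := by group
        _ = (y' : G) * ((y' : G)⁻¹ * ((v : G) * y' * (v : G)⁻¹)) *
              ((v : G) * y * (v : G)⁻¹)⁻¹ := by group
        _ = (y' : G) * (y : G)⁻¹ := by rw [← e']; group)
    exact Subtype.ext (mul_inv_eq_one.1 this).symm
  obtain ⟨e, he1⟩ : ∃ e : I, (e : G) ≠ 1 := by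
    obtain ⟨y, hy, hy1⟩ := (Subgroup.bot_or_exists_ne_one I).resolve_left hIne
    exact ⟨⟨y, hy⟩, hy1⟩
  obtain ⟨y, rfl⟩ := (Finite.injective_iff_surjective.1 hinj) e
  obtain ⟨hzo, hz0⟩ := hI _ (f y).2 he1
  refine H.no_inverted hzo hz0 hvo ?_
  show (v : G) * ((y : G)⁻¹ * ((v : G) * y * (v : G)⁻¹)) * (v : G)⁻¹ =
    ((y : G)⁻¹ * ((v : G) * y * (v : G)⁻¹))⁻¹
  simp only [mul_inv_rev, inv_inv, hvinv, mul_assoc, hv2, mul_one]

theorem Minus.sylow_ti {P₁ P₂ : Sylow r G} (h12 : P₁ ≠ P₂) : (P₁ : Subgroup G) ⊓ P₂ = ⊥ := by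
  classical
  have hr : r.Prime := Fact.out
  revert P₁ P₂
  by_contra hcon
  push Not at hcon
  obtain ⟨A₁, A₂, hA12, hA0⟩ := hcon
  haveI := Fintype.ofFinite (Sylow r G)
  obtain ⟨⟨P₁, P₂⟩, hmem, hmax⟩ := Finset.exists_max_image
    ((Finset.univ : Finset (Sylow r G × Sylow r G)).filter fun p => p.1 ≠ p.2)
    (fun p => Nat.card ((p.1 : Subgroup G) ⊓ p.2 : Subgroup G))
    ⟨(A₁, A₂), Finset.mem_filter.2 ⟨Finset.mem_univ _, hA12⟩⟩
  have hne : P₁ ≠ P₂ := (Finset.mem_filter.1 hmem).2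
  obtain ⟨I, hIdef⟩ : ∃ I : Subgroup G, I = (P₁ : Subgroup G) ⊓ P₂ := ⟨_, rfl⟩
  have hIne : I ≠ ⊥ := fun e => hA0 (by
    have := hmax (A₁, A₂) (Finset.mem_filter.2 ⟨Finset.mem_univ _, hA12⟩)
    simp only [← hIdef, e, Subgroup.card_bot] at this
    exact Subgroup.eq_bot_of_card_le _ this)
  have hIP : I ≤ (P₁ : Subgroup G) := hIdef ▸ inf_le_left
  have hI2 : I ≤ (P₂ : Subgroup G) := hIdef ▸ inf_le_right
  set M := Subgroup.normalizer (I : Set G) with hM
  have hModd : Odd (Nat.card M) :=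
    H.normalizer_odd hR hIne fun y hy hy1 => H.sylow_elem hR P₁ (hIP hy) hy1
  have hsolv := H.solvable_of_odd M hModd hR
  -- the Sylow subgroups of `M` are not normal
  have hnn : ∀ S : Sylow r M, ¬ (S : Subgroup M).Normal := by
    intro S hSn
    have key : ∀ P : Sylow r G, I ≤ (P : Subgroup G) → I ≠ (P : Subgroup G) →
        (S : Subgroup M).map M.subtype ≤ P ∧
          ∃ y, y ∈ (S : Subgroup M).map M.subtype ∧ y ∉ I := by
      intro P hP hne'
      obtain ⟨y, hyP, hyI, hyM⟩ := exists_normalizing P.isPGroup'.isNilpotent hP hne'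
      have hpM : IsPGroup r ((P : Subgroup G) ⊓ M : Subgroup G) :=
        P.isPGroup'.to_le inf_le_left
      obtain ⟨S', hS'⟩ := (IsPGroup.comap_subtype hpM (K := M)).exists_le_sylow
      have hSS : S' = S := by
        haveI := Sylow.unique_of_normal S hSn
        exact Subsingleton.elim _ _
      have hymem : y ∈ (S : Subgroup M).map M.subtype := ⟨⟨y, hyM⟩,
        (hSS ▸ hS') (show (⟨y, hyM⟩ : M) ∈ ((P : Subgroup G) ⊓ M).subgroupOf M from ⟨hyP, hyM⟩),
        rfl⟩
      refine ⟨?_, y, hymem, hyI⟩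
      obtain ⟨P', hP'⟩ := (S.isPGroup'.map M.subtype).exists_le_sylow
      suffices P' = P by rwa [← this]
      by_contra hPP
      have hsub : (P : Subgroup G) ⊓ M ≤ P' := fun w hw => hP' ⟨⟨w, hw.2⟩,
        (hSS ▸ hS') (show (⟨w, hw.2⟩ : M) ∈ ((P : Subgroup G) ⊓ M).subgroupOf M from hw), rfl⟩
      have hI' : I ≤ (P' : Subgroup G) := (le_inf hP Subgroup.le_normalizer).trans hsub
      have hmx : I = (P : Subgroup G) ⊓ P' := by
        refine Subgroup.eq_of_le_of_card_ge (le_inf hP hI') ?_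
        have := hmax (P, P') (Finset.mem_filter.2 ⟨Finset.mem_univ _, Ne.symm hPP⟩)
        rwa [← hIdef] at this
      exact hyI (hmx ▸ ⟨hyP, hP' hymem⟩)
    have hIn : ∀ P : Sylow r G, (P = P₁ ∨ P = P₂) → I ≠ (P : Subgroup G) := by
      rintro P (rfl | rfl) e
      · exact hne (Sylow.ext (Subgroup.eq_of_le_of_card_ge (e ▸ hI2 : (P : Subgroup G) ≤ P₂)
          (by rw [H.sylow_card hR, H.sylow_card hR])))
      · exact hne (Sylow.ext (Subgroup.eq_of_le_of_card_ge (e ▸ hIP : (P : Subgroup G) ≤ P₁)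
          (by rw [H.sylow_card hR, H.sylow_card hR])).symm)
    obtain ⟨h1, y, hy, hyI⟩ := key P₁ hIP (hIn _ (Or.inl rfl))
    obtain ⟨h2, -⟩ := key P₂ hI2 (hIn _ (Or.inr rfl))
    exact hyI (hIdef ▸ ⟨h1 hy, h2 hy⟩)
  obtain ⟨p, E, g, hp, hpr, hEp, hEne, hgo, hgE⟩ := exists_r_normalizing hsolv hnn
  haveI := Fact.mk hp
  haveI : Nontrivial E := (Subgroup.nontrivial_iff_ne_bot _).2 hEne
  haveI := hEp.center_nontrivial
  obtain ⟨⟨w, hwc⟩, hw1⟩ := exists_ne (1 : Subgroup.center E)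
  have hgwg : g * (w : M) * g⁻¹ ∈ E := normalizer_conj_mem hgE w.2
  have hcomm : Commute (g * (w : M) * g⁻¹) (w : M) :=
    congrArg Subtype.val (Subgroup.mem_center_iff.1 hwc ⟨_, hgwg⟩)
  set z : G := ((w : M) : G) with hz
  set γ : G := (g : G) with hγ
  have hz1 : z ≠ 1 := fun e => hw1 (Subtype.ext (Subtype.ext (Subtype.ext e)))
  have hγo : orderOf γ = r := by rw [hγ, Subgroup.orderOf_coe, hgo]
  have hcz : γ * z * γ⁻¹ ∈ Subgroup.centralizer ({z} : Set G) :=
    mem_cent.2 (congrArg Subtype.val hcomm.eq)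
  by_cases hzk : z ∈ khat K
  · obtain ⟨-, d, hd⟩ := hzk
    have hne2 : d⁻¹ * z * d * (d⁻¹ * z * d) ≠ 1 := fun e => by
      have h2 : z ^ 2 = 1 := by
        calc z ^ 2 = d * (d⁻¹ * z * d * (d⁻¹ * z * d)) * d⁻¹ := by rw [sq]; group
          _ = 1 := by rw [e]; group
      have := Subgroup.orderOf_dvd_natCard _ (show z ∈ M from (w : M).2)
      rw [orderOf_eq_prime h2 hz1] at this
      exact Nat.not_even_iff_odd.2 hModd (even_iff_two_dvd.2 this)
    have hm1 : d⁻¹ * (γ * z * γ⁻¹) * d ∈ K := by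
      rw [← H.setup.cent_eq hd hne2, ← cent_conj, show d * (d⁻¹ * z * d) * d⁻¹ = z by group]
      exact hcz
    have hgH := H.setup.of_conj_mem (g := d⁻¹ * γ * d) hd
      (fun e => hne2 (by rw [e, one_mul])) (by
        rwa [show d⁻¹ * γ * d * (d⁻¹ * z * d) * (d⁻¹ * γ * d)⁻¹ =
          d⁻¹ * (γ * z * γ⁻¹) * d by group])
    have := Subgroup.orderOf_dvd_natCard _ hgH
    rw [← MulAut.conj_inv_apply, MulEquiv.orderOf_eq, hγo, H.setup.card_H] at this
    exact ((H.prime_facts hr).1 hR.dvd).1 this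
  · rcases H.vals ⟨hz1, hzk⟩ with h0 | h0
    · obtain ⟨n, hn⟩ := IsPGroup.iff_orderOf.1 hEp w
      have hzr : r = p ^ n := by
        rw [← (hR.fact z ⟨hz1, hzk⟩ h0).1, ← hn, hz, Subgroup.orderOf_coe, Subgroup.orderOf_coe]
      exact hpr ((Nat.prime_dvd_prime_iff_eq hr hp).1 (hr.dvd_of_dvd_pow (dvd_of_eq hzr))).symm
    · have hγN := mem_normalizer_of_conj (H.tcent ⟨hz1, hzk⟩ h0).1 (mem_cent.2 rfl : z ∈ _) hz1 hcz
      have := Subgroup.orderOf_dvd_natCard _ hγN
      rw [hγo, H.tnormalizer ⟨hz1, hzk⟩ h0] at this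
      rcases hr.dvd_mul.1 this with h2 | h2
      · exact ((H.prime_facts hr).1 hR.dvd).1 (dvd_mul_of_dvd_left h2 _)
      · exact ((H.prime_facts hr).1 hR.dvd).2 h2

theorem Minus.sylow_selfCent (P : Sylow r G) : SelfCent (P : Subgroup G) := by
  intro y hy hy1
  obtain ⟨hyo, h0⟩ := H.sylow_elem hR P hy hy1
  obtain ⟨P', hP'⟩ := (H.cent_pgroup hR hyo h0).exists_le_sylow
  have hC' : Subgroup.centralizer ({y} : Set G) = (P' : Subgroup G) :=
    Subgroup.eq_of_le_of_card_ge hP' (by rw [H.sylow_card hR, (hR.fact y hyo h0).2])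
  rw [hC']
  by_contra hne
  have hPP : P' ≠ P := fun e => hne (by rw [e])
  have : y ∈ (P' : Subgroup G) ⊓ P := ⟨hP' (mem_cent.2 rfl), hy⟩
  rw [H.sylow_ti hR hPP, Subgroup.mem_bot] at this
  exact hy1 this

theorem Minus.sylow_hat (P : Sylow r G) :
    hatSet (P : Subgroup G) = {y | y ∈ outside K ∧ A y = 0} := by
  ext y
  constructor
  · rintro ⟨hy1, g, hg⟩
    have hne : g⁻¹ * y * g ≠ 1 := fun e => hy1 (by
      calc y = g * (g⁻¹ * y * g) * g⁻¹ := by group
        _ = 1 := by rw [e]; group)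
    obtain ⟨h1, h2⟩ := H.sylow_elem hR P hg hne
    have e : g * (g⁻¹ * y * g) * g⁻¹ = y := by group
    exact ⟨e ▸ mem_outside_conj h1, by rw [← e, H.setup.A_class H.deg, h2]⟩
  · rintro ⟨hy, h0⟩
    obtain ⟨g, hg⟩ := conj_mem_of_index P.not_dvd_index (y := y)
      ⟨1, by rw [pow_one, (hR.fact y hy h0).1]⟩
    exact ⟨hy.1, g, hg⟩

theorem Minus.sylow_normalizer_card (P : Sylow r G) :
    Nat.card (Subgroup.normalizer ((P : Subgroup G) : Set G)) = q * m := by
  have hm := H.m_pos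
  have hkpos : 0 < Nat.card K := Nat.card_pos
  have h1 := selfCent_count (H.sylow_selfCent hR P)
  rw [H.sylow_hat hR P,
    show Nat.card ({y | y ∈ outside K ∧ A y = 0} : Set G) = 4 * Nat.card K * m from H.card_U,
    H.sylow_card hR, H.card_G, show q - 1 = 2 * m by rw [H.hqm]; omega] at h1
  refine Nat.eq_of_mul_eq_mul_left (show 0 < 4 * Nat.card K * m by positivity) (h1.trans ?_)
  ring

end Cfsg.Agent.BSWAbstract
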