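import Mathlib
import Cfsg.Agent.Lib.Involutions.BSW.MinusTI

/-!
# The abstract Brauer–Suzuki–Wall theorem: the case `q = 2k - 1`, conclusion
-/

set_option autoImplicit false
set_option linter.unusedSectionVars false
set_option linter.unusedVariables false
set_option linter.style.haveILetI false

namespace Cfsg.Agent.BSWAbstract

open scoped Pointwise

universe u

variable {G : Type u} [Group G] [Fintype G] {t s : G} {K : Subgroup G} {A : G → ℂ} {a c : ℤ}
  {q m : ℕ}

theorem mem_normalizer_of_commute {X : Subgroup G} {d : G} (hd : ∀ x ∈ X, d * x = x * d) :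
    d ∈ Subgroup.normalizer (X : Set G) := by
  rw [Subgroup.mem_normalizer_iff]
  intro x
  constructor
  · intro hx; rwa [hd x hx, mul_inv_cancel_right]
  · intro hx
    have e : d * x * d⁻¹ = x := mul_left_cancel ((hd _ hx).trans (inv_mul_cancel_right (d * x) d))
    rwa [e] at hx

theorem mem_normalizer_of_invert {X : Subgroup G} {u : G} (hu : orderOf u = 2)
    (hui : ∀ x ∈ X, u * x * u⁻¹ = x⁻¹) : u ∈ Subgroup.normalizer (X : Set G) := by
  have hu2 : u * u = 1 := by rw [← sq, ← hu, pow_orderOf_eq_one]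
  rw [Subgroup.mem_normalizer_iff]
  intro x
  constructor
  · intro hx; rw [hui x hx]; exact X.inv_mem hx
  · intro hx
    have h1 := hui _ hx
    rw [inv_eq_of_mul_eq_one_right hu2] at h1 hx
    rw [show u * (u * x * u) * u = (u * u) * x * (u * u) by group, hu2, one_mul, mul_one] at h1
    rw [h1]; exact X.inv_mem hx

theorem Minus.concl (H : Minus t s K A a c q m) : Concl G := by
  classical
  obtain ⟨r, hr, hrq, hfact⟩ := H.U_structure
  haveI := Fact.mk hr
  have hR : RData K A q r := ⟨hrq, hfact⟩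
  obtain ⟨P⟩ : Nonempty (Sylow r G) := inferInstance
  obtain ⟨Q, hQdef⟩ : ∃ Q : Subgroup G, Q = (P : Subgroup G) := ⟨_, rfl⟩
  have hQ : Nat.card Q = q := hQdef ▸ H.sylow_card hR P
  have hSC : SelfCent Q := hQdef ▸ H.sylow_selfCent hR P
  have hN : Nat.card (Subgroup.normalizer (Q : Set G)) = q * m :=
    hQdef ▸ H.sylow_normalizer_card hR P
  have hqm := H.hqm
  have hmk := H.hmk
  have hm := H.m_pos
  have hG : 2 * Nat.card G = Nat.card Q * (Nat.card Q + 1) * (Nat.card Q - 1) := by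
    rw [hQ, H.card_G, show q + 1 = 2 * Nat.card K by omega, show q - 1 = 2 * m by omega]
    ring
  rcases (show m = 1 ∨ 2 ≤ m by omega) with hm1 | hm2
  · refine ⟨Q, ⊥, hG, hSC, inferInstance, by rw [Subgroup.card_bot, hQ]; omega, inf_bot_eq _, ?_,
      fun X hX hX1 => (hX1 (le_bot_iff.1 hX)).elim⟩
    rw [sup_bot_eq]
    exact (Subgroup.eq_of_le_of_card_ge Subgroup.le_normalizer (by rw [hN, hQ, hm1, mul_one])).symm
  have hcop : Nat.Coprime q m := Nat.coprime_of_dvd fun p hp h1 h2 => ((H.prime_facts hp).1 h1).2 h2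
  have hmodd : Odd m := by
    obtain ⟨i, hi⟩ := H.setup.k_even
    rw [Nat.odd_iff]; omega
  -- the complement
  set N := Subgroup.normalizer (Q : Set G) with hNdef
  haveI : (Q.subgroupOf N).Normal := Subgroup.normal_in_normalizer
  have hQN : Nat.card (Q.subgroupOf N) = q :=
    (Nat.card_congr (Subgroup.subgroupOfEquivOfLe Subgroup.le_normalizer).toEquiv).trans hQ
  have hidx : (Q.subgroupOf N).index = m := by
    have e := (Q.subgroupOf N).card_mul_index
    rw [hQN, hN] at e
    exact Nat.eq_of_mul_eq_mul_left (by omega) e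
  obtain ⟨E', hE'⟩ := Subgroup.exists_right_complement'_of_coprime (N := Q.subgroupOf N)
    (by rw [hQN, hidx]; exact hcop)
  obtain ⟨E, hEdef⟩ : ∃ E : Subgroup G, E = E'.map N.subtype := ⟨_, rfl⟩
  have hEcard : Nat.card E = m := by
    rw [hEdef, Subgroup.card_map_of_injective N.subtype_injective]
    have e := hE'.card_mul_card
    rw [hQN, hN] at e
    exact Nat.eq_of_mul_eq_mul_left (by omega) e
  have hEN : E ≤ N := hEdef ▸ Subgroup.map_subtype_le _
  have hQE : Q ⊓ E = ⊥ := by
    refine Subgroup.eq_bot_of_card_eq _ (Nat.eq_one_of_dvd_coprimes hcop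
      (hQ ▸ Subgroup.card_dvd_of_le inf_le_left) (hEcard ▸ Subgroup.card_dvd_of_le inf_le_right))
  have hNQE : N = Q ⊔ E := by
    refine (Subgroup.eq_of_le_of_card_ge (sup_le Subgroup.le_normalizer hEN) ?_).symm
    rw [hN]
    exact Nat.le_of_dvd Nat.card_pos (hcop.mul_dvd_of_dvd_of_dvd
      (hQ ▸ Subgroup.card_dvd_of_le le_sup_left) (hEcard ▸ Subgroup.card_dvd_of_le le_sup_right))
  -- `E` is the centralizer of one of its elements
  have hEs := H.solvable_of_odd E (hEcard.symm ▸ hmodd) hR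
  haveI : Nontrivial E := Finite.one_lt_card_iff_nontrivial.1 (by omega)
  obtain ⟨B, hBn, hBne, hBc⟩ := exists_normal_comm (G := E) hEs
  obtain ⟨b, hbB, hb1⟩ := (Subgroup.bot_or_exists_ne_one B).resolve_left hBne
  have hz1 : (b : G) ≠ 1 := fun e => hb1 (Subtype.ext e)
  have hzo : orderOf (b : G) ∣ m := hEcard ▸ Subgroup.orderOf_dvd_natCard _ b.2
  have hzk : (b : G) ∉ khat K := by
    rintro ⟨-, d, hd⟩
    have h1 := Subgroup.orderOf_dvd_natCard _ hd
    rw [← MulAut.conj_inv_apply, MulEquiv.orderOf_eq, ← hmk] at h1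
    exact hz1 (orderOf_eq_one_iff.1 (Nat.dvd_one.1 ((Nat.dvd_add_right hzo).1 h1)))
  have hz0 : A (b : G) = -1 := (H.vals ⟨hz1, hzk⟩).resolve_left fun h0 => by
    rw [(hfact _ ⟨hz1, hzk⟩ h0).1] at hzo
    exact ((H.prime_facts hr).1 hrq).2 hzo
  obtain ⟨hSCz, hCcard, -, u, hu, hui⟩ := H.tcent ⟨hz1, hzk⟩ hz0
  have hzC : (b : G) ∈ Subgroup.centralizer ({(b : G)} : Set G) := mem_cent.2 rfl
  have hEC : E = Subgroup.centralizer ({(b : G)} : Set G) := by
    refine Subgroup.eq_of_le_of_card_ge (fun g hg => ?_) (le_of_eq (hCcard.trans hEcard.symm))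
    have hgn : g ∈ Subgroup.normalizer
        ((Subgroup.centralizer ({(b : G)} : Set G) : Subgroup G) : Set G) := by
      refine mem_normalizer_of_conj hSCz hzC hz1 (mem_cent.2 ?_)
      exact congrArg Subtype.val (hBc _ (hBn.conj_mem b hbB ⟨g, hg⟩) b hbB)
    have hi2 : ((Subgroup.centralizer ({(b : G)} : Set G)).subgroupOf (Subgroup.normalizer
        ((Subgroup.centralizer ({(b : G)} : Set G) : Subgroup G) : Set G))).index = 2 := by
      have e := ((Subgroup.centralizer ({(b : G)} : Set G)).subgroupOf (Subgroup.normalizer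
        ((Subgroup.centralizer ({(b : G)} : Set G) : Subgroup G) : Set G))).card_mul_index
      rw [Nat.card_congr (Subgroup.subgroupOfEquivOfLe Subgroup.le_normalizer).toEquiv, hCcard,
        H.tnormalizer ⟨hz1, hzk⟩ hz0] at e
      exact Nat.eq_of_mul_eq_mul_left hm (e.trans (mul_comm _ _))
    have h2 : g ^ 2 ∈ Subgroup.centralizer ({(b : G)} : Set G) := by
      simpa [Subgroup.mem_subgroupOf] using Subgroup.sq_mem_of_index_two hi2 ⟨g, hgn⟩
    obtain ⟨j, hj⟩ := hmodd
    have hgm : g ^ m = 1 :=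
      orderOf_dvd_iff_pow_eq_one.1 (hEcard ▸ Subgroup.orderOf_dvd_natCard _ hg)
    have e : g = (g ^ 2) ^ (j + 1) := by
      rw [← pow_mul, show 2 * (j + 1) = m + 1 by omega, pow_succ, hgm, one_mul]
    rw [e]
    exact Subgroup.pow_mem _ h2 _
  rw [← hEC] at hSCz hui hCcard
  have hu1 : u ∉ E := fun hh => by
    have := Subgroup.orderOf_dvd_natCard _ hh
    rw [hu, hEcard] at this
    exact Nat.not_even_iff_odd.2 hmodd (even_iff_two_dvd.2 this)
  have hNE : Subgroup.normalizer (E : Set G) = E ⊔ Subgroup.zpowers u := by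
    refine (Subgroup.eq_of_le_of_card_ge (sup_le Subgroup.le_normalizer
      (Subgroup.zpowers_le.2 (mem_normalizer_of_invert hu hui))) ?_).symm
    have := H.tnormalizer ⟨hz1, hzk⟩ hz0
    rw [← hEC] at this
    rw [this]
    refine Nat.le_of_dvd Nat.card_pos (Nat.Coprime.mul_dvd_of_dvd_of_dvd
      (Nat.coprime_two_left.2 hmodd) ?_ (hEcard ▸ Subgroup.card_dvd_of_le le_sup_left))
    rw [← hu, ← Nat.card_zpowers]
    exact Subgroup.card_dvd_of_le le_sup_right
  refine ⟨Q, E, hG, hSC, ⟨⟨fun p p' => Subtype.ext (selfCent_comm hSCz p.2 p'.2)⟩⟩,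
    by rw [hEcard, hQ]; omega, hQE, hNQE, fun X hX hX1 => ⟨le_antisymm (fun g hg => ?_) ?_, u, hu,
      hu1, hui, hNE⟩⟩
  · obtain ⟨x, hx, hx1⟩ := (Subgroup.bot_or_exists_ne_one X).resolve_left hX1
    exact mem_normalizer_of_conj hSCz (hX hx) hx1 (hX (normalizer_conj_mem hg hx))
  · rw [hNE]
    refine sup_le (fun d hd => mem_normalizer_of_commute fun x hx => selfCent_comm hSCz hd (hX hx))
      (Subgroup.zpowers_le.2 (mem_normalizer_of_invert hu fun x hx => hui x (hX hx)))

end Cfsg.Agent.BSWAbstract
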